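import Mathlib
import Cfsg.Agent.Lib.Helper1.SZConj

/-!
Consequences of the conjugacy part of the Schur–Zassenhaus theorem (`Cfsg.Agent.Lib.Helper1`):
conjugacy *by elements of the normal subgroup*, and conjugacy of elements congruent modulo a normal
subgroup of coprime order.
-/

set_option autoImplicit false

namespace Cfsg.Agent.Lib.Helper67

open Pointwise

variable {G : Type*} [Group G]

/-- If `H ⊔ M = K ⊔ M` with `M` normal of order coprime to those of `H` and `K` (and `M` or `H`
solvable), then `H` and `K` are conjugate by an element of `M`. -/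
theorem exists_mem_conj_smul_eq_of_sup_eq [Finite G] {M H K : Subgroup G} [hM : M.Normal]
    (hsup : H ⊔ M = K ⊔ M) (hH : (Nat.card M).Coprime (Nat.card H))
    (hK : (Nat.card M).Coprime (Nat.card K))
    (hsol : Group.IsSolvable M ∨ Group.IsSolvable H) :
    ∃ m ∈ M, MulAut.conj m • H = K := by
  set L : Subgroup G := H ⊔ M with hL
  have hHL : H ≤ L := le_sup_left
  have hML : M ≤ L := le_sup_right
  have hKL : K ≤ L := by rw [hsup]; exact le_sup_left
  have hcH := Helper1.isComplement'_subgroupOf_sup (M := M) (K := H) (L := L) hH hL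
  have hcK := Helper1.isComplement'_subgroupOf_sup (M := M) (K := K) (L := L) hK hsup
  have hcop : (Nat.card (M.subgroupOf L)).Coprime (Nat.card (H.subgroupOf L)) := by
    rw [Helper1.card_subgroupOf_of_le hML, Helper1.card_subgroupOf_of_le hHL]; exact hH
  have hsol' : Group.IsSolvable (M.subgroupOf L) ∨ Group.IsSolvable (H.subgroupOf L) := by
    rcases hsol with h | h
    · left
      exact Group.isSolvable_of_isSolvable_injective (f := (Subgroup.subgroupOfEquivOfLe hML).toMonoidHom)
        (Subgroup.subgroupOfEquivOfLe hML).injective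
    · right
      exact Group.isSolvable_of_isSolvable_injective (f := (Subgroup.subgroupOfEquivOfLe hHL).toMonoidHom)
        (Subgroup.subgroupOfEquivOfLe hHL).injective
  obtain ⟨l, hl⟩ := Helper1.exists_conj_eq_of_isComplement' (M.subgroupOf L) (H.subgroupOf L)
    (K.subgroupOf L) hcH hcK hcop hsol'
  have hl' : MulAut.conj (l : G) • H = K := Helper1.conj_smul_eq_of_subgroupOf hHL hKL l hl
  -- decompose l = m * h
  have hlmem : (l : G) ∈ ((M ⊔ H : Subgroup G) : Set G) := by
    rw [sup_comm]; exact l.2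
  rw [Subgroup.normal_mul] at hlmem
  obtain ⟨m, hm, h, hh, hmh⟩ := Set.mem_mul.mp hlmem
  refine ⟨m, hm, ?_⟩
  rw [← hl', ← hmh, map_mul, mul_smul, Subgroup.conj_smul_eq_self_of_mem hh]

/-- Two elements of a finite group that are congruent modulo a normal subgroup `M`, both of order
coprime to `|M|`, are conjugate by an element of `M`. -/
theorem exists_mem_conj_eq_of_mk_eq [Finite G] {M : Subgroup G} [hM : M.Normal] {u v : G}
    (huv : (QuotientGroup.mk u : G ⧸ M) = QuotientGroup.mk v)
    (hu : (orderOf u).Coprime (Nat.card M)) (hv : (orderOf v).Coprime (Nat.card M)) :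
    ∃ m ∈ M, m * u * m⁻¹ = v := by
  have huvM : u⁻¹ * v ∈ M := QuotientGroup.eq.1 huv
  have hsup : Subgroup.zpowers u ⊔ M = Subgroup.zpowers v ⊔ M := by
    apply le_antisymm
    · apply sup_le _ le_sup_right
      rw [Subgroup.zpowers_le]
      have : u = v * (u⁻¹ * v)⁻¹ := by group
      rw [this]
      exact Subgroup.mul_mem _ (Subgroup.mem_sup_left (Subgroup.mem_zpowers v))
        (Subgroup.mem_sup_right (M.inv_mem huvM))
    · apply sup_le _ le_sup_right
      rw [Subgroup.zpowers_le]
      have : v = u * (u⁻¹ * v) := by group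
      rw [this]
      exact Subgroup.mul_mem _ (Subgroup.mem_sup_left (Subgroup.mem_zpowers u))
        (Subgroup.mem_sup_right huvM)
  have hcu : (Nat.card M).Coprime (Nat.card (Subgroup.zpowers u)) := by
    rw [Nat.card_zpowers]; exact hu.symm
  have hcv : (Nat.card M).Coprime (Nat.card (Subgroup.zpowers v)) := by
    rw [Nat.card_zpowers]; exact hv.symm
  obtain ⟨m, hm, hconj⟩ := exists_mem_conj_smul_eq_of_sup_eq hsup hcu hcv (Or.inr inferInstance)
  refine ⟨m, hm, ?_⟩
  -- m u m⁻¹ ∈ ⟨v⟩
  have hmem : m * u * m⁻¹ ∈ Subgroup.zpowers v := by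
    rw [← hconj]
    exact (Subgroup.mem_smul_pointwise_iff_exists _ _ _).mpr
      ⟨u, Subgroup.mem_zpowers u, by simp [MulAut.smul_def]⟩
  -- v⁻¹ * (m u m⁻¹) ∈ M ⊓ ⟨v⟩ = ⊥
  have hM' : v⁻¹ * (m * u * m⁻¹) ∈ M := by
    have h1 : v⁻¹ * (m * u * m⁻¹) = (u⁻¹ * v)⁻¹ * (u⁻¹ * (m * u * m⁻¹)) := by group
    rw [h1]
    refine M.mul_mem (M.inv_mem huvM) ?_
    have h2 : u⁻¹ * (m * u * m⁻¹) = (u⁻¹ * m * u⁻¹⁻¹) * m⁻¹ := by group
    rw [h2]
    exact M.mul_mem (hM.conj_mem m hm u⁻¹) (M.inv_mem hm)
  have hZ : v⁻¹ * (m * u * m⁻¹) ∈ Subgroup.zpowers v :=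
    Subgroup.mul_mem _ (Subgroup.inv_mem _ (Subgroup.mem_zpowers v)) hmem
  have hdisj : Disjoint M (Subgroup.zpowers v) := Subgroup.disjoint_of_coprime_natCard hcv
  have := (Subgroup.disjoint_def.1 hdisj) hM' hZ
  exact (inv_mul_eq_one.1 this).symm

end Cfsg.Agent.Lib.Helper67
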