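import Mathlib

/-!
# Definitions for the `S₃` fixed-point-free theorem (Shult), S4305  (helper67)

An abstract acting group `𝔸` generated by `f` (order 3) and `h` (an involution inverting `f`),
acting on a finite group `Q` via `ψ : 𝔸 →* MulAut Q`, on an `𝔽_p`-module `V` via
`σ : Representation (ZMod p) 𝔸 V`, and `Q` acts on `V` via `ρ : Representation (ZMod p) Q V`,
compatibly.
-/

set_option autoImplicit false

namespace Cfsg.Agent.Lib.Helper67.S3

/-- `f` has order 3, `h` is an involution inverting `f`, and they generate `𝔸`. -/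
structure Rel {𝔸 : Type*} [Group 𝔸] (f h : 𝔸) : Prop where
  f3 : f ^ 3 = 1
  h2 : h ^ 2 = 1
  hf : h * f * h⁻¹ = f⁻¹
  f_ne : f ≠ 1
  h_ne : h ≠ 1
  gen : Subgroup.closure {f, h} = ⊤

section Defs

variable {𝔸 Q V : Type*} [Group 𝔸] [Group Q] [AddCommGroup V] {p : ℕ} [Module (ZMod p) V]

/-- The configuration: `𝔸 = ⟨f, h⟩ ≅ S₃` acts on `Q` and on the faithful `𝔽_p Q`-module `V`
compatibly, without nontrivial fixed points on `Q` and on `V`; orders prime to `6`. -/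
structure Ctx (f h : 𝔸) (ψ : 𝔸 →* MulAut Q) (ρ : Representation (ZMod p) Q V)
    (σ : Representation (ZMod p) 𝔸 V) : Prop where
  rel : Rel f h
  p6 : p.Coprime 6
  q6 : (Nat.card Q).Coprime 6
  compat : ∀ (a : 𝔸) (q : Q) (v : V), σ a (ρ q v) = ρ (ψ a q) (σ a v)
  faithful : ∀ q : Q, ρ q = 1 → q = 1
  fixQ : ∀ q : Q, ψ f q = q → ψ h q = q → q = 1
  fixV : ∀ v : V, σ f v = v → σ h v = v → v = 0

/-- `𝔸`-invariant subgroup of `Q`. -/
def InvQ (ψ : 𝔸 →* MulAut Q) (K : Subgroup Q) : Prop := ∀ (a : 𝔸), ∀ x ∈ K, ψ a x ∈ K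

/-- `Q`- and `𝔸`-invariant submodule of `V`. -/
def InvV (ρ : Representation (ZMod p) Q V) (σ : Representation (ZMod p) 𝔸 V)
    (W : Submodule (ZMod p) V) : Prop :=
  (∀ (q : Q), ∀ w ∈ W, ρ q w ∈ W) ∧ (∀ (a : 𝔸), ∀ w ∈ W, σ a w ∈ W)

/-- `O_p(Q) = 1`. -/
def HOp (p : ℕ) (Q : Type*) [Group Q] : Prop :=
  ∀ N : Subgroup Q, N.Normal → IsPGroup p N → N = ⊥

/-- Every proper `𝔸`-invariant subgroup of `Q` has a `p`-group as derived subgroup. -/
def H2 (p : ℕ) (ψ : 𝔸 →* MulAut Q) : Prop :=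
  ∀ K : Subgroup Q, InvQ ψ K → K ≠ ⊤ → IsPGroup p ↥⁅K, K⁆

/-- Two invariant submodules with trivial intersection: one of them is trivial. -/
def H3 (ρ : Representation (ZMod p) Q V) (σ : Representation (ZMod p) 𝔸 V) : Prop :=
  ∀ W₁ W₂ : Submodule (ZMod p) V, InvV ρ σ W₁ → InvV ρ σ W₂ → W₁ ⊓ W₂ = ⊥ → W₁ = ⊥ ∨ W₂ = ⊥

/-- Fixed vectors of a subgroup `N` of `Q`. -/
def CV (ρ : Representation (ZMod p) Q V) (N : Subgroup Q) : Submodule (ZMod p) V where
  carrier := {v | ∀ x ∈ N, ρ x v = v}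
  add_mem' := fun {a b} ha hb x hx => by rw [map_add, ha x hx, hb x hx]
  zero_mem' := fun x _ => map_zero _
  smul_mem' := fun c v hv x hx => by rw [map_smul, hv x hx]

theorem mem_CV {ρ : Representation (ZMod p) Q V} {N : Subgroup Q} {v : V} :
    v ∈ CV ρ N ↔ ∀ x ∈ N, ρ x v = v := Iff.rfl

/-- Fixed vectors of a linear map. -/
def FixL (T : V →ₗ[ZMod p] V) : Submodule (ZMod p) V where
  carrier := {v | T v = v}
  add_mem' := fun {a b} ha hb => by
    show T (a + b) = a + b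
    rw [map_add, show T a = a from ha, show T b = b from hb]
  zero_mem' := map_zero _
  smul_mem' := fun c v hv => by
    show T (c • v) = c • v
    rw [map_smul, show T v = v from hv]

theorem mem_FixL {T : V →ₗ[ZMod p] V} {v : V} : v ∈ FixL T ↔ T v = v := Iff.rfl

/-- The structure of a minimal counterexample with trivial centre: `Q = S ⋊ T`. -/
structure Struct (ψ : 𝔸 →* MulAut Q) (p : ℕ) (S T : Subgroup Q) (s t : ℕ) : Prop where
  hs : s.Prime
  ht : t.Prime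
  hsp : s ≠ p
  hst : s ≠ t
  S_normal : S.Normal
  S_inv : InvQ ψ S
  T_inv : InvQ ψ T
  S_comm : ∀ x ∈ S, ∀ y ∈ S, x * y = y * x
  S_exp : ∀ x ∈ S, x ^ s = 1
  T_comm : ∀ x ∈ T, ∀ y ∈ T, x * y = y * x
  T_exp : ∀ x ∈ T, x ^ t = 1
  sup : S ⊔ T = ⊤
  S_ne : S ≠ ⊥
  T_ne : T ≠ ⊥
  cST : ∀ x ∈ S, (∀ y ∈ T, y * x = x * y) → x = 1
  cTS : ∀ y ∈ T, (∀ x ∈ S, y * x = x * y) → y = 1
  T_min : ∀ T₀ : Subgroup Q, T₀ ≤ T → InvQ ψ T₀ → T₀ = ⊥ ∨ T₀ = T
  S_min : ∀ S₀ : Subgroup Q, S₀ ≤ S → S₀.Normal → InvQ ψ S₀ → S₀ = ⊥ ∨ S₀ = S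

end Defs

/-- The core statement (to be proved in `S3Core`): in the configuration `Ctx` with `Q` solvable,
`O_p(Q) = 1`, `H2` and `H3`, the group `Q` is abelian. -/
def CoreStatement.{u} : Prop :=
  ∀ {𝔸 : Type} {Q V : Type u} [Group 𝔸] [Group Q] [Finite Q] [AddCommGroup V] [Finite V]
    {p : ℕ} [Fact p.Prime] [Module (ZMod p) V] {f h : 𝔸} {ψ : 𝔸 →* MulAut Q}
    {ρ : Representation (ZMod p) Q V} {σ : Representation (ZMod p) 𝔸 V},
    Ctx f h ψ ρ σ → Group.IsSolvable Q → HOp p Q → H2 p ψ → H3 ρ σ → ∀ x y : Q, x * y = y * x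

/-- The `3`-cycle of `Perm (Fin 3)`. -/
def f₀ : Equiv.Perm (Fin 3) := finRotate 3

/-- A transposition of `Perm (Fin 3)`. -/
def h₀ : Equiv.Perm (Fin 3) := Equiv.swap 0 1

theorem rel₀ : Rel f₀ h₀ where
  f3 := by decide
  h2 := by decide
  hf := by decide
  f_ne := by decide
  h_ne := by decide
  gen := by
    rw [Subgroup.eq_top_iff']
    have hf : f₀ ∈ Subgroup.closure ({f₀, h₀} : Set (Equiv.Perm (Fin 3))) :=
      Subgroup.subset_closure (by simp)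
    have hh : h₀ ∈ Subgroup.closure ({f₀, h₀} : Set (Equiv.Perm (Fin 3))) :=
      Subgroup.subset_closure (by simp)
    have key : ∀ x : Equiv.Perm (Fin 3), x = 1 ∨ x = f₀ ∨ x = f₀ * f₀ ∨ x = h₀ ∨ x = f₀ * h₀ ∨
        x = f₀ * f₀ * h₀ := by decide
    intro x
    rcases key x with rfl | rfl | rfl | rfl | rfl | rfl
    · exact one_mem _
    · exact hf
    · exact mul_mem hf hf
    · exact hh
    · exact mul_mem hf hh
    · exact mul_mem (mul_mem hf hf) hh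

end Cfsg.Agent.Lib.Helper67.S3
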