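import Mathlib
import Cfsg.Agent.Lib.Helper67.S3Defs

/-!
# Basic facts for the `S₃` fixed-point-free theorem (helper67)
-/

set_option autoImplicit false

namespace Cfsg.Agent.Lib.Helper67.S3

section RelLemmas

variable {𝔸 : Type*} [Group 𝔸] {f h : 𝔸}

theorem Rel.orderOf_f (r : Rel f h) : orderOf f = 3 :=
  orderOf_eq_prime r.f3 r.f_ne

theorem Rel.orderOf_h (r : Rel f h) : orderOf h = 2 :=
  orderOf_eq_prime r.h2 r.h_ne

theorem Rel.h_inv (r : Rel f h) : h⁻¹ = h := by
  have := r.h2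
  rw [pow_two] at this
  exact inv_eq_of_mul_eq_one_left this

theorem Rel.f_inv (r : Rel f h) : f⁻¹ = f * f := by
  have := r.f3
  rw [pow_succ, pow_two] at this
  exact inv_eq_of_mul_eq_one_right (by rw [← mul_assoc]; exact this)

theorem Rel.hf' (r : Rel f h) : h * f = f⁻¹ * h := by
  have := r.hf
  calc h * f = (h * f * h⁻¹) * h := by group
    _ = f⁻¹ * h := by rw [this]

theorem Rel.hfinv (r : Rel f h) : h * f⁻¹ = f * h := by
  have h1 : h * f⁻¹ * h⁻¹ = f := by
    calc h * f⁻¹ * h⁻¹ = (h * f * h⁻¹)⁻¹ := by group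
      _ = f := by rw [r.hf, inv_inv]
  calc h * f⁻¹ = (h * f⁻¹ * h⁻¹) * h := by group
    _ = f * h := by rw [h1]

/-- the relations hold for the conjugate involution `f h f⁻¹` -/
theorem Rel.conj (r : Rel f h) : Rel f (f * h * f⁻¹) where
  f3 := r.f3
  h2 := by
    have := r.h2
    rw [pow_two] at this ⊢
    calc f * h * f⁻¹ * (f * h * f⁻¹) = f * (h * h) * f⁻¹ := by group
      _ = 1 := by rw [this]; group
  hf := by
    calc f * h * f⁻¹ * f * (f * h * f⁻¹)⁻¹ = f * (h * f * h⁻¹) * f⁻¹ := by group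
      _ = f⁻¹ := by rw [r.hf]; group
  f_ne := r.f_ne
  h_ne := by
    intro h1
    apply r.h_ne
    calc h = f⁻¹ * (f * h * f⁻¹) * f := by group
      _ = 1 := by rw [h1]; group
  gen := by
    rw [eq_top_iff, ← r.gen, Subgroup.closure_le]
    have hf : f ∈ Subgroup.closure ({f, f * h * f⁻¹} : Set 𝔸) :=
      Subgroup.subset_closure (by simp)
    have hh : f * h * f⁻¹ ∈ Subgroup.closure ({f, f * h * f⁻¹} : Set 𝔸) :=
      Subgroup.subset_closure (by simp)
    rintro x (rfl | rfl)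
    · exact hf
    · have h3 := mul_mem (mul_mem (inv_mem hf) hh) hf
      have h4 : f⁻¹ * (f * x * f⁻¹) * f = x := by group
      rw [h4] at h3
      exact h3

/-- induction principle: a property of elements of `𝔸` closed under products which holds for `1`,
`f` and `h` holds everywhere -/
theorem Rel.induction (r : Rel f h) (P : 𝔸 → Prop) (h1 : P 1) (hf : P f) (hh : P h)
    (hmul : ∀ a b, P a → P b → P (a * b)) : ∀ a, P a := by
  intro a
  have ha : a ∈ Subgroup.closure ({f, h} : Set 𝔸) := by rw [r.gen]; trivial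
  have key : ∀ a ∈ Subgroup.closure ({f, h} : Set 𝔸), P a ∧ P a⁻¹ := by
    intro a ha
    induction ha using Subgroup.closure_induction with
    | mem x hx =>
      rcases hx with rfl | rfl
      · exact ⟨hf, by rw [r.f_inv]; exact hmul _ _ hf hf⟩
      · exact ⟨hh, by rw [r.h_inv]; exact hh⟩
    | one => exact ⟨h1, by rw [inv_one]; exact h1⟩
    | mul x y _ _ hx hy => exact ⟨hmul _ _ hx.1 hy.1, by rw [mul_inv_rev]; exact hmul _ _ hy.2 hx.2⟩
    | inv x _ hx => exact ⟨hx.2, by rw [inv_inv]; exact hx.1⟩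
  exact (key a ha).1

end RelLemmas

section General

variable {Q : Type*} [Group Q] [Finite Q]

/-- restriction of an automorphism to an invariant subgroup, as an endomorphism -/
def resHom (τ : MulAut Q) (K : Subgroup Q) (hK : ∀ x ∈ K, τ x ∈ K) : ↥K →* ↥K where
  toFun x := ⟨τ x, hK x x.2⟩
  map_one' := Subtype.ext (by show τ ((1 : ↥K) : Q) = 1; rw [Subgroup.coe_one, map_one])
  map_mul' x y := Subtype.ext (by
    show τ ((x * y : ↥K) : Q) = τ x * τ y
    rw [Subgroup.coe_mul, map_mul])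

omit [Finite Q] in
theorem resHom_fpf (τ : MulAut Q) (K : Subgroup Q) (hK : ∀ x ∈ K, τ x ∈ K)
    (hfpf : ∀ x ∈ K, τ x = x → x = 1) : MonoidHom.FixedPointFree (resHom τ K hK) := by
  intro x hx
  exact Subtype.ext (hfpf x x.2 (congrArg Subtype.val hx))

/-- a fixed-point-free involutory automorphism of a subgroup inverts it -/
theorem inv_of_fpf_involution (τ : MulAut Q) (K : Subgroup Q) (hK : ∀ x ∈ K, τ x ∈ K)
    (h2 : ∀ x ∈ K, τ (τ x) = x) (hfpf : ∀ x ∈ K, τ x = x → x = 1) : ∀ x ∈ K, τ x = x⁻¹ := by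
  let φ : ↥K →* ↥K := resHom τ K hK
  have hφ : MonoidHom.FixedPointFree φ := resHom_fpf τ K hK hfpf
  have hinv : Function.Involutive φ := fun x => Subtype.ext (h2 x x.2)
  intro x hx
  have := congrFun (hφ.coe_eq_inv_of_involutive hinv) ⟨x, hx⟩
  exact congrArg Subtype.val this

/-- a subgroup with a fixed-point-free involutory automorphism is abelian -/
theorem comm_of_fpf_involution (τ : MulAut Q) (K : Subgroup Q) (hK : ∀ x ∈ K, τ x ∈ K)
    (h2 : ∀ x ∈ K, τ (τ x) = x) (hfpf : ∀ x ∈ K, τ x = x → x = 1) :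
    ∀ x ∈ K, ∀ y ∈ K, x * y = y * x := by
  have hinv := inv_of_fpf_involution τ K hK h2 hfpf
  intro x hx y hy
  have h1 := hinv (x * y) (mul_mem hx hy)
  rw [map_mul, hinv x hx, hinv y hy, mul_inv_rev] at h1
  have := congrArg (·⁻¹) h1
  simp only [inv_inv, mul_inv_rev] at this
  exact this.symm

/-- a fixed-point-free automorphism of order 3 of a subgroup: `x τ(x) τ²(x) = 1` -/
theorem prod3_of_fpf (τ : MulAut Q) (K : Subgroup Q) (hK : ∀ x ∈ K, τ x ∈ K)
    (h3 : ∀ x ∈ K, τ (τ (τ x)) = x) (hfpf : ∀ x ∈ K, τ x = x → x = 1) :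
    ∀ x ∈ K, x * τ x * τ (τ x) = 1 := by
  let φ : ↥K →* ↥K := resHom τ K hK
  have hφ : MonoidHom.FixedPointFree φ := resHom_fpf τ K hK hfpf
  have hn : φ^[3] = _root_.id := by
    funext x
    exact Subtype.ext (h3 x x.2)
  intro x hx
  have := hφ.prod_pow_eq_one hn ⟨x, hx⟩
  have h' := congrArg Subtype.val this
  simp only [List.range_succ, List.range_zero, List.nil_append, List.cons_append, List.map_cons,
    List.map_nil, List.prod_cons, List.prod_nil, mul_one, Function.iterate_zero,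
    Function.iterate_succ, Function.comp, id] at h'
  rw [mul_assoc]
  exact h'

/-- the commutator map of a fixed-point-free automorphism of a subgroup is surjective -/
theorem exists_commutator_of_fpf (τ : MulAut Q) (K : Subgroup Q) (hK : ∀ x ∈ K, τ x ∈ K)
    (hfpf : ∀ x ∈ K, τ x = x → x = 1) : ∀ y ∈ K, ∃ x ∈ K, y = x⁻¹ * τ x := by
  let φ : ↥K →* ↥K := resHom τ K hK
  have hφ : MonoidHom.FixedPointFree φ := resHom_fpf τ K hK hfpf
  intro y hy
  obtain ⟨x, hx⟩ := hφ.commutatorMap_surjective ⟨y, hy⟩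
  refine ⟨x⁻¹, inv_mem x.2, ?_⟩
  have := congrArg Subtype.val hx
  rw [MonoidHom.commutatorMap_apply] at this
  have h' : (x : Q) / τ x = y := this
  rw [← h', map_inv, inv_inv, div_eq_mul_inv]

end General

section VectorLemmas

variable {V : Type*} [AddCommGroup V] {p : ℕ} [Module (ZMod p) V]

/-- an involutory linear map without nonzero fixed vectors on an invariant submodule is `-1` -/
theorem neg_of_fpf_involution (T : V →ₗ[ZMod p] V) (W : Submodule (ZMod p) V)
    (hW : ∀ w ∈ W, T w ∈ W) (h2 : ∀ w ∈ W, T (T w) = w) (hfpf : ∀ w ∈ W, T w = w → w = 0) :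
    ∀ w ∈ W, T w = -w := by
  intro w hw
  have h1 : T (w + T w) = w + T w := by rw [map_add, h2 w hw, add_comm]
  have := hfpf _ (W.add_mem hw (hW w hw)) h1
  exact (neg_eq_of_add_eq_zero_right this).symm

end VectorLemmas

section CtxLemmas

variable {𝔸 Q V : Type*} [Group 𝔸] [Group Q] [AddCommGroup V] {p : ℕ} [Module (ZMod p) V]
  {f h : 𝔸} {ψ : 𝔸 →* MulAut Q} {ρ : Representation (ZMod p) Q V}
  {σ : Representation (ZMod p) 𝔸 V}

theorem psi_inv_apply (ψ : 𝔸 →* MulAut Q) (a : 𝔸) (x : Q) : ψ a⁻¹ (ψ a x) = x := by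
  rw [← MulAut.mul_apply, ← map_mul, inv_mul_cancel, map_one]; rfl

theorem psi_apply_inv (ψ : 𝔸 →* MulAut Q) (a : 𝔸) (x : Q) : ψ a (ψ a⁻¹ x) = x := by
  rw [← MulAut.mul_apply, ← map_mul, mul_inv_cancel, map_one]; rfl

theorem sigma_inv_apply (σ : Representation (ZMod p) 𝔸 V) (a : 𝔸) (v : V) :
    σ a⁻¹ (σ a v) = v := by
  rw [← Module.End.mul_apply, ← map_mul, inv_mul_cancel, map_one]; rfl

theorem sigma_apply_inv (σ : Representation (ZMod p) 𝔸 V) (a : 𝔸) (v : V) :
    σ a (σ a⁻¹ v) = v := by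
  rw [← Module.End.mul_apply, ← map_mul, mul_inv_cancel, map_one]; rfl

theorem Rel.psi_f3 (r : Rel f h) (ψ : 𝔸 →* MulAut Q) (x : Q) : ψ f (ψ f (ψ f x)) = x := by
  rw [← MulAut.mul_apply, ← MulAut.mul_apply, ← map_mul, ← map_mul, ← pow_two, ← pow_succ, r.f3,
    map_one]; rfl

theorem Rel.psi_h2 (r : Rel f h) (ψ : 𝔸 →* MulAut Q) (x : Q) : ψ h (ψ h x) = x := by
  rw [← MulAut.mul_apply, ← map_mul, ← pow_two, r.h2, map_one]; rfl

theorem Rel.psi_hf (r : Rel f h) (ψ : 𝔸 →* MulAut Q) (x : Q) :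
    ψ h (ψ f x) = ψ f⁻¹ (ψ h x) := by
  rw [← MulAut.mul_apply, ← MulAut.mul_apply, ← map_mul, ← map_mul, r.hf']

theorem Rel.sigma_f3 (r : Rel f h) (σ : Representation (ZMod p) 𝔸 V) (v : V) :
    σ f (σ f (σ f v)) = v := by
  rw [← Module.End.mul_apply, ← Module.End.mul_apply, ← map_mul, ← map_mul, ← pow_two,
    ← pow_succ, r.f3, map_one]; rfl

theorem Rel.sigma_h2 (r : Rel f h) (σ : Representation (ZMod p) 𝔸 V) (v : V) :
    σ h (σ h v) = v := by
  rw [← Module.End.mul_apply, ← map_mul, ← pow_two, r.h2, map_one]; rfl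

theorem Rel.sigma_hf (r : Rel f h) (σ : Representation (ZMod p) 𝔸 V) (v : V) :
    σ h (σ f v) = σ f⁻¹ (σ h v) := by
  rw [← Module.End.mul_apply, ← Module.End.mul_apply, ← map_mul, ← map_mul, r.hf']

/-- `H F H = F²` on `V` -/
theorem Rel.sigma_hfh (r : Rel f h) (σ : Representation (ZMod p) 𝔸 V) (v : V) :
    σ h (σ f (σ h v)) = σ f (σ f v) := by
  rw [r.sigma_hf, r.sigma_h2, r.f_inv, map_mul]; rfl

/-- invariance under `f` and `h` suffices -/
theorem invQ_of_fh (r : Rel f h) (K : Subgroup Q) (hf : ∀ x ∈ K, ψ f x ∈ K)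
    (hh : ∀ x ∈ K, ψ h x ∈ K) : InvQ ψ K := by
  apply r.induction (fun a => ∀ x ∈ K, ψ a x ∈ K)
  · intro x hx; rw [map_one]; exact hx
  · exact hf
  · exact hh
  · intro a b ha hb x hx
    rw [map_mul]; exact ha _ (hb x hx)

/-- a vector fixed by `f` and `h` is fixed by all of `𝔸` -/
theorem Rel.sigma_fix_all (r : Rel f h) (σ : Representation (ZMod p) 𝔸 V) {v : V}
    (hf : σ f v = v) (hh : σ h v = v) : ∀ a, σ a v = v := by
  apply r.induction (fun a => σ a v = v)
  · rw [map_one]; rfl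
  · exact hf
  · exact hh
  · intro a b ha hb
    rw [map_mul, Module.End.mul_apply, hb, ha]

/-- an element fixed by `f` and `h` is fixed by all of `𝔸` -/
theorem Rel.psi_fix_all (r : Rel f h) (ψ : 𝔸 →* MulAut Q) {x : Q}
    (hf : ψ f x = x) (hh : ψ h x = x) : ∀ a, ψ a x = x := by
  apply r.induction (fun a => ψ a x = x)
  · rw [map_one]; rfl
  · exact hf
  · exact hh
  · intro a b ha hb
    rw [map_mul, MulAut.mul_apply, hb, ha]

/-- The configuration is symmetric in the three involutions. -/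
theorem Ctx.conj (c : Ctx f h ψ ρ σ) : Ctx f (f * h * f⁻¹) ψ ρ σ where
  rel := c.rel.conj
  p6 := c.p6
  q6 := c.q6
  compat := c.compat
  faithful := c.faithful
  fixQ := by
    intro q hf hh
    apply c.fixQ q hf
    have hf' : ψ f⁻¹ q = q := by
      conv_lhs => rw [← hf]
      exact psi_inv_apply ψ f q
    rw [map_mul, map_mul, MulAut.mul_apply, MulAut.mul_apply, hf'] at hh
    have := congrArg (ψ f⁻¹) hh
    rwa [psi_inv_apply, hf'] at this
  fixV := by
    intro v hf hh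
    apply c.fixV v hf
    have hf' : σ f⁻¹ v = v := by
      conv_lhs => rw [← hf]
      exact sigma_inv_apply σ f v
    rw [map_mul, map_mul, Module.End.mul_apply, Module.End.mul_apply, hf'] at hh
    have := congrArg (σ f⁻¹) hh
    rwa [sigma_inv_apply, hf'] at this

variable [Finite Q]

/-- `h` inverts the fixed points of `f` on `Q`. -/
theorem Ctx.psi_h_of_fix (c : Ctx f h ψ ρ σ) {x : Q} (hx : ψ f x = x) : ψ h x = x⁻¹ := by
  let C : Subgroup Q :=
    { carrier := {x | ψ f x = x}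
      mul_mem' := fun {a b} ha hb => by
        show ψ f (a * b) = a * b
        rw [map_mul, show ψ f a = a from ha, show ψ f b = b from hb]
      one_mem' := map_one _
      inv_mem' := fun {a} ha => by
        show ψ f a⁻¹ = a⁻¹
        rw [map_inv, show ψ f a = a from ha] }
  have hfinv : ∀ y : Q, ψ f y = y → ψ f⁻¹ y = y := by
    intro y hy
    conv_lhs => rw [← hy]
    exact psi_inv_apply ψ f y
  have hC : ∀ y ∈ C, ψ h y ∈ C := by
    intro y hy
    show ψ f (ψ h y) = ψ h y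
    have h1 := c.rel.psi_hf ψ (ψ h y)
    -- ψ h (ψ f (ψ h y)) = ψ f⁻¹ (ψ h (ψ h y)) = ψ f⁻¹ y = y
    rw [c.rel.psi_h2, hfinv y hy] at h1
    have := congrArg (ψ h) h1
    rwa [c.rel.psi_h2] at this
  exact inv_of_fpf_involution (ψ h) C hC (fun y _ => c.rel.psi_h2 ψ y)
    (fun y hy hhy => c.fixQ y hy hhy) x hx

omit [Finite Q] in
/-- `h` acts as `-1` on the fixed vectors of `f`. -/
theorem Ctx.sigma_h_of_fix (c : Ctx f h ψ ρ σ) {v : V} (hv : σ f v = v) : σ h v = -v := by
  have hfinv : ∀ y : V, σ f y = y → σ f⁻¹ y = y := by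
    intro y hy
    conv_lhs => rw [← hy]
    exact sigma_inv_apply σ f y
  have hC : ∀ y ∈ FixL (σ f), σ h y ∈ FixL (σ f) := by
    intro y hy
    show σ f (σ h y) = σ h y
    have h1 := c.rel.sigma_hf σ (σ h y)
    rw [c.rel.sigma_h2, hfinv y hy] at h1
    have := congrArg (σ h) h1
    rwa [c.rel.sigma_h2] at this
  exact neg_of_fpf_involution (σ h) (FixL (σ f)) hC (fun y _ => c.rel.sigma_h2 σ y)
    (fun y hy hhy => c.fixV y hy hhy) v hv

end CtxLemmas

end Cfsg.Agent.Lib.Helper67.S3
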