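import Mathlib
import Cfsg.Agent.Lib.Helper2.FrobCount
import Cfsg.Agent.Lib.Helper2.ShultG
import Cfsg.Agent.Lib.Helper67.S3Defs
import Cfsg.Agent.Lib.Helper67.S3Basic

/-!
# Tools for the `S₃` fixed-point-free theorem (helper67)

Wrappers around helper2's Frobenius free-module lemma (`T1W`) and the Hall–Higman–Shult theorem
(`SHW`) in the language of `S3Defs`.
-/

set_option autoImplicit false

namespace Cfsg.Agent.Lib.Helper67.S3

open Cfsg.Agent.Lib.Helper2

section Tools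

variable {𝔸 Q V : Type*} [Group 𝔸] [Group Q] [AddCommGroup V]
  {p : ℕ} [Module (ZMod p) V]
  {ψ : 𝔸 →* MulAut Q} {ρ : Representation (ZMod p) Q V}
  {σ : Representation (ZMod p) 𝔸 V}

/-- Restriction of the action `ψ` to a subgroup `H` of `𝔸` and an `H`-invariant subgroup `N`. -/
def resAut (ψ : 𝔸 →* MulAut Q) (H : Subgroup 𝔸) (N : Subgroup Q)
    (hN : ∀ a ∈ H, ∀ x ∈ N, ψ a x ∈ N) : ↥H →* MulAut ↥N where
  toFun a :=
    { toFun := fun x => ⟨ψ a x, hN a a.2 x x.2⟩
      invFun := fun x => ⟨ψ (a⁻¹ : 𝔸) x, hN _ (inv_mem a.2) x x.2⟩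
      left_inv := fun x => Subtype.ext (by
        show ψ (a⁻¹ : 𝔸) (ψ a x) = x
        rw [← MulAut.mul_apply, ← map_mul, inv_mul_cancel, map_one]; rfl)
      right_inv := fun x => Subtype.ext (by
        show ψ a (ψ (a⁻¹ : 𝔸) x) = x
        rw [← MulAut.mul_apply, ← map_mul, mul_inv_cancel, map_one]; rfl)
      map_mul' := fun x y => Subtype.ext (by
        show ψ a (x * y) = ψ a x * ψ a y
        exact map_mul _ _ _) }
  map_one' := by
    ext x
    show ψ (1 : 𝔸) x = x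
    rw [map_one]; rfl
  map_mul' a b := by
    ext x
    show ψ ((a : 𝔸) * b) x = ψ a (ψ b x)
    rw [map_mul]; rfl

@[simp] theorem resAut_apply (ψ : 𝔸 →* MulAut Q) (H : Subgroup 𝔸) (N : Subgroup Q)
    (hN : ∀ a ∈ H, ∀ x ∈ N, ψ a x ∈ N) (a : ↥H) (x : ↥N) :
    ((resAut ψ H N hN a x : ↥N) : Q) = ψ a x := rfl

variable [Finite Q] [Finite V] [Fact p.Prime]

/-- **T1W**: a subgroup `H ≤ 𝔸` acting fixed-point-freely on the nilpotent subgroup `N ≤ Q`,
`W` an `H`- and `N`-invariant submodule with `C_W(N) = 0`.  Then `|W| = |C_W(H)| ^ |H|`. -/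
theorem card_pow_of_fpf (hcompat : ∀ (a : 𝔸) (q : Q) (v : V), σ a (ρ q v) = ρ (ψ a q) (σ a v))
    (H : Subgroup 𝔸) [Finite H] (N : Subgroup Q) (W : Submodule (ZMod p) V)
    (hN : ∀ a ∈ H, ∀ x ∈ N, ψ a x ∈ N) (hWσ : ∀ a ∈ H, ∀ w ∈ W, σ a w ∈ W)
    (hWρ : ∀ x ∈ N, ∀ w ∈ W, ρ x w ∈ W) (hnil : Group.IsNilpotent N)
    (hfpf : ∀ a ∈ H, a ≠ 1 → ∀ x ∈ N, ψ a x = x → x = 1)
    (hfix : ∀ w ∈ W, (∀ x ∈ N, ρ x w = w) → w = 0) :
    Nat.card W = Nat.card {w : W // ∀ a ∈ H, σ a (w : V) = w} ^ Nat.card H := by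
  let ρN : Representation (ZMod p) ↥N V := ρ.comp N.subtype
  let σH : Representation (ZMod p) ↥H V := σ.comp H.subtype
  let ρF : Representation (ZMod p) ↥N ↥W :=
    Representation.subrepresentation ρN W (fun x w hw => hWρ x x.2 w hw)
  let ρH : Representation (ZMod p) ↥H ↥W :=
    Representation.subrepresentation σH W (fun a w hw => hWσ a a.2 w hw)
  have hfree : FreeAssembly.FreeOn ρH ⊤ := by
    refine FrobFree.nilpotent_free (k := ZMod p) (resAut ψ H N hN) ?_ ρF ρH ?_ ?_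
    · intro a ha x hx
      apply Subtype.ext
      refine hfpf a a.2 (fun h1 => ha (Subtype.ext h1)) x x.2 ?_
      exact congrArg Subtype.val hx
    · intro a x w
      apply Subtype.ext
      exact hcompat a x w
    · intro w hw
      apply Subtype.ext
      refine hfix w w.2 (fun x hx => ?_)
      exact congrArg Subtype.val (hw ⟨x, hx⟩)
  have hcard := FrobCount.card_eq_card_fixed_pow ρH hfree
  rw [hcard]
  congr 1
  refine Nat.card_congr
    { toFun := fun w => ⟨w.1, fun a ha => congrArg Subtype.val (w.2 ⟨a, ha⟩)⟩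
      invFun := fun w => ⟨w.1, fun a => Subtype.ext (w.2 a a.2)⟩
      left_inv := fun w => rfl
      right_inv := fun w => rfl }

omit [Finite Q] [Finite V] [Fact p.Prime] in
/-- induction along the powers of an element of finite order -/
theorem forall_mem_zpowers_of_orderOf_pos {a : 𝔸} (ha : 0 < orderOf a) (P : 𝔸 → Prop) (h1 : P 1)
    (hmul : ∀ b, P b → P (a * b)) : ∀ b ∈ Subgroup.zpowers a, P b := by
  intro b hb
  have hfin : IsOfFinOrder a := orderOf_pos_iff.mp ha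
  rw [← hfin.mem_powers_iff_mem_zpowers, Submonoid.mem_powers_iff] at hb
  obtain ⟨m, rfl⟩ := hb
  induction m with
  | zero => simpa using h1
  | succ m ih => rw [pow_succ']; exact hmul _ ih

/-- **T1W, prime order**: `a` of prime order `n` acting fixed-point-freely on the nilpotent
subgroup `N ≤ Q`, `C_W(N) = 0`.  Then `|W| = |C_W(a)| ^ n`. -/
theorem card_pow_of_fpf_prime
    (hcompat : ∀ (a : 𝔸) (q : Q) (v : V), σ a (ρ q v) = ρ (ψ a q) (σ a v))
    (a : 𝔸) (n : ℕ) (hn : n.Prime) (ha : orderOf a = n) (N : Subgroup Q)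
    (W : Submodule (ZMod p) V)
    (hN : ∀ x ∈ N, ψ a x ∈ N) (hWσ : ∀ w ∈ W, σ a w ∈ W)
    (hWρ : ∀ x ∈ N, ∀ w ∈ W, ρ x w ∈ W) (hnil : Group.IsNilpotent N)
    (hfpf : ∀ x ∈ N, ψ a x = x → x = 1)
    (hfix : ∀ w ∈ W, (∀ x ∈ N, ρ x w = w) → w = 0) :
    Nat.card W = Nat.card ↥(W ⊓ FixL (σ a)) ^ n := by
  have hpos : 0 < orderOf a := by rw [ha]; exact hn.pos
  have hcardH : Nat.card (Subgroup.zpowers a) = n := by rw [Nat.card_zpowers, ha]
  have : Finite (Subgroup.zpowers a) :=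
    Nat.finite_of_card_ne_zero (by rw [hcardH]; exact hn.ne_zero)
  have : Fact n.Prime := ⟨hn⟩
  have hN' : ∀ b ∈ Subgroup.zpowers a, ∀ x ∈ N, ψ b x ∈ N := by
    apply forall_mem_zpowers_of_orderOf_pos hpos (fun b => ∀ x ∈ N, ψ b x ∈ N)
    · intro x hx; rw [map_one]; exact hx
    · intro b hb x hx
      rw [map_mul]; exact hN _ (hb x hx)
  have hWσ' : ∀ b ∈ Subgroup.zpowers a, ∀ w ∈ W, σ b w ∈ W := by
    apply forall_mem_zpowers_of_orderOf_pos hpos (fun b => ∀ w ∈ W, σ b w ∈ W)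
    · intro w hw; rw [map_one]; exact hw
    · intro b hb w hw
      rw [map_mul]; exact hWσ _ (hb w hw)
  have hfpf' : ∀ b ∈ Subgroup.zpowers a, b ≠ 1 → ∀ x ∈ N, ψ b x = x → x = 1 := by
    intro b hb hb1 x hx hbx
    apply hfpf x hx
    have hmem : (⟨a, Subgroup.mem_zpowers a⟩ : Subgroup.zpowers a) ∈
        Subgroup.zpowers (⟨b, hb⟩ : Subgroup.zpowers a) :=
      mem_zpowers_of_prime_card hcardH (fun h => hb1 (congrArg Subtype.val h))
    obtain ⟨k, hk⟩ := Subgroup.mem_zpowers_iff.mp hmem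
    have hk' : b ^ k = a := by
      have := congrArg Subtype.val hk
      simpa using this
    let St : Subgroup 𝔸 :=
      { carrier := {c | ψ c x = x}
        mul_mem' := fun {c d} hc hd => by
          show ψ (c * d) x = x
          rw [map_mul, MulAut.mul_apply, show ψ d x = x from hd, show ψ c x = x from hc]
        one_mem' := by show ψ 1 x = x; rw [map_one]; rfl
        inv_mem' := fun {c} hc => by
          show ψ c⁻¹ x = x
          have hc' : ψ c x = x := hc
          calc ψ c⁻¹ x = ψ c⁻¹ (ψ c x) := by rw [hc']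
            _ = x := by rw [← MulAut.mul_apply, ← map_mul, inv_mul_cancel, map_one]; rfl }
    have : b ^ k ∈ St := St.zpow_mem (show b ∈ St from hbx) k
    rw [hk'] at this
    exact this
  rw [card_pow_of_fpf hcompat (Subgroup.zpowers a) N W hN' hWσ' hWρ hnil hfpf' hfix, hcardH]
  congr 1
  refine Nat.card_congr
    { toFun := fun w => ⟨w.1.1, ⟨w.1.2, w.2 a (Subgroup.mem_zpowers a)⟩⟩
      invFun := fun w => ⟨⟨w.1, w.2.1⟩, ?_⟩
      left_inv := fun w => rfl
      right_inv := fun w => rfl }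
  have hw : σ a w.1 = w.1 := w.2.2
  apply forall_mem_zpowers_of_orderOf_pos hpos (fun b => σ b w.1 = w.1)
  · rw [map_one]; rfl
  · intro b hb
    rw [map_mul, Module.End.mul_apply, hb, hw]

/-- **SHW** (Hall–Higman–Shult): if `f` has no nonzero fixed vector on `V`, then `f` centralizes
every `f`-invariant `q`-subgroup of `Q`, `q ≠ p`. -/
theorem shult_f {f h : 𝔸} (c : Ctx f h ψ ρ σ) (hVf : ∀ v, σ f v = v → v = 0) (P : Subgroup Q)
    (q : ℕ) [Fact q.Prime] (hq : q ≠ p) (hP : IsPGroup q P) (hPf : ∀ x ∈ P, ψ f x ∈ P) :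
    ∀ x ∈ P, ψ f x = x := by
  by_cases hbot : P = ⊥
  · intro x hx
    rw [hbot, Subgroup.mem_bot] at hx
    rw [hx, map_one]
  have hqQ : q ∣ Nat.card Q := by
    obtain ⟨n, hn⟩ := IsPGroup.iff_card.mp hP
    have hn0 : n ≠ 0 := by
      rintro rfl
      rw [pow_zero] at hn
      exact hbot ((Subgroup.card_eq_one).mp hn)
    have : q ∣ Nat.card P := by rw [hn]; exact dvd_pow_self q hn0
    exact this.trans (Subgroup.card_subgroup_dvd_card P)
  have hq6 : q.Coprime 6 := Nat.Coprime.coprime_dvd_left hqQ c.q6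
  have hq3 : q ≠ 3 := by rintro rfl; exact absurd hq6 (by decide)
  have hq2 : q ≠ 2 := by rintro rfl; exact absurd hq6 (by decide)
  have hp3 : p ≠ 3 := by
    intro h3
    have := c.p6
    rw [h3] at this
    exact absurd this (by decide)
  have hford : orderOf f = 3 := c.rel.orderOf_f
  have hpos : 0 < orderOf f := by rw [hford]; norm_num
  have hcardH : Nat.card (Subgroup.zpowers f) = 3 := by rw [Nat.card_zpowers, hford]
  have : Finite (Subgroup.zpowers f) :=
    Nat.finite_of_card_ne_zero (by rw [hcardH]; norm_num)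
  have : Fact (Nat.Prime 3) := ⟨Nat.prime_three⟩
  have hP' : ∀ b ∈ Subgroup.zpowers f, ∀ x ∈ P, ψ b x ∈ P := by
    apply forall_mem_zpowers_of_orderOf_pos hpos (fun b => ∀ x ∈ P, ψ b x ∈ P)
    · intro x hx; rw [map_one]; exact hx
    · intro b hb x hx
      rw [map_mul]; exact hPf _ (hb x hx)
  let ρP : Representation (ZMod p) ↥P V := ρ.comp P.subtype
  let τ : Representation (ZMod p) ↥(Subgroup.zpowers f) V := σ.comp (Subgroup.zpowers f).subtype
  have hqk : ((q : ℕ) : ZMod p) ≠ 0 := by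
    intro h0
    rw [ZMod.natCast_eq_zero_iff] at h0
    exact hq ((Nat.prime_dvd_prime_iff_eq (Fact.out : p.Prime) (Fact.out : q.Prime)).mp h0).symm
  have h3k : ((3 : ℕ) : ZMod p) ≠ 0 := by
    intro h0
    rw [ZMod.natCast_eq_zero_iff] at h0
    exact hp3 ((Nat.prime_dvd_prime_iff_eq (Fact.out : p.Prime) Nat.prime_three).mp h0)
  have key := ShultG.main (k := ZMod p) (q := q) (r := 3) hP hcardH hq3
    (resAut ψ (Subgroup.zpowers f) P hP') ρP τ
    (fun a g v => c.compat a g v) hqk h3k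
    (fun v hv => hVf v (hv ⟨f, Subgroup.mem_zpowers f⟩))
  rcases key with key | ⟨h2, -⟩
  · intro x hx
    have h1 := key ⟨f, Subgroup.mem_zpowers f⟩ ⟨x, hx⟩
    have h2 : ρ (x⁻¹ * ψ f x) = 1 := h1
    have h3 := c.faithful _ h2
    exact (inv_mul_eq_one.mp h3).symm
  · exact absurd h2 hq2

end Tools

end Cfsg.Agent.Lib.Helper67.S3
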