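import Mathlib
import Cfsg.Agent.Lib.Helper2.FrobFree
import Cfsg.Agent.Lib.Helper67.S3Tools

/-!
# Averaging operators for the `S₃` theorem (helper67)

`avg ρ N` (helper2's `FrobFree.avg`) commutes with `ρ g` for normal `N` and with `σ a` for
`a`-invariant `N`; fixed spaces `CV ρ N` of invariant normal subgroups are invariant.
-/

set_option autoImplicit false
set_option linter.unusedSectionVars false

namespace Cfsg.Agent.Lib.Helper67.S3

open Cfsg.Agent.Lib.Helper2 Cfsg.Agent.Lib.Helper2.FrobFree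

variable {𝔸 Q V : Type*} [Group 𝔸] [Group Q] [AddCommGroup V]
  {p : ℕ} [Module (ZMod p) V] [Fact p.Prime]
  {ψ : 𝔸 →* MulAut Q} {ρ : Representation (ZMod p) Q V}
  {σ : Representation (ZMod p) 𝔸 V}

theorem CV_eq_fixedSub (ρ : Representation (ZMod p) Q V) (N : Subgroup Q) :
    CV ρ N = fixedSub ρ N := rfl

theorem CV_anti (ρ : Representation (ZMod p) Q V) {M N : Subgroup Q} (h : M ≤ N) :
    CV ρ N ≤ CV ρ M := fun _ hv x hx => hv x (h hx)

/-- `ρ g` maps `C_V(N)` into itself when `N` is normal. -/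
theorem rho_mem_CV (ρ : Representation (ZMod p) Q V) (N : Subgroup Q) [hn : N.Normal] (g : Q)
    {v : V} (hv : v ∈ CV ρ N) : ρ g v ∈ CV ρ N := by
  intro x hx
  have h1 : g⁻¹ * x * g ∈ N := by
    have := hn.conj_mem x hx g⁻¹
    rwa [inv_inv] at this
  have h2 : x * g = g * (g⁻¹ * x * g) := by group
  rw [← Module.End.mul_apply, ← map_mul, h2, map_mul, Module.End.mul_apply, hv _ h1]

/-- `σ a` maps `C_V(N)` into itself when `N` is `𝔸`-invariant. -/
theorem sigma_mem_CV (hcompat : ∀ (a : 𝔸) (q : Q) (v : V), σ a (ρ q v) = ρ (ψ a q) (σ a v))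
    (N : Subgroup Q) (hN : InvQ ψ N) (a : 𝔸) {v : V} (hv : v ∈ CV ρ N) : σ a v ∈ CV ρ N := by
  intro x hx
  have h1 : ψ a⁻¹ x ∈ N := hN a⁻¹ x hx
  have h2 := hcompat a (ψ a⁻¹ x) v
  rw [psi_apply_inv, hv _ h1] at h2
  exact h2.symm

theorem CV_invV (hcompat : ∀ (a : 𝔸) (q : Q) (v : V), σ a (ρ q v) = ρ (ψ a q) (σ a v))
    (N : Subgroup Q) [N.Normal] (hN : InvQ ψ N) : InvV ρ σ (CV ρ N) :=
  ⟨fun q _ hw => rho_mem_CV ρ N q hw, fun a _ hw => sigma_mem_CV hcompat N hN a hw⟩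

/-- averaging over a normal subgroup commutes with `ρ g` -/
theorem avg_comm_rho (ρ : Representation (ZMod p) Q V) (N : Subgroup Q) [N.Normal] [Fintype ↥N]
    (g : Q) (v : V) : ρ g (avg ρ N v) = avg ρ N (ρ g v) := by
  rw [avg_apply, avg_apply, map_smul, map_sum]
  congr 1
  have : ∀ n : ↥N, ρ g (ρ (n : Q) v) = ρ ((MulAut.conjNormal g n : ↥N) : Q) (ρ g v) := by
    intro n
    rw [MulAut.conjNormal_apply, ← Module.End.mul_apply, ← Module.End.mul_apply, ← map_mul,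
      ← map_mul]
    congr 2
    group
  simp_rw [this]
  exact Fintype.sum_equiv (MulAut.conjNormal g : ↥N ≃* ↥N).toEquiv _ _ (fun n => rfl)

/-- averaging over an invariant subgroup commutes with `σ a` -/
theorem avg_comm_sigma (hcompat : ∀ (a : 𝔸) (q : Q) (v : V), σ a (ρ q v) = ρ (ψ a q) (σ a v))
    (N : Subgroup Q) [Fintype ↥N] (hN : InvQ ψ N) (a : 𝔸) (v : V) :
    σ a (avg ρ N v) = avg ρ N (σ a v) := by
  rw [avg_apply, avg_apply, map_smul, map_sum]
  congr 1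
  let e : ↥N ≃* ↥N := resAut ψ ⊤ N (fun a _ x hx => hN a x hx) ⟨a, Subgroup.mem_top a⟩
  have : ∀ n : ↥N, σ a (ρ (n : Q) v) = ρ ((e n : ↥N) : Q) (σ a v) := by
    intro n
    exact hcompat a n v
  simp_rw [this]
  exact Fintype.sum_equiv e.toEquiv _ _ (fun n => rfl)

theorem ker_avg_invV (hcompat : ∀ (a : 𝔸) (q : Q) (v : V), σ a (ρ q v) = ρ (ψ a q) (σ a v))
    (N : Subgroup Q) [N.Normal] [Fintype ↥N] (hN : InvQ ψ N) :
    InvV ρ σ (LinearMap.ker (avg ρ N)) := by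
  constructor
  · intro q w hw
    rw [LinearMap.mem_ker] at hw ⊢
    rw [← avg_comm_rho, hw, map_zero]
  · intro a w hw
    rw [LinearMap.mem_ker] at hw ⊢
    rw [← avg_comm_sigma hcompat N hN, hw, map_zero]

/-- the order of a subgroup of order prime to `p` is invertible in `ZMod p` -/
theorem card_ne_zero_of_coprime (N : Subgroup Q) (hNp : (Nat.card ↥N).Coprime p) :
    ((Nat.card ↥N : ℕ) : ZMod p) ≠ 0 := by
  intro h0
  rw [ZMod.natCast_eq_zero_iff] at h0
  have h1 : p ∣ Nat.gcd (Nat.card ↥N) p := Nat.dvd_gcd h0 dvd_rfl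
  rw [hNp] at h1
  exact (Fact.out : p.Prime).one_lt.ne' (Nat.dvd_one.mp h1)

end Cfsg.Agent.Lib.Helper67.S3
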