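import Mathlib
import Cfsg.Agent.Lib.Helper67.S3Avg

/-!
# MODULE C of the `S₃` theorem (helper67): `C_V(N) = 0` for nontrivial invariant normal `N`
-/

set_option autoImplicit false
set_option linter.unusedSectionVars false

namespace Cfsg.Agent.Lib.Helper67.S3

open Cfsg.Agent.Lib.Helper2 Cfsg.Agent.Lib.Helper2.FrobFree
open scoped commutatorElement

variable {𝔸 Q V : Type*} [Group 𝔸] [Group Q] [Finite Q] [AddCommGroup V] [Finite V]
  {p : ℕ} [Fact p.Prime] [Module (ZMod p) V]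
  {f h : 𝔸} {ψ : 𝔸 →* MulAut Q} {ρ : Representation (ZMod p) Q V}
  {σ : Representation (ZMod p) 𝔸 V}

omit [Finite Q] in
theorem invQ_commutator (K : Subgroup Q) (hK : InvQ ψ K) : InvQ ψ ⁅K, K⁆ := by
  intro a x hx
  have hle : K.map (ψ a).toMonoidHom ≤ K := by
    rw [Subgroup.map_le_iff_le_comap]
    intro y hy
    exact hK a y hy
  have : (⁅K, K⁆).map (ψ a).toMonoidHom ≤ ⁅K, K⁆ := by
    rw [Subgroup.map_commutator]
    exact Subgroup.commutator_mono hle hle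
  exact this (Subgroup.mem_map_of_mem _ hx)

/-- A minimal nontrivial `𝔸`-invariant normal subgroup inside a nontrivial `𝔸`-invariant normal
subgroup `N` of the solvable group `Q`: it is elementary abelian. -/
theorem exists_min_inv [Group.IsSolvable Q] (ψ : 𝔸 →* MulAut Q) (N : Subgroup Q) [N.Normal]
    (hN : InvQ ψ N) (hne : N ≠ ⊥) :
    ∃ M : Subgroup Q, M ≤ N ∧ M ≠ ⊥ ∧ M.Normal ∧ InvQ ψ M ∧
      (∀ M' : Subgroup Q, M' ≤ M → M' ≠ ⊥ → M'.Normal → InvQ ψ M' → M' = M) ∧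
      (∀ x ∈ M, ∀ y ∈ M, x * y = y * x) ∧ ∃ q : ℕ, q.Prime ∧ ∀ x ∈ M, x ^ q = 1 := by
  let P : Subgroup Q → Prop := fun M => M ≤ N ∧ M ≠ ⊥ ∧ M.Normal ∧ InvQ ψ M
  obtain ⟨M, hM, hmin⟩ := exists_minimal_of_wellFoundedLT P ⟨N, le_rfl, hne, inferInstance, hN⟩
  obtain ⟨hMN, hMne, hMn, hMinv⟩ := hM
  have hmin' : ∀ M' : Subgroup Q, M' ≤ M → M' ≠ ⊥ → M'.Normal → InvQ ψ M' → M' = M := by
    intro M' h1 h2 h3 h4
    exact le_antisymm h1 (hmin ⟨h1.trans hMN, h2, h3, h4⟩ h1)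
  have hcomm : ∀ x ∈ M, ∀ y ∈ M, x * y = y * x := by
    have hlt := Group.IsSolvable.commutator_lt_of_ne_bot hMne
    have hbot : ⁅M, M⁆ = ⊥ := by
      by_contra hnb
      have := hmin' ⁅M, M⁆ hlt.le hnb (Subgroup.commutator_normal M M) (invQ_commutator M hMinv)
      exact hlt.ne this
    intro x hx y hy
    have h1 : ⁅x, y⁆ ∈ ⁅M, M⁆ := Subgroup.commutator_mem_commutator hx hy
    rw [hbot, Subgroup.mem_bot, commutatorElement_eq_one_iff_mul_comm] at h1
    exact h1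
  refine ⟨M, hMN, hMne, hMn, hMinv, hmin', hcomm, ?_⟩
  -- a prime dividing |M|
  have hcard : Nat.card ↥M ≠ 1 := by
    intro h1
    exact hMne (Subgroup.card_eq_one.mp h1)
  obtain ⟨q, hq, hqd⟩ := Nat.exists_prime_and_dvd hcard
  refine ⟨q, hq, ?_⟩
  have : Fact q.Prime := ⟨hq⟩
  obtain ⟨g, hg⟩ := exists_prime_orderOf_dvd_card' (G := ↥M) q hqd
  let Ω : Subgroup Q :=
    { carrier := {x | x ∈ M ∧ x ^ q = 1}
      mul_mem' := fun {a b} ha hb => by
        refine ⟨mul_mem ha.1 hb.1, ?_⟩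
        rw [(show Commute a b from hcomm a ha.1 b hb.1).mul_pow, ha.2, hb.2, one_mul]
      one_mem' := ⟨one_mem M, one_pow q⟩
      inv_mem' := fun {a} ha => ⟨inv_mem ha.1, by rw [inv_pow, ha.2, inv_one]⟩ }
  have hΩle : Ω ≤ M := fun x hx => hx.1
  have hΩne : Ω ≠ ⊥ := by
    intro hb
    have hgΩ : (g : Q) ∈ Ω := by
      refine ⟨g.2, ?_⟩
      have := pow_orderOf_eq_one g
      rw [hg] at this
      have h' := congrArg Subtype.val this
      simpa using h'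
    rw [hb, Subgroup.mem_bot] at hgΩ
    have : g = 1 := Subtype.ext hgΩ
    rw [this, orderOf_one] at hg
    exact hq.one_lt.ne hg
  have hΩn : Ω.Normal := by
    constructor
    intro x hx g
    refine ⟨hMn.conj_mem x hx.1 g, ?_⟩
    rw [conj_pow, hx.2, mul_one, mul_inv_cancel]
  have hΩinv : InvQ ψ Ω := by
    intro a x hx
    refine ⟨hMinv a x hx.1, ?_⟩
    rw [← map_pow, hx.2, map_one]
  have hΩM := hmin' Ω hΩle hΩne hΩn hΩinv
  intro x hx
  rw [← hΩM] at hx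
  exact hx.2

/-- **MODULE C**: a nontrivial `𝔸`-invariant normal subgroup of `Q` has no nonzero fixed vector. -/
theorem CV_eq_bot (c : Ctx f h ψ ρ σ) [Group.IsSolvable Q] (hOp : HOp p Q) (h3 : H3 ρ σ)
    (N : Subgroup Q) [N.Normal] (hN : InvQ ψ N) (hne : N ≠ ⊥) : CV ρ N = ⊥ := by
  obtain ⟨M, hMN, hMne, hMn, hMinv, -, -, q, hq, hexp⟩ := exists_min_inv ψ N hN hne
  have : Fact q.Prime := ⟨hq⟩
  have hMq : IsPGroup q ↥M := by
    intro x
    refine ⟨1, ?_⟩
    rw [pow_one]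
    exact Subtype.ext (hexp x x.2)
  have hqp : q ≠ p := by
    rintro rfl
    exact hMne (hOp M hMn hMq)
  have hcop : (Nat.card ↥M).Coprime p := by
    obtain ⟨n, hn⟩ := IsPGroup.iff_card.mp hMq
    rw [hn]
    exact Nat.Coprime.pow_left n ((Nat.coprime_primes hq (Fact.out : p.Prime)).mpr hqp)
  have hMk := card_ne_zero_of_coprime M hcop
  have := Fintype.ofFinite ↥M
  suffices hM0 : CV ρ M = ⊥ by
    rw [eq_bot_iff, ← hM0]
    exact CV_anti ρ hMN
  rcases h3 (CV ρ M) (LinearMap.ker (avg ρ M)) (CV_invV c.compat M hMinv)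
    (ker_avg_invV c.compat M hMinv) (disjoint_fixedSub_ker ρ M hMk).eq_bot with h0 | h0
  · exact h0
  · exfalso
    apply hMne
    rw [eq_bot_iff]
    intro x hx
    rw [Subgroup.mem_bot]
    apply c.faithful
    ext v
    have hv : avg ρ M v - v ∈ LinearMap.ker (avg ρ M) := by
      rw [LinearMap.mem_ker, map_sub, avg_idem ρ M hMk, sub_self]
    rw [h0, Submodule.mem_bot, sub_eq_zero] at hv
    have hmem : v ∈ fixedSub ρ M := by
      rw [← hv]; exact avg_mem_fixedSub ρ M v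
    exact hmem x hx

end Cfsg.Agent.Lib.Helper67.S3
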