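import Mathlib
import Cfsg.Agent.Lib.Helper67.ComplConj

/-!
`π`-closed groups (normal Hall `π`-subgroups) and `π'`-homogeneity: a `π'`-homogeneous group with a
normal series with factors `π`, `π'`, `π`, `π'` is `π`-closed.  The proof only uses Sylow's theorems,
the existence part of Schur–Zassenhaus and Schur–Zassenhaus conjugacy for a `q`-group complement.
-/

set_option autoImplicit false
open Pointwise

namespace Cfsg.Agent.Lib.Helper67

/-- In a finite group, `g H g⁻¹ ⊆ H` implies `g ∈ N(H)`. -/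
theorem mem_normalizer_of_forall_conj_mem {Q : Type*} [Group Q] [Finite Q] (H : Subgroup Q) (g : Q)
    (h : ∀ x ∈ H, g * x * g⁻¹ ∈ H) : g ∈ Subgroup.normalizer (H : Set Q) := by
  rw [Subgroup.mem_normalizer_iff]
  intro x
  refine ⟨h x, fun hx => ?_⟩
  let f : H → H := fun w => ⟨g * w * g⁻¹, h w w.2⟩
  have hf : Function.Injective f := by
    intro a b hab
    have := congrArg Subtype.val hab
    simp only [f] at this
    apply Subtype.ext
    exact mul_left_cancel (mul_right_cancel this)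
  obtain ⟨w, hw⟩ := Finite.surjective_of_injective hf ⟨g * x * g⁻¹, hx⟩
  have := congrArg Subtype.val hw
  simp only [f] at this
  have hwx : (w : Q) = x := mul_left_cancel (mul_right_cancel this)
  rw [← hwx]; exact w.2

/-- If `B` contains a Sylow `q`-subgroup of `A` for every prime `q`, then `A ≤ B`. -/
theorem le_of_forall_sylow_le {X : Type*} [Group X] [Finite X] (A B : Subgroup X)
    (h : ∀ q : ℕ, q.Prime → ∃ S : Sylow q ↥A, ∀ s ∈ S, (s : X) ∈ B) : A ≤ B := by
  have hdvd : Nat.card A ∣ Nat.card (A ⊓ B : Subgroup X) := by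
    rw [← Nat.factorization_prime_le_iff_dvd Nat.card_pos.ne' Nat.card_pos.ne']
    intro q hq
    have : Fact q.Prime := ⟨hq⟩
    obtain ⟨S, hS⟩ := h q hq
    have h1 : (S : Subgroup ↥A).map A.subtype ≤ A ⊓ B := by
      rintro _ ⟨s, hs, rfl⟩
      exact ⟨s.2, hS s hs⟩
    have h2 : Nat.card ((S : Subgroup ↥A).map A.subtype) = q ^ (Nat.card A).factorization q := by
      rw [Subgroup.card_map_of_injective A.subtype_injective, S.card_eq_multiplicity]
    have h3 : q ^ (Nat.card A).factorization q ∣ Nat.card (A ⊓ B : Subgroup X) := by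
      rw [← h2]; exact Subgroup.card_dvd_of_le h1
    exact (hq.pow_dvd_iff_le_factorization Nat.card_pos.ne').1 h3
  have hle : Nat.card A ≤ Nat.card (A ⊓ B : Subgroup X) := Nat.le_of_dvd Nat.card_pos hdvd
  have : A ⊓ B = A := (Subgroup.eq_of_le_of_card_ge inf_le_left hle)
  rw [← this]; exact inf_le_right

/-- From `π'`-homogeneity: a `π`-element normalizing a nontrivial `π'`-subgroup centralizes it. -/
theorem mem_centralizer_of_homogeneous {G : Type*} [Group G] [Finite G] (π : Set ℕ)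
    (H : Subgroup G)
    (hhom : ∀ p : ℕ, p.Prime → p ∣ (Subgroup.centralizer (H : Set G)).relIndex
      (Subgroup.normalizer (H : Set G)) → p ∉ π)
    (n : G) (hn : n ∈ Subgroup.normalizer (H : Set G))
    (hnπ : ∀ p : ℕ, p.Prime → p ∣ orderOf n → p ∈ π) : n ∈ Subgroup.centralizer (H : Set G) := by
  obtain ⟨N, hN⟩ : ∃ N : Subgroup G, N = Subgroup.normalizer (H : Set G) := ⟨_, rfl⟩
  rw [← hN] at hn hhom
  have hnorm : ((Subgroup.centralizer (H : Set G)).subgroupOf N).Normal := by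
    rw [hN]; infer_instance
  obtain ⟨c, hc⟩ : ∃ c : N ⧸ (Subgroup.centralizer (H : Set G)).subgroupOf N,
    c = QuotientGroup.mk (⟨n, hn⟩ : N) := ⟨_, rfl⟩
  have h1 : orderOf c ∣ orderOf n := by
    rw [hc, ← Subgroup.orderOf_mk n hn]
    exact orderOf_map_dvd (QuotientGroup.mk' _) (⟨n, hn⟩ : N)
  have h2 : orderOf c ∣ (Subgroup.centralizer (H : Set G)).relIndex N := by
    rw [Subgroup.relIndex, Subgroup.index_eq_card]
    exact orderOf_dvd_natCard c
  have h3 : orderOf c = 1 := by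
    by_contra hne
    obtain ⟨p, hp, hpd⟩ := Nat.exists_prime_and_dvd hne
    exact hhom p hp (hpd.trans h2) (hnπ p hp (hpd.trans h1))
  rw [orderOf_eq_one_iff, hc, QuotientGroup.eq_one_iff, Subgroup.mem_subgroupOf] at h3
  exact h3

/-- Lifting lemma: in `G ⧸ L` (`L` a normal `π`-subgroup of the `π'`-homogeneous group `G`), a
`p`-element (`p ∈ π`) normalizing a `q`-subgroup (`q ∉ π`) centralizes it. -/
theorem lift_centralize {G : Type*} [Group G] [Finite G] (π : Set ℕ)
    (hhom : ∀ H : Subgroup G, H ≠ ⊥ → (∀ p : ℕ, p.Prime → p ∣ Nat.card ↥H → p ∉ π) →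
      ∀ p : ℕ, p.Prime → p ∣ (Subgroup.centralizer (H : Set G)).relIndex
        (Subgroup.normalizer (H : Set G)) → p ∉ π)
    (L : Subgroup G) [hLn : L.Normal] (hL : ∀ p : ℕ, p.Prime → p ∣ Nat.card L → p ∈ π)
    (q : ℕ) [hq : Fact q.Prime] (hqπ : q ∉ π) (Qb : Subgroup (G ⧸ L)) (hQb : IsPGroup q Qb)
    (p : ℕ) (hpp : p.Prime) (hp : p ∈ π) (xb : G ⧸ L) (a : ℕ) (hxb : xb ^ (p ^ a) = 1)
    (hxn : xb ∈ Subgroup.normalizer (Qb : Set (G ⧸ L))) :
    xb ∈ Subgroup.centralizer (Qb : Set (G ⧸ L)) := by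
  obtain ⟨f, hf⟩ : ∃ f : G →* G ⧸ L, f = QuotientGroup.mk' L := ⟨_, rfl⟩
  have hfs : Function.Surjective f := hf ▸ QuotientGroup.mk'_surjective L
  have hker : f.ker = L := hf ▸ QuotientGroup.ker_mk' L
  obtain ⟨M₁, hM₁⟩ : ∃ M₁ : Subgroup G, M₁ = Qb.comap f := ⟨_, rfl⟩
  have hfL : ∀ g ∈ L, f g = 1 := by
    intro g hg
    rw [← MonoidHom.mem_ker, hker]; exact hg
  have hLM : L ≤ M₁ := by
    intro g hg
    rw [hM₁, Subgroup.mem_comap, hfL g hg]; exact Qb.one_mem
  have hmap : M₁.map f = Qb := by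
    rw [hM₁]; exact Subgroup.map_comap_eq_self_of_surjective hfs Qb
  -- a Sylow q-subgroup of M₁
  obtain ⟨S⟩ : Nonempty (Sylow q ↥M₁) := inferInstance
  obtain ⟨QG, hQG⟩ : ∃ QG : Subgroup G, QG = (S : Subgroup ↥M₁).map M₁.subtype := ⟨_, rfl⟩
  have hQGp : IsPGroup q QG := hQG ▸ S.2.map _
  have hQGM : QG ≤ M₁ := hQG ▸ Subgroup.map_subtype_le _
  have hrel1 : L.relIndex M₁ = Nat.card Qb := by
    have h := Subgroup.relIndex_comap (⊥ : Subgroup (G ⧸ L)) f M₁
    have h0 : (⊥ : Subgroup (G ⧸ L)).comap f = L := by rw [MonoidHom.comap_bot, hker]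
    rw [hmap, Subgroup.relIndex_bot_left, h0] at h
    exact h
  have hrel2 : ¬ q ∣ QG.relIndex M₁ := by
    have : QG.relIndex M₁ = (S : Subgroup ↥M₁).index := by
      rw [Subgroup.relIndex, hQG]
      show (((S : Subgroup ↥M₁).map M₁.subtype).comap M₁.subtype).index = _
      rw [Subgroup.comap_map_eq_self_of_injective M₁.subtype_injective]
    rw [this]; exact S.not_dvd_index
  have hsup : QG ⊔ L = M₁ := by
    apply le_antisymm (sup_le hQGM hLM)
    rw [← Subgroup.relIndex_eq_one]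
    have h1 : (QG ⊔ L).relIndex M₁ ∣ QG.relIndex M₁ :=
      Subgroup.relIndex_dvd_of_le_left M₁ le_sup_left
    have h2 : (QG ⊔ L).relIndex M₁ ∣ L.relIndex M₁ :=
      Subgroup.relIndex_dvd_of_le_left M₁ le_sup_right
    obtain ⟨b, hb⟩ := IsPGroup.iff_card.1 hQb
    rw [hrel1, hb] at h2
    obtain ⟨c, _, hc⟩ := (Nat.dvd_prime_pow hq.out).1 h2
    rcases Nat.eq_zero_or_pos c with h0 | hpos
    · rw [hc, h0, pow_zero]
    · exfalso
      apply hrel2
      have : q ∣ (QG ⊔ L).relIndex M₁ := by rw [hc]; exact dvd_pow_self q hpos.ne'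
      exact this.trans h1
  -- a lift of xb
  obtain ⟨y, hy⟩ := hfs xb
  -- y normalizes M₁
  have hyM : MulAut.conj y • M₁ = M₁ := by
    ext g
    rw [Subgroup.mem_pointwise_smul_iff_inv_smul_mem, ← map_inv, MulAut.smul_def,
      MulAut.conj_apply, inv_inv, hM₁, Subgroup.mem_comap, Subgroup.mem_comap]
    rw [map_mul, map_mul, map_inv, hy]
    have := (Subgroup.mem_normalizer_iff''.1 hxn) (f g)
    exact this.symm
  have hyL : MulAut.conj y • L = L := Subgroup.Normal.conj_smul_eq_self y L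
  have hsup' : QG ⊔ L = MulAut.conj y • QG ⊔ L := by
    conv_rhs => rw [← hyL, ← Subgroup.smul_sup, hsup, hyM]
    exact hsup
  -- coprimality
  have hcopQ : ∀ Q' : Subgroup G, IsPGroup q Q' → (Nat.card L).Coprime (Nat.card Q') := by
    intro Q' hQ'
    obtain ⟨b, hb⟩ := IsPGroup.iff_card.1 hQ'
    rw [hb]
    apply Nat.Coprime.pow_right
    rw [Nat.coprime_comm, Nat.Prime.coprime_iff_not_dvd hq.out]
    exact fun hdvd => hqπ (hL q hq.out hdvd)
  have hQG'p : IsPGroup q (MulAut.conj y • QG : Subgroup G) := by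
    have : (MulAut.conj y • QG : Subgroup G) = QG.map (MulAut.conj y).toMonoidHom := rfl
    rw [this]; exact hQGp.map _
  have hsol : Group.IsSolvable QG := by
    have : Group.IsNilpotent QG := hQGp.isNilpotent
    infer_instance
  obtain ⟨l, hl, hlconj⟩ := exists_mem_conj_smul_eq_of_sup_eq hsup' (hcopQ QG hQGp)
    (hcopQ _ hQG'p) (Or.inr hsol)
  -- n = l⁻¹ y normalizes QG
  obtain ⟨n, hn⟩ : ∃ n : G, n = l⁻¹ * y := ⟨_, rfl⟩
  have hnQ : MulAut.conj n • QG = QG := by
    rw [hn, map_mul, mul_smul, ← hlconj, ← mul_smul, ← map_mul, inv_mul_cancel, map_one, one_smul]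
  have hnN : n ∈ Subgroup.normalizer (QG : Set G) := by
    rw [Subgroup.mem_normalizer_iff]
    intro g
    constructor
    · intro hg
      rw [← hnQ]
      exact (Subgroup.mem_smul_pointwise_iff_exists _ _ _).mpr ⟨g, hg, by simp [MulAut.smul_def]⟩
    · intro hg
      rw [← hnQ] at hg
      obtain ⟨g', hg', hgg'⟩ := (Subgroup.mem_smul_pointwise_iff_exists _ _ _).mp hg
      rw [MulAut.smul_def, MulAut.conj_apply] at hgg'
      have : g' = g := mul_left_cancel (mul_right_cancel hgg')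
      rw [← this]; exact hg'
  have hfn : f n = xb := by
    have hl1 : f l = 1 := hfL l hl
    rw [hn, map_mul, map_inv, hl1, inv_one, one_mul, hy]
  -- n is a π-element
  have hnπ : ∀ r : ℕ, r.Prime → r ∣ orderOf n → r ∈ π := by
    intro r hr hrn
    have h1 : n ^ (p ^ a) ∈ L := by
      have : n ^ (p ^ a) ∈ f.ker := by rw [MonoidHom.mem_ker, map_pow, hfn, hxb]
      rwa [hker] at this
    have h2 : (n ^ (p ^ a)) ^ Nat.card L = 1 := by
      have := pow_card_eq_one' (G := L) (x := ⟨n ^ (p ^ a), h1⟩)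
      exact congrArg Subtype.val this
    rw [← pow_mul] at h2
    have h3 : r ∣ p ^ a * Nat.card L := hrn.trans (orderOf_dvd_of_pow_eq_one h2)
    rcases (Nat.Prime.dvd_mul hr).1 h3 with h4 | h4
    · have := (Nat.prime_dvd_prime_iff_eq hr hpp).1 (hr.dvd_of_dvd_pow h4)
      rw [this]; exact hp
    · exact hL r hr h4
  -- hence n centralizes QG
  have hQb_eq : Qb = QG.map f := by
    have hLbot : L.map f = ⊥ := (Subgroup.map_eq_bot_iff _).2 hker.ge
    rw [← hmap, ← hsup, Subgroup.map_sup, hLbot, sup_bot_eq]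
  by_cases hbot : QG = ⊥
  · rw [hQb_eq, hbot, Subgroup.map_bot, Subgroup.mem_centralizer_iff]
    intro z hz
    have : z = 1 := hz
    rw [this, one_mul, mul_one]
  · have hQGπ : ∀ r : ℕ, r.Prime → r ∣ Nat.card QG → r ∉ π := by
      intro r hr hrd
      obtain ⟨b, hb⟩ := IsPGroup.iff_card.1 hQGp
      rw [hb] at hrd
      have := (Nat.prime_dvd_prime_iff_eq hr hq.out).1 (hr.dvd_of_dvd_pow hrd)
      rw [this]; exact hqπ
    have hnC := mem_centralizer_of_homogeneous π QG (hhom QG hbot hQGπ) n hnN hnπ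
    rw [hQb_eq, Subgroup.mem_centralizer_iff]
    rintro _ ⟨g, hg, rfl⟩
    have := Subgroup.mem_centralizer_iff.1 hnC g hg
    rw [← hfn, ← map_mul, ← map_mul, this]

/-- A `p`-element (`p ∈ π`) centralizes the normal `π'`-subgroup `N`, provided `p`-elements
centralize the `q`-subgroups (`q ∉ π`) they normalize. -/
theorem le_centralizer_of_prime_pow {X : Type*} [Group X] [Finite X] (π : Set ℕ)
    (N : Subgroup X) [hNn : N.Normal] (hN : ∀ r : ℕ, r.Prime → r ∣ Nat.card N → r ∉ π)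
    (hcent : ∀ (q : ℕ) [Fact q.Prime], q ∉ π → ∀ Qb : Subgroup X, IsPGroup q Qb →
      ∀ p : ℕ, p.Prime → p ∈ π → ∀ (xb : X) (a : ℕ), xb ^ (p ^ a) = 1 →
      xb ∈ Subgroup.normalizer (Qb : Set X) → xb ∈ Subgroup.centralizer (Qb : Set X))
    (p : ℕ) (hpp : p.Prime) (hp : p ∈ π) (x : X) (a : ℕ) (hx : x ^ (p ^ a) = 1) :
    N ≤ Subgroup.centralizer {x} := by
  apply le_of_forall_sylow_le
  intro q hq
  have : Fact q.Prime := ⟨hq⟩
  have : Fact p.Prime := ⟨hpp⟩
  by_cases hqπ : q ∈ π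
  · -- Sylow q-subgroups of N are trivial
    obtain ⟨S⟩ : Nonempty (Sylow q ↥N) := inferInstance
    refine ⟨S, fun s hs => ?_⟩
    have hcard : Nat.card S = 1 := by
      rw [S.card_eq_multiplicity]
      have : (Nat.card N).factorization q = 0 := by
        apply Nat.factorization_eq_zero_of_not_dvd
        exact fun hd => hN q hq hd hqπ
      rw [this, pow_zero]
    have hs1 : s = 1 := by
      have hsub : Subsingleton S := (Nat.card_eq_one_iff_unique.1 hcard).1
      have := Subsingleton.elim (⟨s, hs⟩ : S) 1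
      exact congrArg Subtype.val this
    rw [hs1]; exact Subgroup.one_mem _
  · -- a fixed point of ⟨x⟩ on Syl_q(N)
    have hP : IsPGroup p (Subgroup.zpowers x) := by
      rintro ⟨y, hy⟩
      obtain ⟨k, rfl⟩ := Subgroup.mem_zpowers_iff.1 hy
      refine ⟨a, Subtype.ext ?_⟩
      show (x ^ k) ^ (p ^ a) = 1
      rw [← zpow_natCast, ← zpow_mul, mul_comm, zpow_mul, zpow_natCast, hx, one_zpow]
    let φ : ↥(Subgroup.zpowers x) →* MulAut ↥N :=
      (MulAut.conjNormal).comp (Subgroup.zpowers x).subtype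
    let _ : MulAction ↥(Subgroup.zpowers x) (Sylow q ↥N) := MulAction.compHom _ φ
    have hcard : ¬ p ∣ Nat.card (Sylow q ↥N) := by
      intro hd
      obtain ⟨S₀⟩ : Nonempty (Sylow q ↥N) := inferInstance
      have h1 : Nat.card (Sylow q ↥N) ∣ Nat.card N :=
        (S₀.card_dvd_index).trans (Subgroup.index_dvd_card _)
      exact hN p hpp (hd.trans h1) hp
    obtain ⟨S, hS⟩ := hP.nonempty_fixed_point_of_prime_not_dvd_card (Sylow q ↥N) hcard
    refine ⟨S, fun s hs => ?_⟩
    have hxS : (MulAut.conjNormal x : MulAut ↥N) • S = S := hS ⟨x, Subgroup.mem_zpowers x⟩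
    have hxS' : (MulAut.conjNormal x : MulAut ↥N) • (S : Subgroup ↥N) = S := by
      rw [← Sylow.pointwise_smul_def, hxS]
    -- x normalizes the image of S in X
    have hnorm : x ∈ Subgroup.normalizer (((S : Subgroup ↥N).map N.subtype : Subgroup X) : Set X) := by
      apply mem_normalizer_of_forall_conj_mem
      rintro _ ⟨t, ht, rfl⟩
      have h1 : (MulAut.conjNormal x : MulAut ↥N) • t ∈ (S : Subgroup ↥N) := by
        rw [← hxS']
        exact Subgroup.smul_mem_pointwise_smul _ _ _ ht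
      refine ⟨(MulAut.conjNormal x : MulAut ↥N) • t, h1, ?_⟩
      rfl
    have hc := hcent q hqπ _ (S.2.map N.subtype) p hpp hp x a hx hnorm
    rw [Subgroup.mem_centralizer_iff] at hc ⊢
    intro w hw
    rw [Set.mem_singleton_iff] at hw
    subst hw
    exact (hc (s : X) ⟨s, hs, rfl⟩).symm

/-- The quotient-level theorem: a normal `π'`-subgroup `N` centralized (in the above sense) with
`M / N` a `π`-group and `X / M` a `π'`-group: `X` has a normal Hall `π`-subgroup. -/
theorem exists_normal_hall_of_centralize {X : Type*} [Group X] [Finite X] (π : Set ℕ)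
    (N M : Subgroup X) [hNn : N.Normal] [hMn : M.Normal] (hNM : N ≤ M)
    (hN : ∀ r : ℕ, r.Prime → r ∣ Nat.card N → r ∉ π)
    (hMN : ∀ r : ℕ, r.Prime → r ∣ N.relIndex M → r ∈ π)
    (hXM : ∀ r : ℕ, r.Prime → r ∣ M.index → r ∉ π)
    (hcent : ∀ (q : ℕ) [Fact q.Prime], q ∉ π → ∀ Qb : Subgroup X, IsPGroup q Qb →
      ∀ p : ℕ, p.Prime → p ∈ π → ∀ (xb : X) (a : ℕ), xb ^ (p ^ a) = 1 →
      xb ∈ Subgroup.normalizer (Qb : Set X) → xb ∈ Subgroup.centralizer (Qb : Set X)) :
    ∃ D : Subgroup X, D.Normal ∧ (∀ r : ℕ, r.Prime → r ∣ Nat.card D → r ∈ π) ∧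
      (∀ r : ℕ, r.Prime → r ∣ D.index → r ∉ π) := by
  have hN'n : (N.subgroupOf M).Normal := inferInstance
  have hN'card : Nat.card (N.subgroupOf M) = Nat.card N :=
    Nat.card_congr (Subgroup.subgroupOfEquivOfLe hNM).toEquiv
  have hcop : (Nat.card (N.subgroupOf M)).Coprime (N.subgroupOf M).index := by
    apply Nat.coprime_of_dvd
    intro r hr h1 h2
    rw [hN'card] at h1
    exact hN r hr h1 (hMN r hr h2)
  obtain ⟨D', hD'⟩ := Subgroup.exists_left_complement'_of_coprime hcop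
  obtain ⟨D₀, hD₀⟩ : ∃ D₀ : Subgroup X, D₀ = D'.map M.subtype := ⟨_, rfl⟩
  have hD₀M : D₀ ≤ M := hD₀ ▸ Subgroup.map_subtype_le D'
  have hD₀card : Nat.card D₀ = N.relIndex M := by
    rw [hD₀, Subgroup.card_map_of_injective M.subtype_injective, ← hD'.index_eq_card]
    rfl
  have hD₀π : ∀ r : ℕ, r.Prime → r ∣ Nat.card D₀ → r ∈ π := by
    intro r hr hrd; rw [hD₀card] at hrd; exact hMN r hr hrd
  have hcopDN : (Nat.card D₀).Coprime (Nat.card N) := by
    apply Nat.coprime_of_dvd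
    intro r hr h1 h2
    exact hN r hr h2 (hD₀π r hr h1)
  -- D₀ centralizes N
  have hD₀C : D₀ ≤ Subgroup.centralizer (N : Set X) := by
    apply le_of_forall_sylow_le
    intro r hr
    have : Fact r.Prime := ⟨hr⟩
    obtain ⟨S⟩ : Nonempty (Sylow r ↥D₀) := inferInstance
    refine ⟨S, fun s hs => ?_⟩
    by_cases hs1 : (s : X) = 1
    · rw [hs1]; exact Subgroup.one_mem _
    · obtain ⟨k, hk⟩ := S.2 ⟨s, hs⟩
      have hk' : (s : X) ^ (r ^ k) = 1 := by
        have := congrArg Subtype.val hk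
        have := congrArg Subtype.val this
        simpa using this
      have hrπ : r ∈ π := by
        apply hD₀π r hr
        have h1 : orderOf (s : X) ∣ r ^ k := orderOf_dvd_of_pow_eq_one hk'
        obtain ⟨j, _, hj⟩ := (Nat.dvd_prime_pow hr).1 h1
        have hj0 : j ≠ 0 := by
          rintro rfl
          rw [pow_zero, orderOf_eq_one_iff] at hj
          exact hs1 hj
        have h2 : r ∣ orderOf (s : X) := by rw [hj]; exact dvd_pow_self r hj0
        have h3 : orderOf (s : X) ∣ Nat.card D₀ := by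
          rw [Subgroup.orderOf_coe]; exact orderOf_dvd_natCard s
        exact h2.trans h3
      have := le_centralizer_of_prime_pow π N hN hcent r hr hrπ (s : X) k hk'
      rw [Subgroup.mem_centralizer_iff]
      intro n hn
      have h4 := Subgroup.mem_centralizer_iff.1 (this hn) (s : X) rfl
      exact h4.symm
  -- decomposition of M
  have hdec : ∀ m ∈ M, ∃ d ∈ D₀, ∃ n ∈ N, m = d * n := by
    intro m hm
    obtain ⟨⟨d, n⟩, hdn⟩ := hD'.2 ⟨m, hm⟩
    refine ⟨(d : X), ?_, (n : X), ?_, ?_⟩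
    · rw [hD₀]; exact ⟨d, d.2, rfl⟩
    · exact n.2
    · have := congrArg Subtype.val hdn
      simpa using this.symm
  -- π-elements of M lie in D₀
  have hπD₀ : ∀ m ∈ M, (∀ r : ℕ, r.Prime → r ∣ orderOf m → r ∈ π) → m ∈ D₀ := by
    intro m hm hmπ
    obtain ⟨d, hd, n, hn, rfl⟩ := hdec m hm
    have hcomm : Commute d n := by
      have := Subgroup.mem_centralizer_iff.1 (hD₀C hd) n hn
      exact this.symm
    have hdpow : d ^ Nat.card D₀ = 1 := by
      have := pow_card_eq_one' (G := D₀) (x := ⟨d, hd⟩)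
      exact congrArg Subtype.val this
    have h1 : (d * n) ^ Nat.card D₀ = n ^ Nat.card D₀ := by
      rw [hcomm.mul_pow, hdpow, one_mul]
    have h2 : orderOf (n ^ Nat.card D₀) ∣ orderOf (d * n) := by
      rw [← h1]; exact orderOf_pow_dvd _
    have h3 : orderOf (n ^ Nat.card D₀) ∣ Nat.card N := by
      have : orderOf (n ^ Nat.card D₀) ∣ orderOf n := orderOf_pow_dvd _
      refine this.trans ?_
      have := orderOf_dvd_natCard (⟨n, hn⟩ : N)
      rwa [Subgroup.orderOf_mk] at this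
    have h4 : orderOf (n ^ Nat.card D₀) = 1 := by
      by_contra hne
      obtain ⟨r, hr, hrd⟩ := Nat.exists_prime_and_dvd hne
      exact hN r hr (hrd.trans h3) (hmπ r hr (hrd.trans h2))
    rw [orderOf_eq_one_iff] at h4
    have h5 : orderOf n ∣ Nat.card D₀ := orderOf_dvd_of_pow_eq_one h4
    have h6 : orderOf n ∣ Nat.card N := by
      have := orderOf_dvd_natCard (⟨n, hn⟩ : N)
      rwa [Subgroup.orderOf_mk] at this
    have h7 : orderOf n = 1 := Nat.eq_one_of_dvd_coprimes hcopDN h5 h6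
    rw [orderOf_eq_one_iff] at h7
    rw [h7, mul_one]; exact hd
  have hD₀elt : ∀ d ∈ D₀, ∀ r : ℕ, r.Prime → r ∣ orderOf d → r ∈ π := by
    intro d hd r hr hrd
    apply hD₀π r hr
    have := orderOf_dvd_natCard (⟨d, hd⟩ : D₀)
    rw [Subgroup.orderOf_mk] at this
    exact hrd.trans this
  refine ⟨D₀, ?_, hD₀π, ?_⟩
  · constructor
    intro d hd g
    apply hπD₀ _ (hMn.conj_mem d (hD₀M hd) g)
    have hs : SemiconjBy g d (g * d * g⁻¹) := by unfold SemiconjBy; group
    rw [← hs.orderOf_eq]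
    exact hD₀elt d hd
  · intro r hr hrd
    have hM : Nat.card M = Nat.card D₀ * Nat.card N := by
      have := hD'.card_mul_card
      rw [hN'card] at this
      rw [← this, hD₀, Subgroup.card_map_of_injective M.subtype_injective]
    have h1 : D₀.index * Nat.card D₀ = M.index * Nat.card N * Nat.card D₀ := by
      rw [mul_comm D₀.index, Subgroup.card_mul_index, ← Subgroup.card_mul_index M, hM]; ring
    have h2 : D₀.index = M.index * Nat.card N :=
      Nat.eq_of_mul_eq_mul_right Nat.card_pos h1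
    rw [h2] at hrd
    rcases (Nat.Prime.dvd_mul hr).1 hrd with h | h
    · exact hXM r hr h
    · exact hN r hr h

/-- The main theorem: a `π'`-homogeneous group with a normal series `1 ≤ L ≤ K ≤ M ≤ G` with
factors `π`, `π'`, `π`, `π'` has a normal Hall `π`-subgroup. -/
theorem exists_normal_hall_of_homogeneous {G : Type*} [Group G] [Finite G] (π : Set ℕ)
    (hhom : ∀ H : Subgroup G, H ≠ ⊥ → (∀ p : ℕ, p.Prime → p ∣ Nat.card ↥H → p ∉ π) →
      ∀ p : ℕ, p.Prime → p ∣ (Subgroup.centralizer (H : Set G)).relIndex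
        (Subgroup.normalizer (H : Set G)) → p ∉ π)
    (L K M : Subgroup G) [hLn : L.Normal] [hKn : K.Normal] [hMn : M.Normal] (hLK : L ≤ K)
    (hKM : K ≤ M)
    (hL : ∀ p : ℕ, p.Prime → p ∣ Nat.card L → p ∈ π)
    (hKL : ∀ p : ℕ, p.Prime → p ∣ L.relIndex K → p ∉ π)
    (hMK : ∀ p : ℕ, p.Prime → p ∣ K.relIndex M → p ∈ π)
    (hGM : ∀ p : ℕ, p.Prime → p ∣ M.index → p ∉ π) :
    ∃ D : Subgroup G, D.Normal ∧ (∀ p : ℕ, p.Prime → p ∣ Nat.card D → p ∈ π) ∧
      (∀ p : ℕ, p.Prime → p ∣ D.index → p ∉ π) := by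
  obtain ⟨f, hf⟩ : ∃ f : G →* G ⧸ L, f = QuotientGroup.mk' L := ⟨_, rfl⟩
  have hfs : Function.Surjective f := hf ▸ QuotientGroup.mk'_surjective L
  have hker : f.ker = L := hf ▸ QuotientGroup.ker_mk' L
  have hNn : (K.map f).Normal := hKn.map f hfs
  have hM'n : (M.map f).Normal := hMn.map f hfs
  have hLbot : L.map f = ⊥ := (Subgroup.map_eq_bot_iff _).2 hker.ge
  have hNcard : Nat.card (K.map f) = L.relIndex K := by
    have := Subgroup.relIndex_map_map f L K
    rw [hLbot, Subgroup.relIndex_bot_left, hker, sup_idem, sup_of_le_left hLK] at this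
    exact this
  have hMNrel : (K.map f).relIndex (M.map f) = K.relIndex M := by
    have := Subgroup.relIndex_map_map f K M
    rw [hker, sup_of_le_left hLK, sup_of_le_left (hLK.trans hKM)] at this
    exact this
  have hM'idx : (M.map f).index = M.index :=
    Subgroup.index_map_eq M hfs (hker.le.trans (hLK.trans hKM))
  obtain ⟨D₀, hD₀n, hD₀π, hD₀idx⟩ := exists_normal_hall_of_centralize π (K.map f) (M.map f)
    (Subgroup.map_mono hKM)
    (fun r hr hrd => hKL r hr (hNcard ▸ hrd))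
    (fun r hr hrd => hMK r hr (hMNrel ▸ hrd))
    (fun r hr hrd => hGM r hr (hM'idx ▸ hrd))
    (fun q _ hqπ Qb hQb p hpp hp xb a hxb hxn =>
      lift_centralize π hhom L hL q hqπ Qb hQb p hpp hp xb a hxb hxn)
  refine ⟨D₀.comap f, hD₀n.comap f, ?_, ?_⟩
  · intro r hr hrd
    have : Fact r.Prime := ⟨hr⟩
    obtain ⟨x, hx⟩ := exists_prime_orderOf_dvd_card' (G := ↥(D₀.comap f)) r hrd
    have hxD : f (x : G) ∈ D₀ := x.2
    have h1 : orderOf (f (x : G)) ∣ r := by
      rw [← hx, ← Subgroup.orderOf_coe]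
      exact orderOf_map_dvd f (x : G)
    rcases (Nat.dvd_prime hr).1 h1 with h | h
    · rw [orderOf_eq_one_iff, ← MonoidHom.mem_ker, hker] at h
      apply hL r hr
      have := orderOf_dvd_natCard (⟨(x : G), h⟩ : L)
      rwa [Subgroup.orderOf_mk, Subgroup.orderOf_coe, hx] at this
    · apply hD₀π r hr
      have := orderOf_dvd_natCard (⟨f (x : G), hxD⟩ : D₀)
      rwa [Subgroup.orderOf_mk, h] at this
  · intro r hr hrd
    rw [Subgroup.index_comap_of_surjective _ hfs] at hrd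
    exact hD₀idx r hr hrd

/-- If the `π`-elements form the subgroup `K`, then `K` is a normal Hall `π`-subgroup. -/
theorem normal_hall_of_pi_subgroup {X : Type*} [Group X] [Finite X] (π : Set ℕ) (K : Subgroup X)
    (hK : ∀ x : X, x ∈ K ↔ ∀ p : ℕ, p.Prime → p ∣ orderOf x → p ∈ π) :
    K.Normal ∧ (∀ p : ℕ, p.Prime → p ∣ Nat.card K → p ∈ π) ∧
      (∀ p : ℕ, p.Prime → p ∣ K.index → p ∉ π) := by
  have hKn : K.Normal := by
    constructor
    intro x hx g
    rw [hK] at hx ⊢
    have hs : SemiconjBy g x (g * x * g⁻¹) := by unfold SemiconjBy; group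
    rw [← hs.orderOf_eq]; exact hx
  refine ⟨hKn, ?_, ?_⟩
  · intro p hp hpd
    have : Fact p.Prime := ⟨hp⟩
    obtain ⟨x, hx⟩ := exists_prime_orderOf_dvd_card' (G := ↥K) p hpd
    have := (hK (x : X)).1 x.2 p hp
    rw [Subgroup.orderOf_coe, hx] at this
    exact this dvd_rfl
  · intro p hp hpd hpπ
    have : Fact p.Prime := ⟨hp⟩
    rw [Subgroup.index_eq_card] at hpd
    obtain ⟨xb, hxb⟩ := exists_prime_orderOf_dvd_card' (G := X ⧸ K) p hpd
    obtain ⟨x, rfl⟩ := QuotientGroup.mk_surjective xb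
    obtain ⟨a, m, hm, hxm⟩ := Nat.exists_eq_pow_mul_and_not_dvd (orderOf_pos x).ne' p
      hp.ne_one
    have hy : (x ^ m) ^ (p ^ a) = 1 := by
      rw [← pow_mul, mul_comm, ← hxm, pow_orderOf_eq_one]
    have hyK : x ^ m ∈ K := by
      rw [hK]
      intro r hr hrd
      have h1 : r ∣ p ^ a := hrd.trans (orderOf_dvd_of_pow_eq_one hy)
      have := (Nat.prime_dvd_prime_iff_eq hr hp).1 (hr.dvd_of_dvd_pow h1)
      rw [this]; exact hpπ
    have h2 : (QuotientGroup.mk x : X ⧸ K) ^ m = 1 := by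
      rw [← QuotientGroup.mk_pow]; exact (QuotientGroup.eq_one_iff _).2 hyK
    have h3 : p ∣ m := by rw [← hxb]; exact orderOf_dvd_of_pow_eq_one h2
    exact hm h3

/-- The elements of a normal Hall `π`-subgroup are exactly the `π`-elements. -/
theorem mem_iff_of_normal_hall {X : Type*} [Group X] [Finite X] (π : Set ℕ) (D : Subgroup X)
    [hDn : D.Normal] (hDπ : ∀ p : ℕ, p.Prime → p ∣ Nat.card D → p ∈ π)
    (hDidx : ∀ p : ℕ, p.Prime → p ∣ D.index → p ∉ π) (x : X) :
    x ∈ D ↔ ∀ p : ℕ, p.Prime → p ∣ orderOf x → p ∈ π := by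
  refine ⟨fun hx p hp hpd => ?_, fun hx => ?_⟩
  · apply hDπ p hp
    have := orderOf_dvd_natCard (⟨x, hx⟩ : D)
    rw [Subgroup.orderOf_mk] at this
    exact hpd.trans this
  · have h1 : orderOf (QuotientGroup.mk x : X ⧸ D) ∣ orderOf x :=
      orderOf_map_dvd (QuotientGroup.mk' D) x
    have h2 : orderOf (QuotientGroup.mk x : X ⧸ D) ∣ D.index := by
      rw [Subgroup.index_eq_card]; exact orderOf_dvd_natCard _
    have h3 : orderOf (QuotientGroup.mk x : X ⧸ D) = 1 := by
      by_contra hne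
      obtain ⟨r, hr, hrd⟩ := Nat.exists_prime_and_dvd hne
      exact hDidx r hr (hrd.trans h2) (hx r hr (hrd.trans h1))
    rw [orderOf_eq_one_iff] at h3
    exact (QuotientGroup.eq_one_iff x).1 h3

end Cfsg.Agent.Lib.Helper67
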