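import Mathlib
import Cfsg.Agent.S0713
import Cfsg.Agent.Lib.Helper12.W2pDefs

/-!
# W2P module [JOR] (S0720, helper12): in a primitive, not 2-transitive group of degree `2p`
every element of order `p` is fixed-point-free (Jordan's theorem S0713).
-/

set_option autoImplicit false

namespace Cfsg.Agent.Lib.Helper67.W2pJor

open Cfsg.Agent.Lib.Helper12.W2p

variable {α : Type*} [Fintype α] [DecidableEq α] {p : ℕ}

/-- a subgroup of `Perm α` containing the alternating group is 2-transitive if `4 ≤ card α` -/
theorem two_trans_of_alternating_le (G : Subgroup (Equiv.Perm α)) (h4 : 4 ≤ Fintype.card α)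
    (hle : alternatingGroup α ≤ G) : MulAction.IsMultiplyPretransitive G α 2 := by
  have h1 := alternatingGroup.isMultiplyPretransitive α
  have hc : Nat.card α = Fintype.card α := Nat.card_eq_fintype_card
  have h2 : MulAction.IsMultiplyPretransitive (alternatingGroup α) α 2 :=
    MulAction.isMultiplyPretransitive_of_le (n := Nat.card α - 2) (by omega) (by omega)
  rw [MulAction.isMultiplyPretransitive_iff] at h2 ⊢
  intro x y
  obtain ⟨g, hg⟩ := h2 x y
  exact ⟨⟨(g : Equiv.Perm α), hle g.2⟩, hg⟩

theorem fpf_of_not_two_trans (hp : p.Prime) (hp2 : p ≠ 2) (hα : Fintype.card α = 2 * p)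
    (G : Subgroup (Equiv.Perm α)) (hG : MulAction.IsPreprimitive G α)
    (h2 : ¬ MulAction.IsMultiplyPretransitive G α 2) :
    ∀ g : Equiv.Perm α, g ∈ G → orderOf g = p → ∀ x : α, g x ≠ x := by
  intro g hgG hgo x hx
  apply h2
  have hp3 : 3 ≤ p := by
    have := hp.two_le
    omega
  haveI : Fact p.Prime := ⟨hp⟩
  -- the cycle type of `g`
  obtain ⟨n, hn⟩ := Equiv.Perm.cycleType_prime_order (σ := g) (by rw [hgo]; exact hp)
  rw [hgo] at hn
  have hsupp : g.support.card = (n + 1) * p := by
    rw [← Equiv.Perm.sum_cycleType, hn, Multiset.sum_replicate, smul_eq_mul]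
  -- `x` is not in the support
  have hxs : x ∉ g.support := by
    rw [Equiv.Perm.mem_support, not_not]
    exact hx
  have hlt : g.support.card < Fintype.card α := by
    apply Finset.card_lt_card
    rw [Finset.ssubset_iff]
    exact ⟨x, hxs, Finset.subset_univ _⟩
  have hn0 : n = 0 := by
    rw [hsupp, hα] at hlt
    by_contra hne
    have : 2 ≤ n + 1 := by omega
    have : 2 * p ≤ (n + 1) * p := Nat.mul_le_mul_right p this
    omega
  subst hn0
  have hcyc : g.IsCycle := by
    rw [← Equiv.Perm.card_cycleType_eq_one, hn]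
    simp
  have hsc : g.support.card = p := by rw [hsupp]; ring
  have halt := Cfsg.Agent.S0713.result G hG hp (by omega) (by omega) hcyc hsc hgG
  exact two_trans_of_alternating_le G (by omega) halt

end Cfsg.Agent.Lib.Helper67.W2pJor
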