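import Mathlib
import Cfsg.Agent.Lib.Helper12.ZassDefs

/-!
# Module G of the Zassenhaus theorem (S0690): abstract part

Element-level description of the four-subgroups `V` with `VSub σ V` (order 4, normalised but
not centralised by `σ`), their non-existence in cyclic and dihedral groups, and transport along
injective homomorphisms.
-/

set_option autoImplicit false

namespace Cfsg.Agent.Lib.Helper67.Zass

open Cfsg.Agent.Lib.Helper12.Zass

/-- Element-level data of a four-subgroup normalised but not centralised by `s`: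
`v` is an involution, `w = s v s⁻¹ ≠ v` commutes with `v`, and `s w s⁻¹ = v w`. -/
def VData {Γ : Type*} [Group Γ] (s v : Γ) : Prop :=
  v ≠ 1 ∧ v * v = 1 ∧ s * v * s⁻¹ ≠ v ∧ v * (s * v * s⁻¹) = s * v * s⁻¹ * v ∧
    s * (s * v * s⁻¹) * s⁻¹ = v * (s * v * s⁻¹)

instance {Γ : Type*} [Group Γ] [DecidableEq Γ] (s v : Γ) : Decidable (VData s v) := by
  unfold VData; infer_instance

/-- Membership in the four-set `{1, v, s v s⁻¹, v (s v s⁻¹)}`. -/
def InV {Γ : Type*} [Group Γ] (s v g : Γ) : Prop :=
  g = 1 ∨ g = v ∨ g = s * v * s⁻¹ ∨ g = v * (s * v * s⁻¹)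

instance {Γ : Type*} [Group Γ] [DecidableEq Γ] (s v g : Γ) : Decidable (InV s v g) := by
  unfold InV; infer_instance

section abs

variable {Γ : Type*} [Group Γ]

theorem VData.map {H : Type*} [Group H] (f : Γ →* H) (hf : Function.Injective f) {s v : Γ}
    (h : VData s v) : VData (f s) (f v) := by
  obtain ⟨h1, h2, h3, h4, h5⟩ := h
  refine ⟨fun h' => h1 (hf (by rw [h', map_one])), ?_, ?_, ?_, ?_⟩
  · rw [← map_mul, h2, map_one]
  · intro h'
    apply h3
    apply hf
    rw [map_mul, map_mul, map_inv, h']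
  · rw [← map_inv, ← map_mul, ← map_mul, ← map_mul, ← map_mul, h4]
  · rw [← map_inv, ← map_mul, ← map_mul, ← map_mul, ← map_mul, ← map_mul, h5]

theorem InV.map {H : Type*} [Group H] (f : Γ →* H) {s v g : Γ} (h : InV s v g) :
    InV (f s) (f v) (f g) := by
  rcases h with h | h | h | h
  · left; rw [h, map_one]
  · right; left; rw [h]
  · right; right; left; rw [h, map_mul, map_mul, map_inv]
  · right; right; right; rw [h, map_mul, map_mul, map_mul, map_inv]

theorem InV.of_map {H : Type*} [Group H] (f : Γ →* H) (hf : Function.Injective f) {s v g : Γ}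
    (h : InV (f s) (f v) (f g)) : InV s v g := by
  rcases h with h | h | h | h
  · left; apply hf; rw [h, map_one]
  · right; left; exact hf h
  · right; right; left; apply hf; rw [h, map_mul, map_mul, map_inv]
  · right; right; right; apply hf; rw [h, map_mul, map_mul, map_mul, map_inv]

/-- Relations following from `VData`. -/
theorem VData.w_sq {s v : Γ} (h : VData s v) : s * v * s⁻¹ * (s * v * s⁻¹) = 1 := by
  have : s * v * s⁻¹ * (s * v * s⁻¹) = s * (v * v) * s⁻¹ := by group
  rw [this, h.2.1, mul_one, mul_inv_cancel]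

theorem VData.w_ne_one {s v : Γ} (h : VData s v) : s * v * s⁻¹ ≠ 1 := by
  intro h'
  apply h.1
  have : v = s⁻¹ * (s * v * s⁻¹) * s := by group
  rw [this, h', mul_one, inv_mul_cancel]

theorem VData.vw_ne_one {s v : Γ} (h : VData s v) : v * (s * v * s⁻¹) ≠ 1 := by
  intro h'
  apply h.2.2.1
  have h1 : s * v * s⁻¹ = v⁻¹ := (eq_inv_of_mul_eq_one_right h')
  rw [h1]
  exact inv_eq_of_mul_eq_one_right h.2.1

/-- The four-subgroup built from `VData`. -/
def vsubOf (s v : Γ) (h : VData s v) : Subgroup Γ where
  carrier := {g | InV s v g}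
  one_mem' := Or.inl rfl
  mul_mem' := by
    intro a b ha hb
    have hvv := h.2.1
    have hww := h.w_sq
    have hc := h.2.2.2.1
    set w := s * v * s⁻¹ with hw
    have e1 : w * v = v * w := hc.symm
    have e2 : v * (v * w) = w := by rw [← mul_assoc, hvv, one_mul]
    have e3 : w * (v * w) = v := by rw [← mul_assoc, e1, mul_assoc, hww, mul_one]
    have e4 : v * w * v = w := by rw [mul_assoc, e1, ← mul_assoc, hvv, one_mul]
    have e5 : v * w * w = v := by rw [mul_assoc, hww, mul_one]
    have e6 : v * w * (v * w) = 1 := by rw [mul_assoc, e3, hvv]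
    rcases ha with rfl | rfl | rfl | rfl <;> rcases hb with rfl | rfl | rfl | rfl
    · left; rw [one_mul]
    · right; left; rw [one_mul]
    · right; right; left; rw [one_mul]
    · right; right; right; rw [one_mul]
    · right; left; rw [mul_one]
    · left; exact hvv
    · right; right; right; rfl
    · right; right; left; exact e2
    · right; right; left; rw [mul_one]
    · right; right; right; exact e1
    · left; exact hww
    · right; left; exact e3
    · right; right; right; rw [mul_one]
    · right; right; left; exact e4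
    · right; left; exact e5
    · left; exact e6
  inv_mem' := by
    intro a ha
    have hvv := h.2.1
    have hww := h.w_sq
    have hc := h.2.2.2.1
    set w := s * v * s⁻¹ with hw
    have e1 : w * v = v * w := hc.symm
    have e3 : w * (v * w) = v := by rw [← mul_assoc, e1, mul_assoc, hww, mul_one]
    have e6 : v * w * (v * w) = 1 := by rw [mul_assoc, e3, hvv]
    rcases ha with rfl | rfl | rfl | rfl
    · left; exact inv_one
    · right; left; exact inv_eq_of_mul_eq_one_right hvv
    · right; right; left; exact inv_eq_of_mul_eq_one_right hww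
    · right; right; right; exact inv_eq_of_mul_eq_one_right e6

theorem mem_vsubOf {s v : Γ} (h : VData s v) (g : Γ) : g ∈ vsubOf s v h ↔ InV s v g := Iff.rfl

theorem card_vsubOf {s v : Γ} (h : VData s v) : Nat.card (vsubOf s v h) = 4 := by
  classical
  have hv1 := h.1
  have hw1 := h.w_ne_one
  have hvw1 := h.vw_ne_one
  have hwv := h.2.2.1
  set w := s * v * s⁻¹ with hw
  have hset : ((vsubOf s v h : Subgroup Γ) : Set Γ) = (({1, v, w, v * w} : Finset Γ) : Set Γ) := by
    ext g
    simp only [SetLike.mem_coe, mem_vsubOf, InV, Finset.coe_insert, Finset.coe_singleton,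
      Set.mem_insert_iff, Set.mem_singleton_iff]
    exact Iff.rfl
  have hcard : ({1, v, w, v * w} : Finset Γ).card = 4 := by
    have n1 : (1 : Γ) ∉ ({v, w, v * w} : Finset Γ) := by
      simp only [Finset.mem_insert, Finset.mem_singleton, not_or]
      exact ⟨fun e => hv1 e.symm, fun e => hw1 e.symm, fun e => hvw1 e.symm⟩
    have n2 : v ∉ ({w, v * w} : Finset Γ) := by
      simp only [Finset.mem_insert, Finset.mem_singleton, not_or]
      refine ⟨fun e => hwv e.symm, fun e => hw1 ?_⟩
      exact (mul_eq_left.mp e.symm)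
    have n3 : w ∉ ({v * w} : Finset Γ) := by
      simp only [Finset.mem_singleton]
      intro e
      exact hv1 (mul_eq_right.mp e.symm)
    rw [Finset.card_insert_of_notMem n1, Finset.card_insert_of_notMem n2,
      Finset.card_insert_of_notMem n3, Finset.card_singleton]
  have h1 : Nat.card (vsubOf s v h) = ((vsubOf s v h : Subgroup Γ) : Set Γ).ncard :=
    (Nat.card_coe_set_eq _)
  rw [h1, hset, Set.ncard_coe_finset, hcard]

theorem vsub_vsubOf {s v : Γ} (h : VData s v) : VSub s (vsubOf s v h) := by
  refine ⟨card_vsubOf h, ?_, v, Or.inr (Or.inl rfl), h.2.2.1⟩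
  intro g hg
  have hvv := h.2.1
  have hww := h.w_sq
  have hc := h.2.2.2.1
  have h5 := h.2.2.2.2
  rw [mem_vsubOf] at hg ⊢
  rcases hg with rfl | rfl | rfl | rfl
  · left; rw [mul_one, mul_inv_cancel]
  · right; right; left; rfl
  · right; right; right; exact h5
  · right; left
    have : s * (v * (s * v * s⁻¹)) * s⁻¹ = s * v * s⁻¹ * (s * (s * v * s⁻¹) * s⁻¹) := by group
    rw [this, h5, ← mul_assoc, ← hc, mul_assoc, hww, mul_one]

/-- Every `VSub s V` with `s ^ 3 = 1` comes from `VData`. -/
theorem vsub_data (s : Γ) (hs : s ^ 3 = 1) (V : Subgroup Γ) (hV : VSub s V) :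
    ∃ v, VData s v ∧ ∀ g, g ∈ V ↔ InV s v g := by
  classical
  obtain ⟨hcard, hnorm, v, hvV, hvne⟩ := hV
  have h3 : s * s * s = 1 := by rw [pow_succ, pow_succ, pow_one] at hs; exact hs
  have h3' : s⁻¹ * s⁻¹ * s⁻¹ = 1 := by
    have : s⁻¹ * s⁻¹ * s⁻¹ = (s * s * s)⁻¹ := by group
    rw [this, h3, inv_one]
  have hwV : s * v * s⁻¹ ∈ V := hnorm v hvV
  have huV : s * (s * v * s⁻¹) * s⁻¹ ∈ V := hnorm _ hwV
  have hsu : s * (s * (s * v * s⁻¹) * s⁻¹) * s⁻¹ = v := by
    have : s * (s * (s * v * s⁻¹) * s⁻¹) * s⁻¹ = (s * s * s) * v * (s⁻¹ * s⁻¹ * s⁻¹) := by group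
    rw [this, h3, h3', one_mul, mul_one]
  set w := s * v * s⁻¹ with hw
  set u := s * w * s⁻¹ with hu
  have hback : ∀ a : Γ, s⁻¹ * (s * a * s⁻¹) * s = a := fun a => by group
  have hv1 : v ≠ 1 := by
    intro e; apply hvne; rw [hw, e, mul_one, mul_inv_cancel]
  have hw1 : w ≠ 1 := by
    intro e; apply hv1; rw [← hback v, ← hw, e, mul_one, inv_mul_cancel]
  have hu1 : u ≠ 1 := by
    intro e; apply hw1; rw [← hback w, ← hu, e, mul_one, inv_mul_cancel]
  have huw : u ≠ w := by
    intro e; apply hvne
    have : s⁻¹ * u * s = s⁻¹ * w * s := by rw [e]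
    rw [hu, hback w, hw, hback v] at this
    exact this
  have huv : u ≠ v := by
    intro e; apply hvne
    have : s * u * s⁻¹ = s * v * s⁻¹ := by rw [e]
    rw [hsu] at this
    exact this.symm
  -- V = {1, v, w, u}
  have hcardF : ({1, v, w, u} : Finset Γ).card = 4 := by
    have n1 : (1 : Γ) ∉ ({v, w, u} : Finset Γ) := by
      simp only [Finset.mem_insert, Finset.mem_singleton, not_or]
      exact ⟨fun e => hv1 e.symm, fun e => hw1 e.symm, fun e => hu1 e.symm⟩
    have n2 : v ∉ ({w, u} : Finset Γ) := by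
      simp only [Finset.mem_insert, Finset.mem_singleton, not_or]
      exact ⟨fun e => hvne e.symm, fun e => huv e.symm⟩
    have n3 : w ∉ ({u} : Finset Γ) := by
      simp only [Finset.mem_singleton]
      exact fun e => huw e.symm
    rw [Finset.card_insert_of_notMem n1, Finset.card_insert_of_notMem n2,
      Finset.card_insert_of_notMem n3, Finset.card_singleton]
  have hsub : (({1, v, w, u} : Finset Γ) : Set Γ) ⊆ (V : Set Γ) := by
    intro g hg
    simp only [Finset.coe_insert, Finset.coe_singleton, Set.mem_insert_iff,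
      Set.mem_singleton_iff] at hg
    rcases hg with rfl | rfl | rfl | rfl
    · exact V.one_mem
    · exact hvV
    · exact hwV
    · exact huV
  have hVfin : (V : Set Γ).Finite := by
    have : Finite V := Nat.finite_of_card_ne_zero (by rw [hcard]; norm_num)
    exact Set.toFinite _
  have hVncard : (V : Set Γ).ncard = 4 := by
    rw [← hcard]; exact (Nat.card_coe_set_eq _).symm
  have hseteq : (({1, v, w, u} : Finset Γ) : Set Γ) = (V : Set Γ) := by
    apply Set.eq_of_subset_of_ncard_le hsub _ hVfin
    rw [hVncard, Set.ncard_coe_finset, hcardF]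
  have hmem : ∀ g, g ∈ V ↔ (g = 1 ∨ g = v ∨ g = w ∨ g = u) := by
    intro g
    rw [← SetLike.mem_coe, ← hseteq]
    simp only [Finset.coe_insert, Finset.coe_singleton, Set.mem_insert_iff,
      Set.mem_singleton_iff]
  -- commutativity of V
  have hcomm : ∀ a ∈ V, ∀ b ∈ V, a * b = b * a := by
    intro a ha b hb
    have : Fact (Nat.Prime 2) := ⟨Nat.prime_two⟩
    have hmc := IsPGroup.isMulCommutative_of_card_eq_prime_sq (p := 2) (G := V)
      (by rw [hcard]; norm_num)
    have := hmc.is_comm.comm ⟨a, ha⟩ ⟨b, hb⟩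
    exact congrArg Subtype.val this
  -- v * w = u
  have hvw : v * w = u := by
    have hm : v * w ∈ V := V.mul_mem hvV hwV
    rcases (hmem _).1 hm with e | e | e | e
    · exfalso
      apply huv
      have h1 : w = v⁻¹ := eq_inv_of_mul_eq_one_right e
      have : u = (s * v * s⁻¹)⁻¹ := by
        rw [hu, h1]; group
      rw [this, ← hw, h1, inv_inv]
    · exfalso; exact hw1 (mul_eq_left.mp e)
    · exfalso; exact hv1 (mul_eq_right.mp e)
    · exact e
  have hwu : w * u = v := by
    have : w * u = s * (v * w) * s⁻¹ := by rw [hu, hw]; group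
    rw [this, hvw, hsu]
  have hvwc : v * w = w * v := hcomm v hvV w hwV
  have hww : w * w = 1 := by
    have : w * (v * w) = v := by rw [hvw]; exact hwu
    rw [hvwc, ← mul_assoc] at this
    exact mul_eq_right.mp this
  have hvv : v * v = 1 := by
    have e : w * w = s * (v * v) * s⁻¹ := by rw [hw]; group
    rw [hww] at e
    have : s⁻¹ * (s * (v * v) * s⁻¹) * s = v * v := hback _
    rw [← e, mul_one, inv_mul_cancel] at this
    exact this.symm
  refine ⟨v, ⟨hv1, hvv, hvne, hvwc, ?_⟩, ?_⟩
  · exact hvw.symm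
  · intro g
    rw [hmem g, InV, ← hw, hvw]

/-- No `VSub` in a commutative group. -/
theorem not_vsub_of_comm (hc : ∀ a b : Γ, a * b = b * a) (s : Γ) (V : Subgroup Γ)
    (hV : VSub s V) : False := by
  obtain ⟨_, _, v, _, hv⟩ := hV
  apply hv
  rw [hc s v, mul_assoc, mul_inv_cancel, mul_one]

theorem comm_of_isCyclic (hc : IsCyclic Γ) (a b : Γ) : a * b = b * a := by
  obtain ⟨g, hg⟩ := hc.exists_generator
  obtain ⟨m, rfl⟩ := hg a
  obtain ⟨n, rfl⟩ := hg b
  rw [← zpow_add, ← zpow_add, add_comm]

/-- An element of order 3 of a dihedral group is a rotation. -/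
theorem dihedral_order_three {n : ℕ} (x : DihedralGroup n) (hx : orderOf x = 3) :
    ∃ i : ZMod n, x = DihedralGroup.r i := by
  cases x with
  | r i => exact ⟨i, rfl⟩
  | sr i => rw [DihedralGroup.orderOf_sr] at hx; omega

/-- No `VSub` for an element of order 3 of a dihedral group. -/
theorem not_vsub_dihedral {n : ℕ} (e : Γ ≃* DihedralGroup n) (s : Γ) (hs : orderOf s = 3)
    (V : Subgroup Γ) (hV : VSub s V) : False := by
  obtain ⟨hcard, hnorm, v, hvV, hv⟩ := hV
  have hes : orderOf (e s) = 3 := by rw [← hs]; exact e.orderOf_eq s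
  obtain ⟨i, hi⟩ := dihedral_order_three (e s) hes
  have hs3 : s ^ 3 = 1 := by rw [← hs]; exact pow_orderOf_eq_one s
  have h3i : DihedralGroup.r (i + i + i) = (1 : DihedralGroup n) := by
    have : (e s) ^ 3 = 1 := by rw [← map_pow, hs3, map_one]
    rw [hi] at this
    rw [← this, pow_succ, pow_succ, pow_one, DihedralGroup.r_mul_r, DihedralGroup.r_mul_r]
  -- e v is a reflection
  have hev : ∃ k, e v = DihedralGroup.sr k := by
    cases hk : e v with
    | r k =>
      exfalso
      apply hv
      apply e.injective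
      rw [map_mul, map_mul, map_inv, hi, hk, DihedralGroup.inv_r, DihedralGroup.r_mul_r,
        DihedralGroup.r_mul_r]
      congr 1
      ring
    | sr k => exact ⟨k, rfl⟩
  obtain ⟨k, hk⟩ := hev
  -- v * (s v s⁻¹) = s
  have hprod : v * (s * v * s⁻¹) = s := by
    apply e.injective
    rw [map_mul, map_mul, map_mul, map_inv, hi, hk, DihedralGroup.inv_r,
      DihedralGroup.r_mul_sr, DihedralGroup.sr_mul_r, DihedralGroup.sr_mul_sr]
    have : DihedralGroup.r i = DihedralGroup.r i * (DihedralGroup.r (i + i + i))⁻¹ := by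
      rw [h3i, inv_one, mul_one]
    rw [this, DihedralGroup.inv_r, DihedralGroup.r_mul_r]
    congr 1
    ring
  have hsV : s ∈ V := by
    rw [← hprod]; exact V.mul_mem hvV (hnorm v hvV)
  have h4 : s ^ 4 = 1 := by
    have : (⟨s, hsV⟩ : V) ^ Nat.card V = 1 := pow_card_eq_one'
    rw [hcard] at this
    exact congrArg Subtype.val this
  have : s = 1 := by
    have : s ^ 4 = s ^ 3 * s := pow_succ s 3
    rw [h4, hs3, one_mul] at this
    exact this.symm
  rw [this, orderOf_one] at hs
  omega

end abs

end Cfsg.Agent.Lib.Helper67.Zass
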