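import Mathlib
import Cfsg.Agent.Lib.Helper67.ZassGAbs

/-!
# Module G of the Zassenhaus theorem (S0690): finite checks in `S₄`, `A₄`, `A₅`
-/

set_option autoImplicit false

namespace Cfsg.Agent.Lib.Helper67.Zass

open Equiv

/-- In `S₄` no element of order 3 commutes with a non-identity element of 2-power order. -/
theorem c_S4_comm : ∀ ι τ : Perm (Fin 4), ι ^ 4 = 1 → ι ≠ 1 → τ ^ 3 = 1 → τ ≠ 1 →
    τ * ι ≠ ι * τ := by decide +kernel

/-- In `A₅` no element of order 3 commutes with a non-identity element of 2-power order. -/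
theorem c_A5_comm : ∀ ι τ : alternatingGroup (Fin 5), ι ^ 4 = 1 → ι ≠ 1 → τ ^ 3 = 1 → τ ≠ 1 →
    τ * ι ≠ ι * τ := by decide +kernel

/-- In `S₄` all `VData` describe the same four-group. -/
theorem c_S4_uniq : ∀ s₁ v₁ : Perm (Fin 4), VData s₁ v₁ → ∀ s₂ v₂ : Perm (Fin 4), VData s₂ v₂ →
    InV s₁ v₁ v₂ ∧ InV s₁ v₁ (s₂ * v₂ * s₂⁻¹) := by decide +kernel

/-- In `A₅` the centraliser of a non-identity element of a `VData` four-group is that group. -/
theorem c_A5_cent : ∀ s v : alternatingGroup (Fin 5), VData s v → ∀ ι, InV s v ι → ι ≠ 1 →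
    ∀ g, g * ι = ι * g → InV s v g := by decide +kernel

/-- Existence of `VData` in `A₄`. -/
theorem c_A4_ex : ∀ s : alternatingGroup (Fin 4), s ^ 3 = 1 → s ≠ 1 → ∃ v, VData s v := by
  decide +kernel

/-- Two `VData` in `A₅` with product of order 5. -/
theorem c_A5_ex : ∀ s : alternatingGroup (Fin 5), s ^ 3 = 1 → s ≠ 1 →
    ∃ v₁ v₂, VData s v₁ ∧ VData s v₂ ∧ (v₁ * v₂) ^ 5 = 1 ∧ v₁ * v₂ ≠ 1 := by decide +kernel

/-- The conclusion of the swap lemma. -/
def SwapOK {Γ : Type*} [Group Γ] (s v₁ v₂ u : Γ) : Prop :=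
  u * s * u⁻¹ = s⁻¹ ∧ InV s v₂ (u * v₁ * u⁻¹) ∧
      InV s v₂ (u * (s * v₁ * s⁻¹) * u⁻¹) ∧ InV s v₁ (u * v₂ * u⁻¹) ∧
      InV s v₁ (u * (s * v₂ * s⁻¹) * u⁻¹)

instance {Γ : Type*} [Group Γ] [DecidableEq Γ] (s v₁ v₂ u : Γ) :
    Decidable (SwapOK s v₁ v₂ u) := by
  unfold SwapOK; infer_instance

set_option synthInstance.maxSize 1024 in
/-- The swapping element in `A₅`. -/
theorem c_A5_swap : ∀ s v₁ : alternatingGroup (Fin 5), VData s v₁ → ∀ v₂, VData s v₂ →
    ¬ InV s v₁ v₂ → ∃ u, SwapOK s v₁ v₂ u := by decide +kernel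

theorem card_A5 : Nat.card (alternatingGroup (Fin 5)) = 60 := by
  have h := two_mul_nat_card_alternatingGroup (α := Fin 5)
  rw [Nat.card_eq_fintype_card (α := Perm (Fin 5)), Fintype.card_perm, Fintype.card_fin] at h
  have : (5).factorial = 120 := by decide
  omega

theorem card_A4 : Nat.card (alternatingGroup (Fin 4)) = 12 := by
  have h := two_mul_nat_card_alternatingGroup (α := Fin 4)
  rw [Nat.card_eq_fintype_card (α := Perm (Fin 4)), Fintype.card_perm, Fintype.card_fin] at h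
  have : (4).factorial = 24 := by decide
  omega

end Cfsg.Agent.Lib.Helper67.Zass
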