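import Mathlib
import Cfsg.Agent.Lib.Helper67.ZassGData

/-!
# Module G of the Zassenhaus theorem (S0690): the four lemmas `gamma_*`

Exact statements requested by helper12 (board #1821).
-/

set_option autoImplicit false

namespace Cfsg.Agent.Lib.Helper67.Zass

open Cfsg.Agent.Lib.Helper12.Zass Equiv

section aux

variable {Γ : Type*} [Group Γ]

theorem pow_three_of_orderOf {x : Γ} (h : orderOf x = 3) : x ^ 3 = 1 ∧ x ≠ 1 := by
  refine ⟨by rw [← h]; exact pow_orderOf_eq_one x, ?_⟩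
  rintro rfl
  rw [orderOf_one] at h
  omega

theorem comm_of_card_four (V : Subgroup Γ) (hcard : Nat.card V = 4) :
    ∀ a ∈ V, ∀ b ∈ V, a * b = b * a := by
  intro a ha b hb
  have : Fact (Nat.Prime 2) := ⟨Nat.prime_two⟩
  have hmc := IsPGroup.isMulCommutative_of_card_eq_prime_sq (p := 2) (G := V)
    (by rw [hcard]; norm_num)
  have := hmc.is_comm.comm ⟨a, ha⟩ ⟨b, hb⟩
  exact congrArg Subtype.val this

theorem pow_four_of_mem (V : Subgroup Γ) (hcard : Nat.card V = 4) {g : Γ} (hg : g ∈ V) :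
    g ^ 4 = 1 := by
  have : (⟨g, hg⟩ : V) ^ Nat.card V = 1 := pow_card_eq_one'
  rw [hcard] at this
  exact congrArg Subtype.val this

theorem eq_of_le_of_card_four {V₁ V₂ : Subgroup Γ} (h1 : Nat.card V₁ = 4) (h2 : Nat.card V₂ = 4)
    (hle : V₂ ≤ V₁) : V₁ = V₂ := by
  have : Finite V₁ := Nat.finite_of_card_ne_zero (by rw [h1]; norm_num)
  exact (Subgroup.eq_of_le_of_card_ge hle (by rw [h1, h2])).symm

theorem le_of_inV {s₂ v₂ : Γ} {V₁ V₂ : Subgroup Γ}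
    (hm₂ : ∀ g, g ∈ V₂ ↔ InV s₂ v₂ g) (ha : v₂ ∈ V₁) (hb : s₂ * v₂ * s₂⁻¹ ∈ V₁) : V₂ ≤ V₁ := by
  intro g hg
  rcases (hm₂ g).1 hg with rfl | rfl | rfl | rfl
  · exact V₁.one_mem
  · exact ha
  · exact hb
  · exact V₁.mul_mem ha hb

theorem eq_top_of_dvd_card [Finite Γ] (H : Subgroup Γ) (n : ℕ) (hn : Nat.card Γ = n)
    (hd : n ∣ Nat.card H) : H = ⊤ := by
  apply (Subgroup.card_eq_iff_eq_top H).1
  exact Nat.dvd_antisymm (Subgroup.card_subgroup_dvd_card H) (hn ▸ hd)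

/-- No commuting: generic transport. -/
theorem no_comm_aux {H : Type*} [Group H] (f : Γ →* H) (hf : Function.Injective f)
    (hH : ∀ ι τ : H, ι ^ 4 = 1 → ι ≠ 1 → τ ^ 3 = 1 → τ ≠ 1 → τ * ι ≠ ι * τ)
    (V : Subgroup Γ) (hcard : Nat.card V = 4) (ι : Γ) (hι : ι ∈ V) (hι1 : ι ≠ 1) (τ : Γ)
    (hτ : orderOf τ = 3) (hc : τ * ι = ι * τ) : False := by
  obtain ⟨ht3, ht1⟩ := pow_three_of_orderOf hτ
  refine hH (f ι) (f τ) ?_ ?_ ?_ ?_ ?_
  · rw [← map_pow, pow_four_of_mem V hcard hι, map_one]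
  · intro h; exact hι1 (hf (by rw [h, map_one]))
  · rw [← map_pow, ht3, map_one]
  · intro h; exact ht1 (hf (by rw [h, map_one]))
  · rw [← map_mul, ← map_mul, hc]

/-- Uniqueness of the four-group in a group embedding in `S₄`. -/
theorem uniq_aux_S4 (f : Γ →* Perm (Fin 4)) (hf : Function.Injective f) (σ₁ σ₂ : Γ)
    (hσ₁ : σ₁ ^ 3 = 1) (hσ₂ : σ₂ ^ 3 = 1) (V₁ V₂ : Subgroup Γ) (h1 : VSub σ₁ V₁)
    (h2 : VSub σ₂ V₂) : V₁ = V₂ := by
  obtain ⟨v₁, hd₁, hm₁⟩ := vsub_data σ₁ hσ₁ V₁ h1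
  obtain ⟨v₂, hd₂, hm₂⟩ := vsub_data σ₂ hσ₂ V₂ h2
  have key := c_S4_uniq (f σ₁) (f v₁) (hd₁.map f hf) (f σ₂) (f v₂) (hd₂.map f hf)
  have ha : v₂ ∈ V₁ := (hm₁ _).2 (InV.of_map f hf key.1)
  have hb : σ₂ * v₂ * σ₂⁻¹ ∈ V₁ := by
    apply (hm₁ _).2
    apply InV.of_map f hf
    rw [map_mul, map_mul, map_inv]
    exact key.2
  exact eq_of_le_of_card_four h1.1 h2.1 (le_of_inV hm₂ ha hb)

end aux

/-- G3 -/
theorem gamma_no_comm {Γ : Type} [Group Γ] (h : DL Γ) (σ : Γ) (hσ : orderOf σ = 3)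
    (V : Subgroup Γ) (hV : VSub σ V) (ι : Γ) (hι : ι ∈ V) (hι1 : ι ≠ 1) (τ : Γ)
    (hτ : orderOf τ = 3) (hc : τ * ι = ι * τ) : False := by
  rcases h with hcyc | ⟨n, ⟨e⟩⟩ | ⟨⟨e⟩⟩ | ⟨⟨e⟩⟩ | ⟨⟨e⟩⟩
  · exact not_vsub_of_comm (comm_of_isCyclic hcyc) σ V hV
  · exact not_vsub_dihedral e σ hσ V hV
  · exact no_comm_aux ((alternatingGroup (Fin 4)).subtype.comp e.toMonoidHom)
      (Subtype.val_injective.comp e.injective) c_S4_comm V hV.1 ι hι hι1 τ hτ hc
  · exact no_comm_aux e.toMonoidHom e.injective c_S4_comm V hV.1 ι hι hι1 τ hτ hc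
  · exact no_comm_aux e.toMonoidHom e.injective c_A5_comm V hV.1 ι hι hι1 τ hτ hc

/-- G4 -/
theorem gamma_meet {Γ : Type} [Group Γ] (h : DL Γ) (σ₁ σ₂ : Γ) (hσ₁ : orderOf σ₁ = 3)
    (hσ₂ : orderOf σ₂ = 3) (V₁ V₂ : Subgroup Γ) (h1 : VSub σ₁ V₁) (h2 : VSub σ₂ V₂)
    (hne : V₁ ≠ V₂) (ι : Γ) (hι1 : ι ∈ V₁) (hι2 : ι ∈ V₂) (hι : ι ≠ 1) : False := by
  have hs₁ := (pow_three_of_orderOf hσ₁).1
  have hs₂ := (pow_three_of_orderOf hσ₂).1
  rcases h with hcyc | ⟨n, ⟨e⟩⟩ | ⟨⟨e⟩⟩ | ⟨⟨e⟩⟩ | ⟨⟨e⟩⟩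
  · exact not_vsub_of_comm (comm_of_isCyclic hcyc) σ₁ V₁ h1
  · exact not_vsub_dihedral e σ₁ hσ₁ V₁ h1
  · exact hne (uniq_aux_S4 ((alternatingGroup (Fin 4)).subtype.comp e.toMonoidHom)
      (Subtype.val_injective.comp e.injective) σ₁ σ₂ hs₁ hs₂ V₁ V₂ h1 h2)
  · exact hne (uniq_aux_S4 e.toMonoidHom e.injective σ₁ σ₂ hs₁ hs₂ V₁ V₂ h1 h2)
  · obtain ⟨v₁, hd₁, hm₁⟩ := vsub_data σ₁ hs₁ V₁ h1
    apply hne
    apply eq_of_le_of_card_four h1.1 h2.1
    intro g hg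
    have hcomm : g * ι = ι * g := comm_of_card_four V₂ h2.1 g hg ι hι2
    apply (hm₁ g).2
    apply InV.of_map e.toMonoidHom e.injective
    refine c_A5_cent (e σ₁) (e v₁) (hd₁.map e.toMonoidHom e.injective) (e ι)
      (InV.map e.toMonoidHom ((hm₁ ι).1 hι1)) ?_ (e g) ?_
    · intro h'; exact hι (e.injective (by rw [h', map_one]))
    · rw [← map_mul, ← map_mul, hcomm]

/-- G2 -/
theorem gamma_two_V {Γ : Type} [Group Γ] (h : DL Γ) (σ : Γ) (hσ : orderOf σ = 3)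
    (V₁ V₂ : Subgroup Γ) (h1 : VSub σ V₁) (h2 : VSub σ V₂) (hne : V₁ ≠ V₂) :
    Nat.card Γ = 60 ∧ ∃ u : Γ, u * σ * u⁻¹ = σ⁻¹ ∧ (∀ v ∈ V₁, u * v * u⁻¹ ∈ V₂) ∧
      (∀ v ∈ V₂, u * v * u⁻¹ ∈ V₁) := by
  have hs := (pow_three_of_orderOf hσ).1
  rcases h with hcyc | ⟨n, ⟨e⟩⟩ | ⟨⟨e⟩⟩ | ⟨⟨e⟩⟩ | ⟨⟨e⟩⟩
  · exact (not_vsub_of_comm (comm_of_isCyclic hcyc) σ V₁ h1).elim
  · exact (not_vsub_dihedral e σ hσ V₁ h1).elim
  · exact (hne (uniq_aux_S4 ((alternatingGroup (Fin 4)).subtype.comp e.toMonoidHom)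
      (Subtype.val_injective.comp e.injective) σ σ hs hs V₁ V₂ h1 h2)).elim
  · exact (hne (uniq_aux_S4 e.toMonoidHom e.injective σ σ hs hs V₁ V₂ h1 h2)).elim
  · refine ⟨by rw [Nat.card_congr e.toEquiv, card_A5], ?_⟩
    obtain ⟨v₁, hd₁, hm₁⟩ := vsub_data σ hs V₁ h1
    obtain ⟨v₂, hd₂, hm₂⟩ := vsub_data σ hs V₂ h2
    have hnot : ¬ InV σ v₁ v₂ := by
      intro hin
      apply hne
      apply eq_of_le_of_card_four h1.1 h2.1
      have ha : v₂ ∈ V₁ := (hm₁ _).2 hin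
      exact le_of_inV hm₂ ha (h1.2.1 v₂ ha)
    have hnot' : ¬ InV (e σ) (e v₁) (e v₂) := fun hin =>
      hnot (InV.of_map e.toMonoidHom e.injective hin)
    obtain ⟨u', hu1, hu2, hu3, hu4, hu5⟩ := c_A5_swap (e σ) (e v₁)
      (hd₁.map e.toMonoidHom e.injective) (e v₂) (hd₂.map e.toMonoidHom e.injective) hnot'
    have hconj : ∀ x : Γ, e (e.symm u' * x * (e.symm u')⁻¹) = u' * e x * u'⁻¹ := by
      intro x
      rw [map_mul, map_mul, map_inv, MulEquiv.apply_symm_apply]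
    refine ⟨e.symm u', ?_, ?_, ?_⟩
    · apply e.injective
      rw [hconj, map_inv]
      exact hu1
    · have ha : e.symm u' * v₁ * (e.symm u')⁻¹ ∈ V₂ := by
        apply (hm₂ _).2
        apply InV.of_map e.toMonoidHom e.injective
        change InV (e σ) (e v₂) (e (e.symm u' * v₁ * (e.symm u')⁻¹))
        rw [hconj]
        exact hu2
      have hb : e.symm u' * (σ * v₁ * σ⁻¹) * (e.symm u')⁻¹ ∈ V₂ := by
        apply (hm₂ _).2
        apply InV.of_map e.toMonoidHom e.injective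
        change InV (e σ) (e v₂) (e (e.symm u' * (σ * v₁ * σ⁻¹) * (e.symm u')⁻¹))
        rw [hconj, map_mul, map_mul, map_inv]
        exact hu3
      intro g hg
      rcases (hm₁ g).1 hg with rfl | rfl | rfl | rfl
      · rw [mul_one, mul_inv_cancel]; exact V₂.one_mem
      · exact ha
      · exact hb
      · have : e.symm u' * (v₁ * (σ * v₁ * σ⁻¹)) * (e.symm u')⁻¹ =
            (e.symm u' * v₁ * (e.symm u')⁻¹) * (e.symm u' * (σ * v₁ * σ⁻¹) * (e.symm u')⁻¹) := by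
          group
        rw [this]
        exact V₂.mul_mem ha hb
    · have ha : e.symm u' * v₂ * (e.symm u')⁻¹ ∈ V₁ := by
        apply (hm₁ _).2
        apply InV.of_map e.toMonoidHom e.injective
        change InV (e σ) (e v₁) (e (e.symm u' * v₂ * (e.symm u')⁻¹))
        rw [hconj]
        exact hu4
      have hb : e.symm u' * (σ * v₂ * σ⁻¹) * (e.symm u')⁻¹ ∈ V₁ := by
        apply (hm₁ _).2
        apply InV.of_map e.toMonoidHom e.injective
        change InV (e σ) (e v₁) (e (e.symm u' * (σ * v₂ * σ⁻¹) * (e.symm u')⁻¹))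
        rw [hconj, map_mul, map_mul, map_inv]
        exact hu5
      intro g hg
      rcases (hm₂ g).1 hg with rfl | rfl | rfl | rfl
      · rw [mul_one, mul_inv_cancel]; exact V₁.one_mem
      · exact ha
      · exact hb
      · have : e.symm u' * (v₂ * (σ * v₂ * σ⁻¹)) * (e.symm u')⁻¹ =
            (e.symm u' * v₂ * (e.symm u')⁻¹) * (e.symm u' * (σ * v₂ * σ⁻¹) * (e.symm u')⁻¹) := by
          group
        rw [this]
        exact V₁.mul_mem ha hb

/-- G1 -/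
theorem gamma_gen33 {Γ : Type} [Group Γ] (h : DL Γ) (σ τ : Γ) (hσ : orderOf σ = 3)
    (hτ : orderOf τ = 3) (hgen : Subgroup.closure {σ, τ} = ⊤) (hnc : σ * τ ≠ τ * σ) :
    (∃ V : Subgroup Γ, VSub σ V ∧ V ⊔ Subgroup.zpowers σ = ⊤) ∨
      (∃ V₁ V₂ : Subgroup Γ, VSub σ V₁ ∧ VSub σ V₂ ∧ V₁ ≠ V₂ ∧
        V₁ ⊔ V₂ ⊔ Subgroup.zpowers σ = ⊤) := by
  obtain ⟨hs3, hs1⟩ := pow_three_of_orderOf hσ
  obtain ⟨ht3, ht1⟩ := pow_three_of_orderOf hτ
  have hz3 : Nat.card (Subgroup.zpowers σ) = 3 := by rw [Nat.card_zpowers, hσ]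
  rcases h with hcyc | ⟨n, ⟨e⟩⟩ | ⟨⟨e⟩⟩ | ⟨⟨e⟩⟩ | ⟨⟨e⟩⟩
  · exact (hnc (comm_of_isCyclic hcyc σ τ)).elim
  · exfalso
    apply hnc
    have h1 : orderOf (e σ) = 3 := by rw [← hσ]; exact e.orderOf_eq σ
    have h2 : orderOf (e τ) = 3 := by rw [← hτ]; exact e.orderOf_eq τ
    obtain ⟨i, hi⟩ := dihedral_order_three (e σ) h1
    obtain ⟨j, hj⟩ := dihedral_order_three (e τ) h2
    apply e.injective
    rw [map_mul, map_mul, hi, hj, DihedralGroup.r_mul_r, DihedralGroup.r_mul_r, add_comm]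
  · -- A₄
    left
    have : Finite Γ := Finite.of_equiv _ e.symm.toEquiv
    have hcardΓ : Nat.card Γ = 12 := by rw [Nat.card_congr e.toEquiv, card_A4]
    obtain ⟨v', hv'⟩ := c_A4_ex (e σ) (by rw [← map_pow, hs3, map_one])
      (fun h' => hs1 (e.injective (by rw [h', map_one])))
    have hd : VData σ (e.symm v') := by
      have := hv'.map e.symm.toMonoidHom e.symm.injective
      simpa using this
    refine ⟨vsubOf σ (e.symm v') hd, vsub_vsubOf hd, ?_⟩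
    apply eq_top_of_dvd_card _ 12 hcardΓ
    have d4 : 4 ∣ Nat.card ↥(vsubOf σ (e.symm v') hd ⊔ Subgroup.zpowers σ) := by
      have := Subgroup.card_dvd_of_le
        (le_sup_left : vsubOf σ (e.symm v') hd ≤ vsubOf σ (e.symm v') hd ⊔ Subgroup.zpowers σ)
      rwa [card_vsubOf hd] at this
    have d3 : 3 ∣ Nat.card ↥(vsubOf σ (e.symm v') hd ⊔ Subgroup.zpowers σ) := by
      have := Subgroup.card_dvd_of_le
        (le_sup_right : Subgroup.zpowers σ ≤ vsubOf σ (e.symm v') hd ⊔ Subgroup.zpowers σ)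
      rwa [hz3] at this
    exact (by norm_num : Nat.Coprime 4 3).mul_dvd_of_dvd_of_dvd d4 d3
  · -- S₄: impossible
    exfalso
    let f : Γ →* ℤˣ := Perm.sign.comp e.toMonoidHom
    have hf3 : ∀ x : Γ, x ^ 3 = 1 → f x = 1 := by
      intro x hx
      have h1 : (f x) ^ 3 = 1 := by rw [← map_pow, hx, map_one]
      rcases Int.units_eq_one_or (f x) with h2 | h2
      · exact h2
      · rw [h2] at h1; exact absurd h1 (by decide)
    have hle : Subgroup.closure {σ, τ} ≤ f.ker := by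
      rw [Subgroup.closure_le]
      intro x hx
      rcases hx with rfl | rfl
      · exact hf3 _ hs3
      · exact hf3 _ ht3
    rw [hgen] at hle
    have hmem : e.symm (swap 0 1) ∈ f.ker := hle (Subgroup.mem_top _)
    rw [MonoidHom.mem_ker] at hmem
    have : f (e.symm (swap 0 1)) = -1 := by
      change Perm.sign (e (e.symm (swap 0 1))) = -1
      rw [MulEquiv.apply_symm_apply]
      exact Perm.sign_swap (by decide)
    rw [this] at hmem
    exact absurd hmem (by decide)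
  · -- A₅
    right
    have : Finite Γ := Finite.of_equiv _ e.symm.toEquiv
    have hcardΓ : Nat.card Γ = 60 := by rw [Nat.card_congr e.toEquiv, card_A5]
    obtain ⟨v₁', v₂', hv₁', hv₂', h5, hne1⟩ := c_A5_ex (e σ) (by rw [← map_pow, hs3, map_one])
      (fun h' => hs1 (e.injective (by rw [h', map_one])))
    have hd₁ : VData σ (e.symm v₁') := by
      have := hv₁'.map e.symm.toMonoidHom e.symm.injective
      simpa using this
    have hd₂ : VData σ (e.symm v₂') := by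
      have := hv₂'.map e.symm.toMonoidHom e.symm.injective
      simpa using this
    set v₁ := e.symm v₁' with hv₁
    set v₂ := e.symm v₂' with hv₂
    have hp5 : (v₁ * v₂) ^ 5 = 1 := by
      apply e.injective
      rw [map_pow, map_mul, hv₁, hv₂, MulEquiv.apply_symm_apply, MulEquiv.apply_symm_apply, h5,
        map_one]
    have hpne : v₁ * v₂ ≠ 1 := by
      intro h'
      apply hne1
      have := congrArg e h'
      rw [map_mul, hv₁, hv₂, MulEquiv.apply_symm_apply, MulEquiv.apply_symm_apply, map_one] at this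
      exact this
    have hord5 : orderOf (v₁ * v₂) = 5 := by
      have hdvd : orderOf (v₁ * v₂) ∣ 5 := orderOf_dvd_of_pow_eq_one hp5
      rcases (Nat.dvd_prime (by norm_num : Nat.Prime 5)).1 hdvd with h' | h'
      · exact absurd (orderOf_eq_one_iff.1 h') hpne
      · exact h'
    refine ⟨vsubOf σ v₁ hd₁, vsubOf σ v₂ hd₂, vsub_vsubOf hd₁, vsub_vsubOf hd₂, ?_, ?_⟩
    · intro heq
      have hm : v₁ * v₂ ∈ vsubOf σ v₁ hd₁ := by
        apply Subgroup.mul_mem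
        · exact Or.inr (Or.inl rfl)
        · rw [heq]; exact Or.inr (Or.inl rfl)
      have h4 := pow_four_of_mem _ (card_vsubOf hd₁) hm
      apply hpne
      have : (v₁ * v₂) ^ 5 = (v₁ * v₂) ^ 4 * (v₁ * v₂) := pow_succ _ 4
      rw [hp5, h4, one_mul] at this
      exact this.symm
    · apply eq_top_of_dvd_card _ 60 hcardΓ
      set H := vsubOf σ v₁ hd₁ ⊔ vsubOf σ v₂ hd₂ ⊔ Subgroup.zpowers σ with hH
      have d4 : 4 ∣ Nat.card H := by
        have := Subgroup.card_dvd_of_le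
          (le_sup_left.trans le_sup_left : vsubOf σ v₁ hd₁ ≤ H)
        rwa [card_vsubOf hd₁] at this
      have d3 : 3 ∣ Nat.card H := by
        have := Subgroup.card_dvd_of_le (le_sup_right : Subgroup.zpowers σ ≤ H)
        rwa [hz3] at this
      have d5 : 5 ∣ Nat.card H := by
        have hm : v₁ * v₂ ∈ H := by
          apply Subgroup.mul_mem
          · exact (le_sup_left.trans le_sup_left : vsubOf σ v₁ hd₁ ≤ H) (Or.inr (Or.inl rfl))
          · exact (le_sup_right.trans le_sup_left : vsubOf σ v₂ hd₂ ≤ H) (Or.inr (Or.inl rfl))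
        have := orderOf_dvd_natCard (⟨v₁ * v₂, hm⟩ : H)
        rw [Subgroup.orderOf_mk, hord5] at this
        exact this
      have d12 : 12 ∣ Nat.card H := (by norm_num : Nat.Coprime 4 3).mul_dvd_of_dvd_of_dvd d4 d3
      exact (by norm_num : Nat.Coprime 12 5).mul_dvd_of_dvd_of_dvd d12 d5

end Cfsg.Agent.Lib.Helper67.Zass
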