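import Mathlib
import Cfsg.Agent.Lib.Helper84.FTr.Core

/-!
# Transport of fusion systems (helper84's S5311/S5154 project), module [TRANS]

The correspondence `Corr` is transitive.
-/

set_option autoImplicit false
set_option linter.unusedVariables false

namespace Cfsg.Agent.Lib.Helper67.FTrTrans

open Cfsg Cfsg.FusionSystem Cfsg.Agent.Lib.Helper84.FTr

variable {Ω : Type*} [Group Ω] {Ω' : Type*} [Group Ω'] {S : Subgroup Ω} {S' : Subgroup Ω'}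
variable {Ω'' : Type*} [Group Ω''] {S'' : Subgroup Ω''}

theorem im_trans (e : S ≃* S') (e' : S' ≃* S'') (P : Subgroup Ω) :
    im (e.trans e') P = im e' (im e P) := by
  ext z
  rw [mem_im_iff, mem_im_iff]
  constructor
  · rintro ⟨x, hx, hxP, rfl⟩
    exact ⟨(e ⟨x, hx⟩ : Ω'), (e ⟨x, hx⟩).2, apply_mem_im e hx hxP, rfl⟩
  · rintro ⟨y, hy, hyP, rfl⟩
    obtain ⟨x, hx, hxP, hxy⟩ := (mem_im_iff e P y).1 hyP
    refine ⟨x, hx, hxP, ?_⟩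
    have : (⟨y, hy⟩ : S') = e ⟨x, hx⟩ := Subtype.ext hxy.symm
    rw [this]
    rfl

/-- composition of induced maps -/
theorem inducedAlong_trans {e : S ≃* S'} {e' : S' ≃* S''} {P : Subgroup Ω} {φ : P →* Ω}
    {P' : Subgroup Ω'} {φ' : P' →* Ω'} {P'' : Subgroup Ω''} {φ'' : P'' →* Ω''}
    (h1 : InducedAlong (pairHom e) φ φ') (h2 : InducedAlong (pairHom e') φ' φ'') :
    InducedAlong (pairHom (e.trans e')) φ φ'' := by
  obtain ⟨hP, hφ, hP', h1⟩ := h1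
  obtain ⟨hP'S, hφ', hP'', h2⟩ := h2
  refine ⟨hP, hφ, ?_, ?_⟩
  · intro x
    exact hP'' ⟨pairHom e ⟨x, hP x.2⟩, hP' x⟩
  · intro x
    have a := h2 ⟨pairHom e ⟨x, hP x.2⟩, hP' x⟩
    have b : (⟨φ' ⟨pairHom e ⟨x, hP x.2⟩, hP' x⟩, hφ' _⟩ : S') = e ⟨φ x, hφ x⟩ :=
      Subtype.ext (h1 x)
    rw [b] at a
    exact a

/-- decomposition of an induced map through `trMap` -/
theorem inducedAlong_of_trans {e : S ≃* S'} {e' : S' ≃* S''} {P : Subgroup Ω} (hP : P ≤ S)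
    {φ : P →* Ω} (hφ : ∀ x, φ x ∈ S) {P'' : Subgroup Ω''} {φ'' : P'' →* Ω''}
    (h : InducedAlong (pairHom (e.trans e')) φ φ'') :
    InducedAlong (pairHom e') (trMap e hP φ hφ) φ'' := by
  obtain ⟨_, _, hP'', h2⟩ := h
  have ht : ∀ (x : P) (hmem : (e ⟨x, hP x.2⟩ : Ω') ∈ im e P),
      trMap e hP φ hφ ⟨e ⟨x, hP x.2⟩, hmem⟩ = (e ⟨φ x, hφ x⟩ : Ω') :=
    fun x hmem => trMap_apply e hP φ hφ x hmem
  have hS' : ∀ y : im e P, trMap e hP φ hφ y ∈ S' := by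
    rintro ⟨y, hy⟩
    obtain ⟨x, hx, hxP, rfl⟩ := (mem_im_iff e P y).1 hy
    rw [ht ⟨x, hxP⟩ hy]
    exact (e ⟨φ ⟨x, hxP⟩, hφ ⟨x, hxP⟩⟩).2
  have hP2 : ∀ y : im e P, pairHom e' ⟨y, im_le e P y.2⟩ ∈ P'' := by
    rintro ⟨y, hy⟩
    obtain ⟨x, hx, hxP, rfl⟩ := (mem_im_iff e P y).1 hy
    exact hP'' ⟨x, hxP⟩
  refine ⟨im_le e P, hS', hP2, ?_⟩
  rintro ⟨y, hy⟩
  obtain ⟨x, hx, hxP, rfl⟩ := (mem_im_iff e P y).1 hy
  have a := h2 ⟨x, hxP⟩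
  have b : (⟨trMap e hP φ hφ ⟨e ⟨x, hx⟩, hy⟩, hS' ⟨e ⟨x, hx⟩, hy⟩⟩ : S') =
      e ⟨φ ⟨x, hxP⟩, hφ ⟨x, hxP⟩⟩ := Subtype.ext (ht ⟨x, hxP⟩ hy)
  rw [b]
  exact a

/-- MODULE [TRANS] -/
theorem corr_trans {e : S ≃* S'} {e' : S' ≃* S''}
    {T : Subgroup Ω} {E : FusionSystem T} {T' : Subgroup Ω'} {E' : FusionSystem T'}
    {T'' : Subgroup Ω''} {E'' : FusionSystem T''}
    (h : Corr e E E') (h' : Corr e' E' E'') : Corr (e.trans e') E E'' := by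
  refine ⟨h.le, ?_, ?_⟩
  · rw [im_trans, ← h.eq_im, ← h'.eq_im]
  · intro P'' φ''
    constructor
    · intro hφ''
      obtain ⟨P', φ', hφ', hP', hi'⟩ := h'.exists_of_mem hφ''
      obtain ⟨P, φ, hφ, hP, hi⟩ := h.exists_of_mem hφ'
      refine ⟨P, φ, hφ, ?_, inducedAlong_trans hi hi'⟩
      rw [im_trans, hP, hP']
    · rintro ⟨P, φ, hφ, hP, hi⟩
      have hPS : P ≤ S := (E.le_of_mem hφ).1.trans h.le
      have hφS : ∀ x, φ x ∈ S := fun x => h.le ((E.le_of_mem hφ).2 x)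
      have h1 : trMap e hPS φ hφS ∈ E'.Hom (im e P) := h.trMap_mem hφ
      refine h'.mem_of_mem h1 ?_ (inducedAlong_of_trans hPS hφS hi)
      rw [← im_trans, hP]

end Cfsg.Agent.Lib.Helper67.FTrTrans
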