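import Mathlib
import Cfsg.Agent.Lib.Helper24.Coprime

/-!
Small general lemmas used for the automorphisms of narrow `p`-groups (Bender–Glauberman §5):

* `card_le_card_mul_card_centralizer`: if `[x, L] ⊆ N` then `|L| ≤ |N| · |C_L(x)|`
  (the "fixed points on a section" bound);
* `centralizes_of_centralizes_sub`: a `p'`-element `k` normalizing a `p`-group `R` and centralizing
  both an `R`-invariant subgroup `N` and `C_R(N)` centralizes `R`;
* `closure_normal_of_conj_mem`: the closure of a conjugation-invariant set is normal.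
-/

set_option autoImplicit false

namespace Cfsg.Agent.Lib.Helper67

open Cfsg.Agent.Lib.Helper24

/-- If `x l x⁻¹ l⁻¹ ∈ N` for all `l ∈ L`, then `|L| ≤ |N| · |C_L(x)|`. -/
theorem card_le_card_mul_card_centralizer {G : Type*} [Group G] [Finite G] (L N : Subgroup G) (x : G)
    (h : ∀ l ∈ L, x * l * x⁻¹ * l⁻¹ ∈ N) :
    Nat.card L ≤ Nat.card N *
      Nat.card (L ⊓ Subgroup.centralizer ({x} : Set G) : Subgroup G) := by
  classical
  let f : L → N := fun l => ⟨x * (l : G) * x⁻¹ * (l : G)⁻¹, h l l.2⟩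
  let rep : N → L := fun n => if hn : ∃ l, f l = n then Classical.choose hn else 1
  have hrep : ∀ l : L, f (rep (f l)) = f l := by
    intro l
    have hn : ∃ l', f l' = f l := ⟨l, rfl⟩
    show f (if hn : ∃ l', f l' = f l then Classical.choose hn else 1) = f l
    rw [dif_pos hn]
    exact Classical.choose_spec hn
  have hmem : ∀ l : L, ((rep (f l) : G))⁻¹ * (l : G) ∈
      (L ⊓ Subgroup.centralizer ({x} : Set G) : Subgroup G) := by
    intro l
    have h1 := hrep l
    have h2 : x * (rep (f l) : G) * x⁻¹ * (rep (f l) : G)⁻¹ = x * (l : G) * x⁻¹ * (l : G)⁻¹ :=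
      congrArg Subtype.val h1
    refine Subgroup.mem_inf.mpr ⟨L.mul_mem (L.inv_mem (rep (f l)).2) l.2, ?_⟩
    rw [Subgroup.mem_centralizer_iff]
    intro y hy
    rw [Set.mem_singleton_iff.mp hy]
    -- from h2 : l₀ x⁻¹ l₀⁻¹ = l x⁻¹ l⁻¹
    have h3 : (rep (f l) : G) * x⁻¹ * (rep (f l) : G)⁻¹ = (l : G) * x⁻¹ * (l : G)⁻¹ := by
      have := congrArg (fun t => x⁻¹ * t) h2
      simpa [mul_assoc] using this
    have h4 : ((rep (f l) : G)⁻¹ * (l : G)) * x⁻¹ * ((rep (f l) : G)⁻¹ * (l : G))⁻¹ = x⁻¹ := by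
      calc ((rep (f l) : G)⁻¹ * (l : G)) * x⁻¹ * ((rep (f l) : G)⁻¹ * (l : G))⁻¹
          = (rep (f l) : G)⁻¹ * ((l : G) * x⁻¹ * (l : G)⁻¹) * (rep (f l) : G) := by group
        _ = (rep (f l) : G)⁻¹ * ((rep (f l) : G) * x⁻¹ * (rep (f l) : G)⁻¹) * (rep (f l) : G) := by
            rw [h3]
        _ = x⁻¹ := by group
    have h5 : Commute ((rep (f l) : G)⁻¹ * (l : G)) x⁻¹ := by
      have := congrArg (fun t => t * ((rep (f l) : G)⁻¹ * (l : G))) h4
      simp only [inv_mul_cancel_right] at this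
      exact this
    have h6 : Commute ((rep (f l) : G)⁻¹ * (l : G)) x := Commute.inv_right_iff.mp h5
    exact h6.symm.eq
  let g : L → N × (L ⊓ Subgroup.centralizer ({x} : Set G) : Subgroup G) :=
    fun l => (f l, ⟨((rep (f l) : G))⁻¹ * (l : G), hmem l⟩)
  have hg : Function.Injective g := by
    intro l l' hll
    have h1 : f l = f l' := congrArg Prod.fst hll
    have h2 : ((rep (f l) : G))⁻¹ * (l : G) = ((rep (f l') : G))⁻¹ * (l' : G) :=
      congrArg (fun t => (t.2 : G)) hll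
    rw [h1] at h2
    exact Subtype.ext (mul_left_cancel h2)
  calc Nat.card L ≤ Nat.card (N × (L ⊓ Subgroup.centralizer ({x} : Set G) : Subgroup G)) :=
        Nat.card_le_card_of_injective g hg
    _ = Nat.card N * Nat.card (L ⊓ Subgroup.centralizer ({x} : Set G) : Subgroup G) :=
        Nat.card_prod _ _

/-- The order of an element of a `p`-subgroup is coprime to the order of a `p'`-element. -/
theorem coprime_orderOf_of_mem {G : Type*} [Group G] (p : ℕ) (k : G)
    (hcop : (orderOf k).Coprime p) (R : Subgroup G) (hR : IsPGroup p R) (z : G) (hz : z ∈ R) :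
    (orderOf k).Coprime (orderOf z) := by
  obtain ⟨n, hn⟩ := hR ⟨z, hz⟩
  have h1 : z ^ p ^ n = 1 := by
    have := congrArg Subtype.val hn
    simpa using this
  have h2 : orderOf z ∣ p ^ n := orderOf_dvd_of_pow_eq_one h1
  exact Nat.Coprime.coprime_dvd_right h2 (Nat.Coprime.pow_right n hcop)

/-- A `p'`-element `k` normalizing a `p`-group `R` and centralizing both an `R`-invariant subgroup `N`
and `C_R(N)` centralizes `R`. -/
theorem centralizes_of_centralizes_sub {G : Type*} [Group G] (p : ℕ) (k : G)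
    (hcop : (orderOf k).Coprime p) (R N : Subgroup G) (hR : IsPGroup p R)
    (hkR : ∀ r ∈ R, k * r * k⁻¹ ∈ R) (hRN : ∀ r ∈ R, ∀ n ∈ N, r * n * r⁻¹ ∈ N)
    (hkN : ∀ n ∈ N, k * n = n * k)
    (hkC : ∀ c ∈ R ⊓ Subgroup.centralizer (N : Set G), k * c = c * k) :
    ∀ r ∈ R, k * r = r * k := by
  intro r hr
  have hdR : r⁻¹ * (k * r * k⁻¹) ∈ R := R.mul_mem (R.inv_mem hr) (hkR r hr)
  have hdC : r⁻¹ * (k * r * k⁻¹) ∈ Subgroup.centralizer (N : Set G) := by
    rw [Subgroup.mem_centralizer_iff]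
    intro n hn
    have hm : r * n * r⁻¹ ∈ N := hRN r hr n hn
    have h1 : k * (r * n * r⁻¹) = (r * n * r⁻¹) * k := hkN _ hm
    have h2 : k * n = n * k := hkN n hn
    have h2' : k⁻¹ * n = n * k⁻¹ := by
      have : Commute k n := h2
      exact this.inv_left.eq
    -- (k r k⁻¹) n (k r k⁻¹)⁻¹ = r n r⁻¹
    have h3 : (k * r * k⁻¹) * n * (k * r * k⁻¹)⁻¹ = r * n * r⁻¹ := by
      calc (k * r * k⁻¹) * n * (k * r * k⁻¹)⁻¹
          = k * r * (k⁻¹ * n) * k * r⁻¹ * k⁻¹ := by group
        _ = k * r * (n * k⁻¹) * k * r⁻¹ * k⁻¹ := by rw [h2']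
        _ = (k * (r * n * r⁻¹)) * k⁻¹ := by group
        _ = (r * n * r⁻¹) * k * k⁻¹ := by rw [h1]
        _ = r * n * r⁻¹ := by group
    calc n * (r⁻¹ * (k * r * k⁻¹))
        = r⁻¹ * (r * n * r⁻¹) * (k * r * k⁻¹) := by group
      _ = r⁻¹ * ((k * r * k⁻¹) * n * (k * r * k⁻¹)⁻¹) * (k * r * k⁻¹) := by rw [h3]
      _ = r⁻¹ * (k * r * k⁻¹) * n := by group
  have hc := hkC _ (Subgroup.mem_inf.mpr ⟨hdR, hdC⟩)
  exact commute_of_comm_commute_of_coprime k r hc
    (coprime_orderOf_of_mem p k hcop R hR _ hdR)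

/-- The closure of a conjugation-invariant set is a normal subgroup. -/
theorem closure_normal_of_conj_mem {G : Type*} [Group G] (S : Set G)
    (h : ∀ g : G, ∀ s ∈ S, g * s * g⁻¹ ∈ S) : (Subgroup.closure S).Normal := by
  constructor
  intro n hn g
  have h1 : (Subgroup.closure S).map (MulAut.conj g).toMonoidHom ≤ Subgroup.closure S := by
    rw [MonoidHom.map_closure, Subgroup.closure_le]
    rintro _ ⟨s, hs, rfl⟩
    exact Subgroup.subset_closure (h g s hs)
  have h2 : (MulAut.conj g).toMonoidHom n ∈ (Subgroup.closure S).map (MulAut.conj g).toMonoidHom :=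
    Subgroup.mem_map_of_mem _ hn
  have h3 := h1 h2
  simpa [MulAut.conj_apply] using h3

end Cfsg.Agent.Lib.Helper67
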