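import Mathlib

/-!
# The verbal subgroup `G' G^n` and its action on normal sections of prime order (helper67)
-/

set_option autoImplicit false

namespace Cfsg.Agent.Lib.Helper67

open scoped commutatorElement

/-- The verbal subgroup `G' G^n`: preimage of the `n`-th powers of the abelianization. -/
def verbalPow (G : Type*) [Group G] (n : ℕ) : Subgroup G :=
  ((powMonoidHom n : Abelianization G →* Abelianization G).range).comap Abelianization.of

variable {G : Type*} [Group G]

instance verbalPow_normal (n : ℕ) : (verbalPow G n).Normal := by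
  unfold verbalPow
  exact Subgroup.Normal.comap (Subgroup.normal_of_comm _) _

theorem commutator_mem_verbalPow (n : ℕ) (g h : G) : ⁅g, h⁆ ∈ verbalPow G n := by
  unfold verbalPow
  rw [Subgroup.mem_comap]
  have : Abelianization.of ⁅g, h⁆ = 1 := by
    rw [map_commutatorElement]
    exact commutatorElement_eq_one_iff_commute.2 (Commute.all _ _)
  rw [this]
  exact one_mem _

theorem pow_mem_verbalPow (n : ℕ) (g : G) : g ^ n ∈ verbalPow G n := by
  unfold verbalPow
  rw [Subgroup.mem_comap, map_pow]
  exact ⟨Abelianization.of g, rfl⟩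

theorem verbalPow_le_ker (n : ℕ) {B : Type*} [CommGroup B] (χ : G →* B)
    (hB : ∀ b : B, b ^ n = 1) : verbalPow G n ≤ χ.ker := by
  intro k hk
  obtain ⟨a, ha⟩ := hk
  rw [MonoidHom.mem_ker]
  have h1 : χ k = Abelianization.lift χ (Abelianization.of k) :=
    (Abelianization.lift_apply_of ..).symm
  rw [h1, ← ha, powMonoidHom_apply, map_pow, hB]

/-- `G' G^{p-1}` acts trivially on every `G`-normal section `F / M` of prime order `p`. -/
theorem verbalPow_centralizes_prime_section [Finite G] {p : ℕ} [hp : Fact p.Prime]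
    (M F : Subgroup G) [hM : M.Normal] [hF : F.Normal] (hMF : M.relIndex F = p)
    (k : G) (hk : k ∈ verbalPow G (p - 1)) (y : G) (hy : y ∈ F) :
    k * y * k⁻¹ * y⁻¹ ∈ M := by
  let H : Subgroup (G ⧸ M) := F.map (QuotientGroup.mk' M)
  haveI hHn : H.Normal := hF.map _ (QuotientGroup.mk'_surjective M)
  have hcard : Nat.card H = p := by
    have := Subgroup.relIndex_ker (QuotientGroup.mk' M) (K := F)
    rw [QuotientGroup.ker_mk'] at this
    rw [← this, hMF]
  haveI : IsCyclic H := isCyclic_of_prime_card hcard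
  let _ : CommGroup (MulAut H) :=
    (IsCyclic.mulAutMulEquiv H).toMonoidHom.commGroupOfInjective (IsCyclic.mulAutMulEquiv H).injective
  have hexp : ∀ b : MulAut H, b ^ (p - 1) = 1 := by
    intro b
    have h1 : Nat.card (MulAut H) = p - 1 := by
      rw [IsCyclic.card_mulAut, hcard, Nat.totient_prime hp.out]
    rw [← h1]
    exact pow_card_eq_one'
  let χ : G →* MulAut H := (MulAut.conjNormal).comp (QuotientGroup.mk' M)
  have hker := verbalPow_le_ker (p - 1) χ hexp hk
  rw [MonoidHom.mem_ker] at hker
  have hyH : QuotientGroup.mk' M y ∈ H := Subgroup.mem_map_of_mem _ hy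
  have h2 : χ k ⟨QuotientGroup.mk' M y, hyH⟩ = ⟨QuotientGroup.mk' M y, hyH⟩ := by
    rw [hker]; rfl
  have h3 := congrArg Subtype.val h2
  change QuotientGroup.mk' M k * QuotientGroup.mk' M y * (QuotientGroup.mk' M k)⁻¹ =
    QuotientGroup.mk' M y at h3
  rw [← QuotientGroup.eq_one_iff (N := M)]
  change QuotientGroup.mk' M (k * y * k⁻¹ * y⁻¹) = 1
  rw [map_mul, map_mul, map_mul, map_inv, map_inv, h3, mul_inv_cancel]

end Cfsg.Agent.Lib.Helper67
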