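import Mathlib
import Cfsg.Agent.Lib.Helper24.Omega
import Cfsg.Agent.Lib.Helper24.ClassTwoExp
import Cfsg.Agent.Lib.Helper24.ElemAb
import Cfsg.Agent.Lib.Helper33.Critical
import Cfsg.Agent.Lib.Helper67.VerbalPow
import Cfsg.Agent.Lib.Helper67.SectionFix

/-!
# Automorphisms of narrow `p`-groups: the core argument (helper67)

`verbalPow_centralizes_of_narrow_data`: let `R ⊴ X` be a `p`-subgroup (`p` odd) with normal subgroups
`W ≤ T ≤ R` of `X`-type (`T ⊴ X`, `W` normalized by `R`, `C_R(W) ≤ T`), and `x ∈ R` such that the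
elements of order dividing `p` of `C_T(x)` lie in a subgroup `Z` of order `p`.  Then every `p'`-element
of `X' X^(p-1)` centralizes `R`.

Proof: let `C ≤ T` be a critical subgroup (normal in `X`), `H = Ω₁(C)` (exponent `p`).  Then
`C_H(x) ≤ Z` has order at most `p`, so by the "fixed points on sections" bound the factors of
`H ≥ [H,R] ≥ [H,R,R] ≥ …` have order at most `p`; hence `X' X^(p-1)` acts trivially on each factor and
its `p'`-elements centralize `H`, hence `C` (Ω₁-lemma), hence `T` (critical subgroup), hence `R`.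
-/

set_option autoImplicit false

namespace Cfsg.Agent.Lib.Helper67

open scoped commutatorElement
open Cfsg.Agent.Lib.Helper24 Cfsg.Agent.Lib.Helper33

theorem iterCommutator_normal {X : Type*} [Group X] (N Q : Subgroup X) [hN : N.Normal]
    [hQ : Q.Normal] (i : ℕ) : (Cfsg.iterCommutator N Q i).Normal := by
  induction i with
  | zero => exact hN
  | succ i ih =>
    have : (Cfsg.iterCommutator N Q i).Normal := ih
    show (⁅Cfsg.iterCommutator N Q i, Q⁆).Normal
    infer_instance

theorem iterCommutator_succ_le {X : Type*} [Group X] (N Q : Subgroup X) [hN : N.Normal]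
    [hQ : Q.Normal] (i : ℕ) : Cfsg.iterCommutator N Q (i + 1) ≤ Cfsg.iterCommutator N Q i := by
  have : (Cfsg.iterCommutator N Q i).Normal := iterCommutator_normal N Q i
  exact Subgroup.commutator_le_left _ _

theorem verbalPow_centralizes_of_narrow_data {X : Type*} [Group X] [Finite X] (p : ℕ)
    [hp : Fact p.Prime] (hp2 : p ≠ 2)
    (R T W Z : Subgroup X) [hRn : R.Normal] [hTn : T.Normal] (hR : IsPGroup p R)
    (hTR : T ≤ R) (hWT : W ≤ T) (hWR : ∀ r ∈ R, ∀ w ∈ W, r * w * r⁻¹ ∈ W)
    (hCW : R ⊓ Subgroup.centralizer (W : Set X) ≤ T)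
    (x : X) (hxR : x ∈ R) (hZ : Nat.card Z ≤ p)
    (hfix : ∀ h ∈ T, h ^ p = 1 → h * x = x * h → h ∈ Z)
    (k : X) (hk : k ∈ verbalPow X (p - 1)) (hcop : (orderOf k).Coprime p) :
    ∀ r ∈ R, k * r = r * k := by
  have hTp : IsPGroup p T := hR.to_le hTR
  have : Group.IsNilpotent ↥T := hTp.isNilpotent
  have : Group.IsNilpotent ↥R := hR.isNilpotent
  obtain ⟨C, hCn, hCT, hCC, hTC, hCTC⟩ := exists_critical T
  have hCp : IsPGroup p C := hTp.to_le hCT
  -- H = Ω₁(C)
  set S : Set X := {c | c ∈ C ∧ c ^ p = 1} with hS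
  set H : Subgroup X := Subgroup.closure S with hH
  have hHC : H ≤ C := by
    rw [hH, Subgroup.closure_le]
    intro c hc
    exact hc.1
  have hHn : H.Normal := by
    apply closure_normal_of_conj_mem
    intro g s hs
    refine ⟨hCn.conj_mem s hs.1 g, ?_⟩
    rw [conj_pow, hs.2, mul_one, mul_inv_cancel]
  -- the central elements of order p of C
  set S₀ : Set X := {z | z ∈ C ⊓ Subgroup.centralizer (C : Set X) ∧ z ^ p = 1} with hS₀
  set C₀ : Subgroup X := Subgroup.closure S₀ with hC₀
  have hC₀le : C₀ ≤ C ⊓ Subgroup.centralizer (C : Set X) := by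
    rw [hC₀, Subgroup.closure_le]
    intro z hz
    exact hz.1
  have hC₀exp : ∀ c ∈ C₀, c ^ p = 1 := by
    apply (elemAb_closure p S₀ ?_ (fun s hs => hs.2)).2
    intro s hs t ht
    have h1 := (Subgroup.mem_inf.mp hs.1).2
    have h2 := (Subgroup.mem_inf.mp ht.1).1
    exact (Subgroup.mem_centralizer_iff.mp h1 t h2).symm
  have hHexp : ∀ h ∈ H, h ^ p = 1 := by
    apply pow_eq_one_of_closure p hp2 C₀ S hC₀exp (fun s hs => hs.2)
    · intro s hs t ht
      apply Subgroup.subset_closure
      have hst : ⁅s, t⁆ ∈ ⁅C, C⁆ := Subgroup.commutator_mem_commutator hs.1 ht.1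
      have hstC : ⁅s, t⁆ ∈ C := (Subgroup.commutator_le_left C C) hst
      have hstZ : ⁅s, t⁆ ∈ Subgroup.centralizer (C : Set X) := hCC hst
      refine ⟨Subgroup.mem_inf.mpr ⟨hstC, hstZ⟩, ?_⟩
      -- s t s⁻¹ = ⁅s,t⁆ * t = t * ⁅s,t⁆
      have hcomm_t : ⁅s, t⁆ * t = t * ⁅s, t⁆ :=
        (Subgroup.mem_centralizer_iff.mp hstZ t ht.1).symm
      have hcomm_s : s * ⁅s, t⁆ = ⁅s, t⁆ * s :=
        (Subgroup.mem_centralizer_iff.mp hstZ s hs.1)
      have hz : s * t * s⁻¹ = t * ⁅s, t⁆ := by
        rw [← hcomm_t, commutatorElement_def]; group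
      have h1 := conj_pow_of_commute s t ⁅s, t⁆ hz hcomm_s p
      rw [hs.2, one_mul, inv_one, mul_one] at h1
      have := mul_left_cancel (a := t) (b := 1) (c := ⁅s, t⁆ ^ p) (by rw [mul_one]; exact h1)
      exact this.symm
    · intro c hc f hf
      have hfC : f ∈ C := hHC hf
      have hcZ := (Subgroup.mem_inf.mp (hC₀le hc)).2
      exact (Subgroup.mem_centralizer_iff.mp hcZ f hfC).symm
  have hHT : H ≤ T := hHC.trans hCT
  have hHR : H ≤ R := hHT.trans hTR
  -- the chain
  let K : ℕ → Subgroup X := fun i => Cfsg.iterCommutator H R i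
  have hKn : ∀ i, (K i).Normal := fun i => iterCommutator_normal H R i
  have hKH : ∀ i, K i ≤ H := fun i => iterCommutator_le_of_normal i
  have hKsucc : ∀ i, K (i + 1) ≤ K i := fun i => iterCommutator_succ_le H R i
  obtain ⟨n, hn⟩ := exists_iterCommutator_eq_bot (N := H) (Q := R) hHR
  -- the factors have order at most p
  have hfac : ∀ i, ∀ y ∈ K i, k * y * k⁻¹ * y⁻¹ ∈ K (i + 1) := by
    intro i y hy
    have := hKn i
    have := hKn (i + 1)
    have hcent : (K i ⊓ Subgroup.centralizer ({x} : Set X) : Subgroup X) ≤ Z := by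
      intro h hh
      obtain ⟨h1, h2⟩ := Subgroup.mem_inf.mp hh
      have h3 : h ∈ H := hKH i h1
      apply hfix h (hHT h3) (hHexp h h3)
      exact (Subgroup.mem_centralizer_iff.mp h2 x rfl).symm
    have hbound : Nat.card (K i) ≤ Nat.card (K (i + 1)) * p := by
      have h1 := card_le_card_mul_card_centralizer (K i) (K (i + 1)) x (by
        intro l hl
        have : ⁅x, l⁆ ∈ ⁅R, K i⁆ := Subgroup.commutator_mem_commutator hxR hl
        rw [Subgroup.commutator_comm] at this
        exact this)
      have h2 : Nat.card (K i ⊓ Subgroup.centralizer ({x} : Set X) : Subgroup X) ≤ p :=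
        (Subgroup.card_le_of_le hcent).trans hZ
      exact h1.trans (Nat.mul_le_mul_left _ h2)
    have hrel : Nat.card (K (i + 1)) * (K (i + 1)).relIndex (K i) = Nat.card (K i) := by
      have := Subgroup.relIndex_mul_relIndex (H := ⊥) (K := K (i + 1)) (L := K i) bot_le (hKsucc i)
      rwa [Subgroup.relIndex_bot_left, Subgroup.relIndex_bot_left] at this
    have hpos : 0 < Nat.card (K (i + 1)) := Nat.card_pos
    have hle : (K (i + 1)).relIndex (K i) ≤ p := by
      rw [← hrel] at hbound
      exact Nat.le_of_mul_le_mul_left hbound hpos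
    have hdvd : (K (i + 1)).relIndex (K i) ∣ Nat.card (K i) := Dvd.intro_left _ hrel
    have hKp : IsPGroup p (K i) := hR.to_le ((hKH i).trans hHR)
    obtain ⟨a, ha⟩ := hKp.exists_card_eq
    rw [ha] at hdvd
    obtain ⟨j, -, hj⟩ := (Nat.dvd_prime_pow hp.out).mp hdvd
    have hj1 : j ≤ 1 := by
      by_contra hcon
      rw [not_le] at hcon
      have : p ^ 2 ≤ p ^ j := Nat.pow_le_pow_right hp.out.pos hcon
      rw [← hj] at this
      have h2 : p < p ^ 2 := by
        have := hp.out.one_lt
        nlinarith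
      omega
    interval_cases j
    · -- relIndex = 1
      rw [pow_zero, Subgroup.relIndex_eq_one] at hj
      apply hj
      have h1 : k * y * k⁻¹ ∈ K i := (hKn i).conj_mem y hy k
      exact (K i).mul_mem h1 ((K i).inv_mem hy)
    · rw [pow_one] at hj
      exact verbalPow_centralizes_prime_section (K (i + 1)) (K i) hj k hk y hy
  -- k centralizes every K i
  have hcentK : ∀ j i, i + j = n → ∀ y ∈ K i, k * y = y * k := by
    intro j
    induction j with
    | zero =>
      intro i hi y hy
      rw [add_zero] at hi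
      subst hi
      have : y ∈ (⊥ : Subgroup X) := by rw [← hn]; exact hy
      rw [Subgroup.mem_bot] at this
      rw [this, mul_one, one_mul]
    | succ j ih =>
      intro i hi y hy
      have hi' : (i + 1) + j = n := by omega
      have hm : k * y * k⁻¹ * y⁻¹ ∈ K (i + 1) := hfac i y hy
      have hz : y⁻¹ * (k * y * k⁻¹) ∈ K (i + 1) := by
        have := (hKn (i + 1)).conj_mem _ hm y⁻¹
        have e : y⁻¹ * (k * y * k⁻¹ * y⁻¹) * y⁻¹⁻¹ = y⁻¹ * (k * y * k⁻¹) := by group
        rw [e] at this
        exact this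
      have hc := ih (i + 1) hi' _ hz
      exact commute_of_comm_commute_of_coprime k y hc
        (coprime_orderOf_of_mem p k hcop R hR _ (((hKH (i + 1)).trans hHR) hz))
  have hkH : ∀ y ∈ H, k * y = y * k := hcentK n 0 (by omega)
  -- k centralizes C
  have hkC : ∀ c ∈ C, k * c = c * k := by
    apply centralizes_of_centralizes_omega p hp2 k hcop C hCp
    · rw [Subgroup.normalizer_eq_top]; exact Subgroup.mem_top k
    · intro c hc hcp
      exact hkH c (Subgroup.subset_closure ⟨hc, hcp⟩)
  -- k centralizes T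
  have hkT : ∀ t ∈ T, k * t = t * k := by
    apply centralizes_of_centralizes_sub p k hcop T C hTp
    · intro t ht; exact hTn.conj_mem t ht k
    · intro t _ c hc; exact hCn.conj_mem c hc t
    · exact hkC
    · intro c hc
      exact hkC c (hCTC hc)
  -- k centralizes R
  apply centralizes_of_centralizes_sub p k hcop R W hR
  · intro r hr; exact hRn.conj_mem r hr k
  · exact hWR
  · intro w hw; exact hkT w (hWT hw)
  · intro c hc
    exact hkT c (hCW hc)

end Cfsg.Agent.Lib.Helper67
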