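import Mathlib
import Cfsg.Agent.S1453
import Cfsg.Agent.Lib.Helper67.NarrowCoreX

/-!
# Automorphisms of narrow `p`-groups (Bender–Glauberman Theorem 5.4, rank ≥ 3 part) (helper67)

`verbalPow_centralizes_of_maxElemAb`: let `P` be a finite `p`-group, `p` odd, of rank at least three,
with a maximal elementary abelian subgroup `E` of order `p ^ 2` (i.e. `P` is narrow of rank `≥ 3`).
If `P` is embedded as a normal subgroup of a finite group `X`, then every `p'`-element of
`X' X^(p-1)` centralizes `P`.  In particular `X / C_X(P) O_p(X mod C_X(P))` is abelian of exponent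
dividing `p - 1`.
-/

set_option autoImplicit false

namespace Cfsg.Agent.Lib.Helper67

open Cfsg.Agent.S1453 Cfsg.Agent.Lib.Helper24

/-- The image of a characteristic subgroup under an embedding with normal range is normal. -/
theorem map_normal_of_characteristic {P X : Type*} [Group P] [Group X] (ι : P →* X)
    (hι : Function.Injective ι) (hn : ι.range.Normal) (K : Subgroup P) [hK : K.Characteristic] :
    (K.map ι).Normal := by
  constructor
  rintro _ ⟨t, ht, rfl⟩ g
  let e : P ≃* ι.range := MonoidHom.ofInjective hι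
  let σ : P ≃* P := e.trans ((MulAut.conjNormal g : MulAut ι.range).trans e.symm)
  have hσ : ι (σ t) = g * ι t * g⁻¹ := by
    have h1 : e (σ t) = MulAut.conjNormal g (e t) := by simp [σ]
    have h2 := congrArg Subtype.val h1
    simpa [e, MonoidHom.ofInjective_apply, MulAut.conjNormal_apply] using h2
  rw [← hσ]
  exact Subgroup.mem_map_of_mem ι (Subgroup.characteristic_iff_le_comap.mp hK σ ht)

theorem verbalPow_centralizes_of_maxElemAb {P X : Type*} [Group P] [Finite P] [Group X] [Finite X]
    (p : ℕ) [hp : Fact p.Prime] (hp2 : p ≠ 2) (hP : IsPGroup p P) (hr : ¬ Cfsg.PRankLE p 2 P)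
    (E : Subgroup P) (hE : Cfsg.IsElementaryAbelian p E) (hE2 : Nat.card E = p ^ 2)
    (hEmax : ∀ B : Subgroup P, Cfsg.IsElementaryAbelian p B → E ≤ B → B = E)
    (ι : P →* X) (hι : Function.Injective ι) (hn : ι.range.Normal)
    (k : X) (hk : k ∈ verbalPow X (p - 1)) (hcop : (orderOf k).Coprime p) (r : P) :
    k * ι r = ι r * k := by
  set W : Subgroup P := omW p P with hW
  set Z : Subgroup P := omZ p P with hZdef
  set T : Subgroup P := Subgroup.centralizer (W : Set P) with hT
  have hnotET : ¬ E ≤ T := not_E_le_centralizer_omW p hp2 hP hr E hE hE2 hEmax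
  have hcZ : Nat.card Z = p := card_omZ p hP hr E hE hE2 hEmax
  have hWcomm : IsMulCommutative W := omW_comm p hp2 hP hr E hE hE2 hEmax
  have hWchar : W.Characteristic := omW_characteristic (R := P) p
  have hTchar : T.Characteristic := Subgroup.characteristic_centralizer
  have hWn : W.Normal := Subgroup.normal_of_characteristic W
  obtain ⟨x, hxE, hxT⟩ := SetLike.not_le_iff_exists.mp hnotET
  have hZE : Z ≤ E := omZ_le_E p E hE hEmax
  have hZT : Z ≤ T := (omZ_le_center p).trans (Subgroup.center_le_centralizer _)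
  have hxZ : x ∉ Z := fun h => hxT (hZT h)
  -- E = ⟨Z, x⟩
  have hEeq : Subgroup.closure ((Z : Set P) ∪ {x}) = E := by
    have hle : Subgroup.closure ((Z : Set P) ∪ {x}) ≤ E := by
      rw [Subgroup.closure_le]
      rintro y (hy | hy)
      · exact hZE hy
      · rw [Set.mem_singleton_iff.mp hy]; exact hxE
    apply Subgroup.eq_of_le_of_card_ge hle
    have hlt := card_lt_card_adjoin Z x hxZ
    rw [hcZ] at hlt
    have hdvd : Nat.card (Subgroup.closure ((Z : Set P) ∪ {x})) ∣ p ^ 2 := by
      rw [← hE2]; exact Subgroup.card_dvd_of_le hle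
    obtain ⟨j, hj, hjeq⟩ := (Nat.dvd_prime_pow hp.out).mp hdvd
    rw [hjeq] at hlt ⊢
    rw [hE2]
    have : 1 < j := by
      by_contra hcon
      rw [not_lt] at hcon
      have : p ^ j ≤ p ^ 1 := Nat.pow_le_pow_right hp.out.pos hcon
      rw [pow_one] at this
      omega
    exact Nat.pow_le_pow_right hp.out.pos this
  -- |E ⊓ T| ≤ p
  have hETcard : Nat.card (E ⊓ T : Subgroup P) ≤ p := by
    have hdvd : Nat.card (E ⊓ T : Subgroup P) ∣ p ^ 2 := by
      rw [← hE2]; exact Subgroup.card_dvd_of_le inf_le_left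
    obtain ⟨j, hj, hjeq⟩ := (Nat.dvd_prime_pow hp.out).mp hdvd
    have hj1 : j ≤ 1 := by
      by_contra hcon
      rw [not_le] at hcon
      have hj2 : j = 2 := by omega
      rw [hj2] at hjeq
      have : (E ⊓ T : Subgroup P) = E :=
        Subgroup.eq_of_le_of_card_ge inf_le_left (by rw [hjeq, hE2])
      apply hxT
      have hx' : x ∈ (E ⊓ T : Subgroup P) := by rw [this]; exact hxE
      exact (Subgroup.mem_inf.mp hx').2
    rw [hjeq]
    calc p ^ j ≤ p ^ 1 := Nat.pow_le_pow_right hp.out.pos hj1
      _ = p := pow_one p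
  -- fixed points
  have hfixP : ∀ h ∈ T, h ^ p = 1 → h * x = x * h → h ∈ (E ⊓ T : Subgroup P) := by
    intro h hhT hhp hhx
    refine Subgroup.mem_inf.mpr ⟨?_, hhT⟩
    apply mem_of_centralizes p E hE hEmax h _ hhp
    rw [← hEeq, centralizer_adjoin]
    refine Subgroup.mem_inf.mpr ⟨?_, ?_⟩
    · rw [Subgroup.mem_centralizer_iff]
      intro z hz
      have := omZ_le_center p hz
      rw [Subgroup.mem_center_iff] at this
      exact (this h).symm
    · rw [Subgroup.mem_centralizer_iff]
      intro y hy
      rw [Set.mem_singleton_iff.mp hy]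
      exact hhx.symm
  have hWT : W ≤ T := by
    intro w hw
    rw [hT, Subgroup.mem_centralizer_iff]
    intro w' hw'
    have := hWcomm.is_comm.comm (⟨w', hw'⟩ : W) ⟨w, hw⟩
    exact congrArg Subtype.val this
  -- transport to X
  have hTn : (T.map ι).Normal := map_normal_of_characteristic ι hι hn T
  have hRp : IsPGroup p ι.range := hP.of_surjective ι.rangeRestrict ι.rangeRestrict_surjective
  have key := verbalPow_centralizes_of_narrow_data p hp2 ι.range (T.map ι) (W.map ι)
    ((E ⊓ T : Subgroup P).map ι) hRp (Subgroup.map_le_range ι T) (Subgroup.map_mono hWT)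
    (by
      rintro _ ⟨r', rfl⟩ _ ⟨w', hw', rfl⟩
      refine ⟨r' * w' * r'⁻¹, hWn.conj_mem w' hw' r', ?_⟩
      simp)
    (by
      rintro y hy
      obtain ⟨⟨y', rfl⟩, hy2⟩ := Subgroup.mem_inf.mp hy
      refine Subgroup.mem_map_of_mem ι ?_
      rw [hT, Subgroup.mem_centralizer_iff]
      intro w hw
      have := Subgroup.mem_centralizer_iff.mp hy2 (ι w) (Subgroup.mem_map_of_mem ι hw)
      apply hι
      rw [map_mul, map_mul]
      exact this)
    (ι x) ⟨x, rfl⟩
    (by rw [Subgroup.card_map_of_injective hι]; exact hETcard)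
    (by
      rintro _ ⟨h', hh', rfl⟩ hhp hhx
      refine Subgroup.mem_map_of_mem ι (hfixP h' hh' ?_ ?_)
      · apply hι
        rw [map_pow, map_one]
        exact hhp
      · apply hι
        rw [map_mul, map_mul]
        exact hhx)
    k hk hcop
  exact key (ι r) ⟨r, rfl⟩

end Cfsg.Agent.Lib.Helper67
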