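import Mathlib
import Cfsg.Prelude.Def_OddOrderLocal

/-!
# Narrow `p`-groups of rank at least three have a maximal elementary abelian subgroup of order `p²`
(helper67)
-/

set_option autoImplicit false

namespace Cfsg.Agent.Lib.Helper67

open Cfsg

theorem exists_maxElemAb_of_narrow {P : Type*} [Group P] [Finite P] (p : ℕ) [hp : Fact p.Prime]
    (hP : IsPGroup p P) (hn : Cfsg.IsNarrow p P) (hr : ¬ Cfsg.PRankLE p 2 P) :
    ∃ E : Subgroup P, Cfsg.IsElementaryAbelian p E ∧ Nat.card E = p ^ 2 ∧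
      ∀ B : Subgroup P, Cfsg.IsElementaryAbelian p B → E ≤ B → B = E := by
  rcases hn with hn | ⟨R₀, R₁, hR₀, hR₁, hdisj, hcomm, hsup⟩
  · exact absurd hn hr
  have hcyc₀ : IsCyclic R₀ := isCyclic_of_prime_card hR₀
  have hc₀ : ∀ a b : R₀, a * b = b * a := by
    let _ := IsCyclic.commGroup (α := R₀)
    exact mul_comm
  have hc₁ : ∀ a b : R₁, a * b = b * a := by
    let _ := IsCyclic.commGroup (α := R₁)
    exact mul_comm
  have hcm : ∀ (m : R₀) (n : R₁), Commute (R₀.subtype m) (R₁.subtype n) :=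
    fun a b => hcomm a a.2 b b.2
  let φ : R₀ × R₁ →* P := MonoidHom.noncommCoprod R₀.subtype R₁.subtype hcm
  have hφapp : ∀ a : R₀, ∀ b : R₁, φ (a, b) = (a : P) * (b : P) := fun a b => rfl
  have hφinj : Function.Injective φ := by
    refine (MonoidHom.noncommCoprod_injective _ _ _).mpr
      ⟨Subtype.val_injective, Subtype.val_injective, ?_⟩
    rw [Subgroup.range_subtype, Subgroup.range_subtype, disjoint_iff]
    exact hdisj
  have hφrange : φ.range = Subgroup.centralizer (R₀ : Set P) := by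
    refine (MonoidHom.noncommCoprod_range _ _ hcm).trans ?_
    rw [Subgroup.range_subtype, Subgroup.range_subtype, hsup]
  -- nontriviality of P
  have hbig : ∃ B₀ : Subgroup P, p ^ 2 < Nat.card B₀ := by
    unfold Cfsg.PRankLE at hr
    rw [not_forall] at hr
    obtain ⟨B₀, hB₀⟩ := hr
    rw [Classical.not_imp, Classical.not_imp, not_le] at hB₀
    exact ⟨B₀, hB₀.2.2⟩
  obtain ⟨B₀, hB₀⟩ := hbig
  have hcardP : p ^ 2 < Nat.card P := lt_of_lt_of_le hB₀ (Subgroup.card_le_card_group B₀)
  -- R₁ ≠ ⊥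
  have hR₁ne : R₁ ≠ ⊥ := by
    intro hbot
    have hcent : Subgroup.centralizer (R₀ : Set P) = R₀ := by
      rw [← hsup, hbot, sup_bot_eq]
    have hnt : Nontrivial P := by
      rw [← Finite.one_lt_card_iff_nontrivial]
      have : 1 ≤ p ^ 2 := Nat.one_le_pow _ _ hp.out.pos
      omega
    have hZnt : Nontrivial (Subgroup.center P) := hP.center_nontrivial
    have hZle : Subgroup.center P ≤ R₀ := by
      rw [← hcent]; exact Subgroup.center_le_centralizer _
    have hZcard : Nat.card (Subgroup.center P) = p := by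
      have hdvd : Nat.card (Subgroup.center P) ∣ p := by
        rw [← hR₀]; exact Subgroup.card_dvd_of_le hZle
      rcases (Nat.dvd_prime hp.out).mp hdvd with h | h
      · exfalso
        have : Subsingleton (Subgroup.center P) := (Nat.card_eq_one_iff_unique.mp h).1
        exact not_nontrivial _ hZnt
      · exact h
    have hZeq : Subgroup.center P = R₀ :=
      Subgroup.eq_of_le_of_card_ge hZle (by rw [hZcard, hR₀])
    have htop : Subgroup.centralizer (R₀ : Set P) = ⊤ := by
      rw [Subgroup.centralizer_eq_top_iff_subset, ← hZeq]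
    rw [hcent] at htop
    have : Nat.card P = p := by
      rw [← hR₀, htop, Subgroup.card_top]
    rw [this] at hcardP
    have : p ≤ p ^ 2 := by
      calc p = p ^ 1 := (pow_one p).symm
        _ ≤ p ^ 2 := Nat.pow_le_pow_right hp.out.pos (by norm_num)
    omega
  -- Ω₁(R₁)
  let Ω : Subgroup R₁ :=
    { carrier := {b | b ^ p = 1}
      mul_mem' := by
        intro a b ha hb
        have hab : Commute a b := hc₁ a b
        show (a * b) ^ p = 1
        rw [hab.mul_pow, ha, hb, one_mul]
      one_mem' := one_pow p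
      inv_mem' := by
        intro a ha
        show a⁻¹ ^ p = 1
        rw [inv_pow, ha, inv_one] }
  have hΩmem : ∀ b : R₁, b ∈ Ω ↔ b ^ p = 1 := fun b => Iff.rfl
  have hΩdvd : Nat.card Ω ∣ p := by
    have hcycΩ : IsCyclic Ω := Subgroup.isCyclic Ω
    rw [← IsCyclic.exponent_eq_card]
    apply Monoid.exponent_dvd_of_forall_pow_eq_one
    intro b
    apply Subtype.ext
    rw [Subgroup.coe_pow, Subgroup.coe_one]
    exact b.2
  have hR₁p : IsPGroup p R₁ := hP.to_subgroup R₁
  have hΩcard : Nat.card Ω = p := by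
    rcases (Nat.dvd_prime hp.out).mp hΩdvd with h | h
    · exfalso
      -- an element of order p in R₁
      have hnt : Nontrivial R₁ := by
        rw [Subgroup.nontrivial_iff_ne_bot]; exact hR₁ne
      obtain ⟨k, hk⟩ := hR₁p.exists_card_eq
      have hk0 : k ≠ 0 := by
        intro h0
        rw [h0, pow_zero] at hk
        have : Subsingleton R₁ := (Nat.card_eq_one_iff_unique.mp hk).1
        exact not_nontrivial _ hnt
      have hdvd : p ∣ Nat.card R₁ := by rw [hk]; exact dvd_pow_self p hk0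
      obtain ⟨b, hb⟩ := exists_prime_orderOf_dvd_card' p hdvd
      have hbΩ : b ∈ Ω := by
        rw [hΩmem, ← hb]; exact pow_orderOf_eq_one b
      have hsub : Subsingleton Ω := (Nat.card_eq_one_iff_unique.mp h).1
      have : (⟨b, hbΩ⟩ : Ω) = 1 := Subsingleton.elim _ _
      have hb1 : b = 1 := congrArg Subtype.val this
      rw [hb1, orderOf_one] at hb
      exact hp.out.one_lt.ne hb
    · exact h
  -- E
  let E : Subgroup P := (Subgroup.prod ⊤ Ω).map φ
  have hEmem : ∀ g : P, g ∈ E ↔ ∃ a : R₀, ∃ b : R₁, b ^ p = 1 ∧ (a : P) * (b : P) = g := by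
    intro g
    constructor
    · rintro ⟨⟨a, b⟩, hab, rfl⟩
      exact ⟨a, b, (Subgroup.mem_prod.mp hab).2, rfl⟩
    · rintro ⟨a, b, hb, rfl⟩
      exact ⟨(a, b), Subgroup.mem_prod.mpr ⟨Subgroup.mem_top a, hb⟩, rfl⟩
  have hapow : ∀ a : R₀, a ^ p = 1 := by
    intro a
    rw [← hR₀]; exact pow_card_eq_one'
  refine ⟨E, ⟨⟨⟨?_⟩⟩, ?_⟩, ?_, ?_⟩
  · -- commutative
    rintro ⟨x, hx⟩ ⟨y, hy⟩
    obtain ⟨a, b, -, rfl⟩ := (hEmem x).mp hx
    obtain ⟨a', b', -, rfl⟩ := (hEmem y).mp hy
    apply Subtype.ext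
    show (a : P) * b * (a' * b') = a' * b' * (a * b)
    have h1 : ((a, b) : R₀ × R₁) * (a', b') = (a', b') * (a, b) := by
      ext
      · exact congrArg Subtype.val (hc₀ a a')
      · exact congrArg Subtype.val (hc₁ b b')
    have := congrArg φ h1
    rw [map_mul, map_mul, hφapp, hφapp] at this
    exact this
  · -- exponent p
    intro g hg
    obtain ⟨a, b, hb, rfl⟩ := (hEmem g).mp hg
    have h1 : ((a, b) : R₀ × R₁) ^ p = 1 := by
      ext
      · simp [hapow a]
      · simp [hb]
    have := congrArg φ h1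
    rw [map_pow, map_one, hφapp] at this
    exact this
  · -- card
    show Nat.card ((Subgroup.prod ⊤ Ω).map φ) = p ^ 2
    rw [Subgroup.card_map_of_injective hφinj,
      Nat.card_congr (Subgroup.prodEquiv (⊤ : Subgroup R₀) Ω).toEquiv, Nat.card_prod,
      Subgroup.card_top, hR₀, hΩcard, sq]
  · -- maximality
    intro B hB hEB
    apply le_antisymm _ hEB
    intro g hg
    have hgc : g ∈ Subgroup.centralizer (R₀ : Set P) := by
      rw [Subgroup.mem_centralizer_iff]
      intro a ha
      have haE : a ∈ E := (hEmem a).mpr ⟨⟨a, ha⟩, 1, one_pow p, by simp⟩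
      have haB : a ∈ B := hEB haE
      have := hB.1.is_comm.comm (⟨a, haB⟩ : B) ⟨g, hg⟩
      exact congrArg Subtype.val this
    rw [← hφrange] at hgc
    obtain ⟨⟨a, b⟩, rfl⟩ := hgc
    refine (hEmem _).mpr ⟨a, b, ?_, rfl⟩
    have h1 : φ ((a, b) ^ p) = 1 := by
      rw [map_pow]; exact hB.2 _ hg
    have h2 : ((a, b) : R₀ × R₁) ^ p = 1 := hφinj (by rw [h1, map_one])
    have := congrArg Prod.snd h2
    simpa using this

end Cfsg.Agent.Lib.Helper67
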