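import Mathlib
import Cfsg.Agent.Lib.Helper67.NarrowCore
import Cfsg.Agent.Lib.Helper67.NarrowElemAb

/-!
# Consequences of the narrow-core lemma in a form ready for applications (helper67)

For a narrow `p`-group `P` of rank `≥ 3` embedded as a normal subgroup of a finite group `X`:
`p'`-elements of `X'` and elements of prime order `q > p` centralize `P`.
Also: the `p`-rank of `G` is the `p`-rank of a Sylow `p`-subgroup.
-/

set_option autoImplicit false

namespace Cfsg.Agent.Lib.Helper67

open Cfsg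
open scoped Pointwise

theorem commutator_le_verbalPow' (X : Type*) [Group X] (n : ℕ) :
    commutator X ≤ verbalPow X n := by
  rw [commutator_eq_closure, Subgroup.closure_le]
  rintro _ ⟨g, h, rfl⟩
  exact commutator_mem_verbalPow n g h

theorem narrow_commutator_centralizes {P X : Type*} [Group P] [Finite P] [Group X] [Finite X]
    (p : ℕ) [hp : Fact p.Prime] (hp2 : p ≠ 2) (hP : IsPGroup p P) (hn : Cfsg.IsNarrow p P)
    (hr : ¬ Cfsg.PRankLE p 2 P) (ι : P →* X) (hι : Function.Injective ι) (hnorm : ι.range.Normal)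
    (x : X) (hx : x ∈ commutator X) (hcop : (orderOf x).Coprime p) (r : P) :
    x * ι r = ι r * x := by
  obtain ⟨E, hE, hE2, hEmax⟩ := exists_maxElemAb_of_narrow p hP hn hr
  exact verbalPow_centralizes_of_maxElemAb p hp2 hP hr E hE hE2 hEmax ι hι hnorm x
    (commutator_le_verbalPow' X _ hx) hcop r

theorem narrow_prime_gt_centralizes {P X : Type*} [Group P] [Finite P] [Group X] [Finite X]
    (p : ℕ) [hp : Fact p.Prime] (hp2 : p ≠ 2) (hP : IsPGroup p P) (hn : Cfsg.IsNarrow p P)
    (hr : ¬ Cfsg.PRankLE p 2 P) (ι : P →* X) (hι : Function.Injective ι) (hnorm : ι.range.Normal)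
    (x : X) (hq : (orderOf x).Prime) (hlt : p < orderOf x) (r : P) :
    x * ι r = ι r * x := by
  obtain ⟨E, hE, hE2, hEmax⟩ := exists_maxElemAb_of_narrow p hP hn hr
  have hqp : (orderOf x).Coprime p := by
    rw [Nat.Prime.coprime_iff_not_dvd hq]
    intro h
    have := Nat.le_of_dvd hp.out.pos h
    omega
  have hy : (orderOf (x ^ (p - 1))).Coprime p :=
    Nat.Coprime.coprime_dvd_left (orderOf_pow_dvd (p - 1)) hqp
  have hc := verbalPow_centralizes_of_maxElemAb p hp2 hP hr E hE hE2 hEmax ι hι hnorm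
    (x ^ (p - 1)) (pow_mem_verbalPow _ _) hy r
  have hcop : (p - 1).Coprime (orderOf x) := by
    rw [Nat.coprime_comm, Nat.Prime.coprime_iff_not_dvd hq]
    intro h
    have h1 : 0 < p - 1 := by
      have := hp.out.two_le
      omega
    have := Nat.le_of_dvd h1 h
    omega
  obtain ⟨m, hm⟩ := exists_pow_eq_self_of_coprime hcop
  have h1 : Commute (x ^ (p - 1)) (ι r) := hc
  have h2 : Commute ((x ^ (p - 1)) ^ m) (ι r) := h1.pow_left m
  rw [hm] at h2
  exact h2.eq

/-- The `p`-rank of a finite group is bounded by the `p`-rank of a Sylow `p`-subgroup. -/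
theorem pRankLE_of_sylow {G : Type*} [Group G] [Finite G] (p k : ℕ) [hp : Fact p.Prime]
    (S : Sylow p G) (h : Cfsg.PRankLE p k ↥(S : Subgroup G)) : Cfsg.PRankLE p k G := by
  intro A hAc hAe
  have hAp : IsPGroup p A := by
    intro a
    refine ⟨1, ?_⟩
    apply Subtype.ext
    rw [pow_one, Subgroup.coe_pow, Subgroup.coe_one]
    exact hAe a a.2
  obtain ⟨Q, hAQ⟩ := hAp.exists_le_sylow
  obtain ⟨g, hg⟩ := MulAction.exists_smul_eq G Q S
  let A' : Subgroup G := A.map (MulAut.conj g).toMonoidHom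
  have hA'S : A' ≤ (S : Subgroup G) := by
    rintro _ ⟨a, ha, rfl⟩
    have h1 : a ∈ (Q : Subgroup G) := hAQ ha
    have h2 : (MulAut.conj g) • a ∈ (MulAut.conj g) • (Q : Subgroup G) :=
      Subgroup.smul_mem_pointwise_smul a (MulAut.conj g) (Q : Subgroup G) h1
    rw [← Sylow.coe_subgroup_smul, hg] at h2
    exact h2
  have hcard : Nat.card A' = Nat.card A :=
    Subgroup.card_map_of_injective (MulAut.conj g).injective
  let B : Subgroup ↥(S : Subgroup G) := A'.subgroupOf (S : Subgroup G)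
  have hBcard : Nat.card B = Nat.card A' :=
    Nat.card_congr (Subgroup.subgroupOfEquivOfLe hA'S).toEquiv
  have hBc : IsMulCommutative B := by
    refine ⟨⟨?_⟩⟩
    rintro ⟨⟨x, hxS⟩, hx⟩ ⟨⟨y, hyS⟩, hy⟩
    obtain ⟨a, ha, rfl⟩ := Subgroup.mem_subgroupOf.mp hx
    obtain ⟨b, hb, hb'⟩ := Subgroup.mem_subgroupOf.mp hy
    apply Subtype.ext
    apply Subtype.ext
    show (MulAut.conj g).toMonoidHom a * y = y * (MulAut.conj g).toMonoidHom a
    have hy' : y = (MulAut.conj g).toMonoidHom b := hb'.symm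
    rw [hy', ← map_mul, ← map_mul]
    congr 1
    have := hAc.is_comm.comm (⟨a, ha⟩ : A) ⟨b, hb⟩
    exact congrArg Subtype.val this
  have hBe : ∀ b ∈ B, b ^ p = 1 := by
    rintro ⟨x, hxS⟩ hx
    obtain ⟨a, ha, ha'⟩ := Subgroup.mem_subgroupOf.mp hx
    apply Subtype.ext
    rw [Subgroup.coe_pow, Subgroup.coe_one]
    show x ^ p = 1
    have : x = (MulAut.conj g).toMonoidHom a := ha'.symm
    rw [this, ← map_pow, hAe a ha, map_one]
  have := h B hBc hBe
  rw [hBcard, hcard] at this
  exact this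

end Cfsg.Agent.Lib.Helper67
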