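import Mathlib

/-!
Groups in which (abelian / `p`-) subgroups of equal order are conjugate: the basic dichotomy
"unique subgroup of order `p`" versus "exponent `p`" for Sylow subgroups.
-/

set_option autoImplicit false
open Pointwise

namespace Cfsg.Agent.Lib.Helper67

/-- `|H ⊔ N| ≤ |H| |N|` when `H` normalizes `N`. -/
theorem card_sup_le_of_le_normalizer {G : Type*} [Group G] (H N : Subgroup G)
    (h : H ≤ Subgroup.normalizer (N : Set G)) :
    Nat.card (H ⊔ N : Subgroup G) ≤ Nat.card H * Nat.card N := by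
  have h1 : ((H ⊔ N : Subgroup G) : Set G) = (H : Set G) * (N : Set G) :=
    Subgroup.coe_mul_of_left_le_normalizer_right H N h
  calc Nat.card (H ⊔ N : Subgroup G) = Nat.card ((H ⊔ N : Subgroup G) : Set G) := rfl
    _ = Nat.card ((H : Set G) * (N : Set G) : Set G) := by rw [h1]
    _ ≤ Nat.card (H : Set G) * Nat.card (N : Set G) := Set.natCard_mul_le
    _ = Nat.card H * Nat.card N := rfl

/-- In a finite `p`-group with two distinct subgroups of order `p` there is an elementary abelian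
subgroup of order `p ^ 2`. -/
theorem exists_elementary_sq_of_ne {Q : Type*} [Group Q] [Finite Q] {p : ℕ} [hp : Fact p.Prime]
    (hQ : IsPGroup p Q) {H K : Subgroup Q} (hH : Nat.card H = p) (hK : Nat.card K = p)
    (hne : H ≠ K) :
    ∃ E : Subgroup Q, Nat.card E = p ^ 2 ∧ (∀ x ∈ E, x ^ p = 1) ∧
      (∀ x ∈ E, ∀ y ∈ E, x * y = y * x) := by
  -- Q is nontrivial
  have hQnt : Nontrivial Q := by
    have : Nontrivial H := by
      rw [← Finite.one_lt_card_iff_nontrivial, hH]; exact hp.out.one_lt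
    obtain ⟨a, b, hab⟩ := this
    exact ⟨⟨a, b, fun h => hab (Subtype.ext h)⟩⟩
  have hZnt : Nontrivial (Subgroup.center Q) := hQ.center_nontrivial
  -- a central subgroup of order p
  have hZp : IsPGroup p (Subgroup.center Q) := hQ.to_subgroup _
  obtain ⟨n, hn0, hn⟩ := hZp.nontrivial_iff_card.1 hZnt
  have hpdvd : p ∣ Nat.card (Subgroup.center Q) := by rw [hn]; exact dvd_pow_self p hn0.ne'
  obtain ⟨z, hz⟩ := exists_prime_orderOf_dvd_card' p hpdvd
  obtain ⟨Z₀, hZ₀⟩ : ∃ Z₀ : Subgroup Q, Z₀ = Subgroup.zpowers (z : Q) := ⟨_, rfl⟩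
  have hzord : orderOf (z : Q) = p := by rw [Subgroup.orderOf_coe]; exact hz
  have hZ₀card : Nat.card Z₀ = p := by rw [hZ₀, Nat.card_zpowers, hzord]
  have hZ₀cent : ∀ c ∈ Z₀, ∀ x : Q, c * x = x * c := by
    intro c hc x
    have : Z₀ ≤ Subgroup.center Q := by
      rw [hZ₀, Subgroup.zpowers_le]; exact z.2
    exact ((Subgroup.mem_center_iff.1 (this hc)) x).symm
  -- WLOG H ≠ Z₀
  obtain ⟨H', hH', hH'ne⟩ : ∃ H' : Subgroup Q, Nat.card H' = p ∧ H' ≠ Z₀ := by
    by_cases h : H = Z₀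
    · exact ⟨K, hK, fun h' => hne (h.trans h'.symm)⟩
    · exact ⟨H, hH, h⟩
  have hH'comm : ∀ x ∈ H', ∀ y ∈ H', x * y = y * x := by
    have : Fact (Nat.card H').Prime := ⟨by rw [hH']; exact hp.out⟩
    have hc : IsCyclic H' := isCyclic_of_prime_card rfl
    intro x hx y hy
    obtain ⟨g, hg⟩ := hc.exists_generator
    obtain ⟨i, hi⟩ := Subgroup.mem_zpowers_iff.1 (hg ⟨x, hx⟩)
    obtain ⟨j, hj⟩ := Subgroup.mem_zpowers_iff.1 (hg ⟨y, hy⟩)
    have h1 : (⟨x, hx⟩ : H') * ⟨y, hy⟩ = ⟨y, hy⟩ * ⟨x, hx⟩ := by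
      rw [← hi, ← hj, ← zpow_add, ← zpow_add, add_comm]
    exact congrArg Subtype.val h1
  have hH'pow : ∀ x ∈ H', x ^ p = 1 := by
    intro x hx
    have := pow_card_eq_one' (G := H') (x := ⟨x, hx⟩)
    rw [hH'] at this
    exact congrArg Subtype.val this
  have hZ₀pow : ∀ x ∈ Z₀, x ^ p = 1 := by
    intro x hx
    have := pow_card_eq_one' (G := Z₀) (x := ⟨x, hx⟩)
    rw [hZ₀card] at this
    exact congrArg Subtype.val this
  have hZ₀n : Z₀.Normal := by
    constructor
    intro c hc g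
    rw [← hZ₀cent c hc g, mul_inv_cancel_right]; exact hc
  have hmem : ∀ x ∈ H' ⊔ Z₀, ∃ h ∈ H', ∃ c ∈ Z₀, x = h * c := by
    intro x hx
    have hx' : x ∈ ((H' ⊔ Z₀ : Subgroup Q) : Set Q) := hx
    rw [Subgroup.mul_normal] at hx'
    obtain ⟨h, hh, c, hc, rfl⟩ := Set.mem_mul.mp hx'
    exact ⟨h, hh, c, hc, rfl⟩
  refine ⟨H' ⊔ Z₀, ?_, ?_, ?_⟩
  · -- cardinality
    have hle : Nat.card (H' ⊔ Z₀ : Subgroup Q) ≤ p * p := by
      have := card_sup_le_of_le_normalizer H' Z₀ Subgroup.le_normalizer_of_normal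
      rwa [hH', hZ₀card] at this
    have hlt : p < Nat.card (H' ⊔ Z₀ : Subgroup Q) := by
      by_contra hcon
      push Not at hcon
      have h1 : H' = H' ⊔ Z₀ := Subgroup.eq_of_le_of_card_ge le_sup_left (by rw [hH']; exact hcon)
      have h2 : Z₀ ≤ H' := by rw [h1]; exact le_sup_right
      exact hH'ne (Subgroup.eq_of_le_of_card_ge h2 (by rw [hH', hZ₀card])).symm
    obtain ⟨k, hk⟩ := IsPGroup.iff_card.1 (hQ.to_subgroup (H' ⊔ Z₀))
    rw [hk] at hle hlt ⊢
    have h1 : 1 < k := by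
      have : p ^ 1 < p ^ k := by rwa [pow_one]
      exact (Nat.pow_lt_pow_iff_right hp.out.one_lt).1 this
    have h2 : k ≤ 2 := by
      have : p ^ k ≤ p ^ 2 := by rwa [pow_two]
      exact (Nat.pow_le_pow_iff_right hp.out.one_lt).1 this
    have : k = 2 := by omega
    rw [this]
  · intro x hx
    obtain ⟨h, hh, c, hc, rfl⟩ := hmem x hx
    rw [(show Commute h c from (hZ₀cent c hc h).symm).mul_pow, hH'pow h hh, hZ₀pow c hc, one_mul]
  · intro x hx y hy
    obtain ⟨h, hh, c, hc, rfl⟩ := hmem x hx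
    obtain ⟨h', hh', c', hc', rfl⟩ := hmem y hy
    have e1 : h * c * (h' * c') = h * h' * (c * c') :=
      (show Commute c h' from hZ₀cent c hc h').mul_mul_mul_comm h c'
    have e2 : h' * c' * (h * c) = h' * h * (c' * c) :=
      (show Commute c' h from hZ₀cent c' hc' h).mul_mul_mul_comm h' c
    rw [e1, e2, hH'comm h hh h' hh', hZ₀cent c hc c']

/-- If every cyclic subgroup of order `p ^ 2` generated by an element of the `p`-subgroup `P` is
conjugate to a subgroup `E` of exponent `p`, then `P` has exponent `p`. -/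
theorem pow_eq_one_of_conj_sq {G : Type*} [Group G] {p : ℕ} [hp : Fact p.Prime]
    (P : Subgroup G) (hP : IsPGroup p P) (E : Subgroup G) (hEexp : ∀ x ∈ E, x ^ p = 1)
    (hconj : ∀ x ∈ P, orderOf x = p ^ 2 →
      ∃ g : G, Subgroup.zpowers x = E.map (MulAut.conj g).toMonoidHom) :
    ∀ x ∈ P, x ^ p = 1 := by
  intro x hx
  obtain ⟨k, hk⟩ := (IsPGroup.iff_orderOf.1 hP) ⟨x, hx⟩
  rw [Subgroup.orderOf_mk] at hk
  by_cases hk1 : k ≤ 1
  · have : orderOf x ∣ p := by
      rw [hk]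
      calc p ^ k ∣ p ^ 1 := pow_dvd_pow p hk1
        _ = p := pow_one p
    exact orderOf_dvd_iff_pow_eq_one.1 this
  · exfalso
    push Not at hk1
    obtain ⟨y, hy⟩ : ∃ y : G, y = x ^ (p ^ (k - 2)) := ⟨_, rfl⟩
    have hyP : y ∈ P := by rw [hy]; exact P.pow_mem hx _
    have hyord : orderOf y = p ^ 2 := by
      rw [hy, orderOf_pow_of_dvd (pow_ne_zero _ hp.out.ne_zero), hk]
      · rw [Nat.pow_div (by omega) hp.out.pos]
        congr 1; omega
      · rw [hk]; exact pow_dvd_pow p (by omega)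
    obtain ⟨g, hg⟩ := hconj y hyP hyord
    have hymem : y ∈ E.map (MulAut.conj g).toMonoidHom := by
      rw [← hg]; exact Subgroup.mem_zpowers y
    obtain ⟨e, he, hey⟩ := hymem
    have hyp : y ^ p = 1 := by
      rw [← hey, ← map_pow, hEexp e he, map_one]
    have := orderOf_dvd_of_pow_eq_one hyp
    rw [hyord] at this
    have h2 : p ^ 2 ≤ p := Nat.le_of_dvd hp.out.pos this
    have h3 : p < p ^ 2 := by
      calc p = p ^ 1 := (pow_one p).symm
        _ < p ^ 2 := Nat.pow_lt_pow_right hp.out.one_lt (by norm_num)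
    omega

end Cfsg.Agent.Lib.Helper67
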