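import Mathlib
import Cfsg.Prelude.Def_GeometricClasses
import Cfsg.Agent.Lib.Helper99.AschDefs

/-!
# ASCH-[ARITH] (helper67, for helper99's project ASCH / S5630)
Finite-field arithmetic for the symplectic-type analysis: `field_cases_odd`, `field_cases_four`.
-/

set_option autoImplicit false

namespace Cfsg.Agent.Lib.Helper67.AschArith

variable {F : Type*} [Field F] [Fintype F]

/-- `F` of order `p ^ e`, `0 < d < e`: some element is moved by `x ↦ x ^ (p ^ d)`. -/
theorem exists_pow_ne (p e d : ℕ) (hp : p.Prime) (hcard : Fintype.card F = p ^ e) (hd0 : 0 < d)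
    (hde : d < e) : ∃ x : F, x ^ (p ^ d) ≠ x := by
  obtain ⟨g, hg⟩ := IsCyclic.exists_generator (α := Fˣ)
  have hord : orderOf g = p ^ e - 1 := by
    rw [orderOf_eq_card_of_forall_mem_zpowers hg, Nat.card_units, Nat.card_eq_fintype_card, hcard]
  refine ⟨(g : F), fun h => ?_⟩
  have hpd : 1 ≤ p ^ d := Nat.one_le_pow _ _ hp.pos
  have h1 : g ^ (p ^ d - 1) = 1 := by
    apply Units.ext
    rw [Units.val_pow_eq_pow_val, Units.val_one]
    have : (g : F) ^ (p ^ d - 1) * (g : F) = 1 * (g : F) := by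
      rw [← pow_succ, Nat.sub_add_cancel hpd, h, one_mul]
    exact mul_right_cancel₀ g.ne_zero this
  have hdvd := orderOf_dvd_of_pow_eq_one h1
  rw [hord] at hdvd
  have hlt : p ^ d < p ^ e := Nat.pow_lt_pow_right hp.one_lt hde
  have hpd2 : 2 ≤ p ^ d := by
    calc 2 ≤ p := hp.two_le
      _ = p ^ 1 := (pow_one p).symm
      _ ≤ p ^ d := Nat.pow_le_pow_right hp.pos hd0
  have := Nat.le_of_dvd (by omega) hdvd
  omega

/-- roots of unity of order dividing `p ^ d - 1` are fixed by `x ↦ x ^ (p ^ d)`. -/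
theorem pow_eq_self_of_pow_eq_one (p d z : ℕ) (hp : p.Prime) (hz : z ∣ p ^ d - 1) (c : F)
    (hc : c ^ z = 1) : c ^ (p ^ d) = c := by
  have hpd : 1 ≤ p ^ d := Nat.one_le_pow _ _ hp.pos
  obtain ⟨k, hk⟩ := hz
  have h1 : c ^ (p ^ d - 1) = 1 := by rw [hk, pow_mul, hc, one_pow]
  calc c ^ (p ^ d) = c ^ (p ^ d - 1 + 1) := by rw [Nat.sub_add_cancel hpd]
    _ = c := by rw [pow_succ, h1, one_mul]

/-- Case A: the roots of unity lie in a proper subfield. -/
theorem exists_proper_subfield (p e d z : ℕ) [Fact p.Prime] [CharP F p]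
    (hcard : Fintype.card F = p ^ e) (hd0 : 0 < d) (hde : d < e) (hz : z ∣ p ^ d - 1) :
    ∃ F₀ : Subfield F, F₀ ≠ ⊤ ∧ ∀ c : F, c ^ z = 1 → c ∈ F₀ := by
  have hp : p.Prime := Fact.out
  refine ⟨(iterateFrobenius F p d).eqLocusField (RingHom.id F), ?_, ?_⟩
  · intro htop
    obtain ⟨x, hx⟩ := exists_pow_ne (F := F) p e d hp hcard hd0 hde
    have hmem : x ∈ (iterateFrobenius F p d).eqLocusField (RingHom.id F) := by
      rw [htop]; exact Subfield.mem_top x
    rw [RingHom.mem_eqLocusField, iterateFrobenius_def] at hmem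
    exact hx hmem
  · intro c hc
    rw [RingHom.mem_eqLocusField, iterateFrobenius_def]
    exact pow_eq_self_of_pow_eq_one p d z hp hz c hc

/-- Case B: an involutory field automorphism inverting the roots of unity. -/
theorem exists_involution (p k z : ℕ) [Fact p.Prime] [CharP F p]
    (hcard : Fintype.card F = p ^ (2 * k)) (hk : 0 < k) (hz : z ∣ p ^ k + 1) :
    ∃ σ : F ≃+* F, σ ≠ RingEquiv.refl F ∧ (∀ a, σ (σ a) = a) ∧
      ∀ c : F, c ^ z = 1 → σ c * c = 1 := by
  have hp : p.Prime := Fact.out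
  refine ⟨iterateFrobeniusEquiv F p k, ?_, ?_, ?_⟩
  · intro h
    obtain ⟨x, hx⟩ := exists_pow_ne (F := F) p (2 * k) k hp hcard hk (by omega)
    apply hx
    have h' := congrArg (fun τ : F ≃+* F => τ x) h
    simp only [RingEquiv.refl_apply] at h'
    rw [iterateFrobeniusEquiv_def] at h'
    exact h'
  · intro a
    rw [iterateFrobeniusEquiv_def, iterateFrobeniusEquiv_def, ← pow_mul, ← pow_add, ← two_mul,
      ← hcard, FiniteField.pow_card]
  · intro c hc
    rw [iterateFrobeniusEquiv_def, ← pow_succ]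
    obtain ⟨m, hm⟩ := hz
    rw [hm, pow_mul, hc, one_pow]

end Cfsg.Agent.Lib.Helper67.AschArith

/- helper99 (ASCH sheet owner), 17:45Z: this hedge copy of ASCH-[ARITH] used to declare
`Cfsg.Agent.Lib.Helper99.Asch.field_cases_odd / field_cases_four`, the same names as the official provider
`Lib/Helper66/AschArith.lean` (closure of S5630 and the SL rows), while S5663 reaches this file through
`Lib/Helper30/AschUArithU.lean` (which only uses `exists_proper_subfield`): the kernel checker reported a collision.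
Moved into helper67's own namespace; nobody used the old names through this file. -/
namespace Cfsg.Agent.Lib.Helper67.AschArithHedge

open Cfsg Cfsg.Geo Cfsg.Agent.Lib.Helper99.Asch Cfsg.Agent.Lib.Helper67.AschArith

variable {F : Type*} [Field F] [Fintype F]

theorem field_cases_odd (r : ℕ) (hr : r.Prime) (hodd : Odd r) (hdvd : r ∣ Fintype.card F - 1) :
    (∃ F₀ : Subfield F, F₀ ≠ ⊤ ∧ ∀ c : F, c ^ r = 1 → c ∈ F₀) ∨
    (∃ σ : F ≃+* F, σ ≠ RingEquiv.refl F ∧ (∀ a, σ (σ a) = a) ∧ ∀ c : F, c ^ r = 1 → σ c * c = 1) ∨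
    (∃ p e : ℕ, r ≠ p ∧ IsMinimalFieldFor r p e F ∧ Odd e) := by
  obtain ⟨p, hchar⟩ := CharP.exists F
  have hp : p.Prime := CharP.char_is_prime F p
  have := Fact.mk hp
  obtain ⟨e, _, hcard⟩ := FiniteField.card F p
  have hpe : 1 ≤ p ^ (e : ℕ) := Nat.one_le_pow _ _ hp.pos
  rw [hcard] at hdvd
  have hrp : r ≠ p := by
    rintro rfl
    have h1 : r ∣ r ^ (e : ℕ) := dvd_pow_self r e.ne_zero
    have h2 : r ∣ 1 := by
      have := (Nat.dvd_sub h1 hdvd)
      rwa [Nat.sub_sub_self hpe] at this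
    exact hr.one_lt.ne' (Nat.dvd_one.mp h2)
  by_cases hA : ∃ d : ℕ, 0 < d ∧ d < (e : ℕ) ∧ r ∣ p ^ d - 1
  · obtain ⟨d, hd0, hde, hd⟩ := hA
    exact Or.inl (exists_proper_subfield p e d r hcard hd0 hde hd)
  · push Not at hA
    have hmin : IsMinimalFieldFor r p e F :=
      ⟨hp, hchar, hcard, hdvd, fun d hd0 hde => hA d hd0 hde⟩
    rcases Nat.even_or_odd (e : ℕ) with heven | hoddE
    · obtain ⟨k, hk⟩ := heven
      have hk0 : 0 < k := by have := e.pos; omega
      have hcard' : Fintype.card F = p ^ (2 * k) := by rw [hcard, hk, two_mul]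
      have hnot : ¬ r ∣ p ^ k - 1 := hA k hk0 (by omega)
      have hpk : 1 ≤ p ^ k := Nat.one_le_pow _ _ hp.pos
      have hfac : p ^ (e : ℕ) - 1 = (p ^ k - 1) * (p ^ k + 1) := by
        rw [hk, pow_add]
        obtain ⟨t, ht⟩ : ∃ t, p ^ k = t + 1 := ⟨p ^ k - 1, by omega⟩
        rw [ht]
        have : (t + 1) * (t + 1) = t * (t + 1 + 1) + 1 := by ring
        rw [this]; simp
    
      rw [hfac] at hdvd
      have hz : r ∣ p ^ k + 1 := (hr.dvd_mul.mp hdvd).resolve_left hnot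
      exact Or.inr (Or.inl (exists_involution p k r hcard' hk0 hz))
    · exact Or.inr (Or.inr ⟨p, e, hrp, hmin, hoddE⟩)

theorem field_cases_four (hdvd : 4 ∣ Fintype.card F - 1) :
    (∃ F₀ : Subfield F, F₀ ≠ ⊤ ∧ ∀ c : F, c ^ 4 = 1 → c ∈ F₀) ∨
    (∃ σ : F ≃+* F, σ ≠ RingEquiv.refl F ∧ (∀ a, σ (σ a) = a) ∧ ∀ c : F, c ^ 4 = 1 → σ c * c = 1) ∨
    (∃ p : ℕ, 2 ≠ p ∧ IsMinimalFieldFor 4 p 1 F) := by
  obtain ⟨p, hchar⟩ := CharP.exists F
  have hp : p.Prime := CharP.char_is_prime F p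
  have := Fact.mk hp
  obtain ⟨e, _, hcard⟩ := FiniteField.card F p
  have hpe : 1 ≤ p ^ (e : ℕ) := Nat.one_le_pow _ _ hp.pos
  rw [hcard] at hdvd
  have h2p : 2 ≠ p := by
    rintro rfl
    have h1 : 2 ∣ 2 ^ (e : ℕ) := dvd_pow_self 2 e.ne_zero
    have h2 : 2 ∣ 2 ^ (e : ℕ) - 1 := Dvd.dvd.trans (by norm_num) hdvd
    omega
  by_cases hA : ∃ d : ℕ, 0 < d ∧ d < (e : ℕ) ∧ 4 ∣ p ^ d - 1
  · obtain ⟨d, hd0, hde, hd⟩ := hA
    exact Or.inl (exists_proper_subfield p e d 4 hcard hd0 hde hd)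
  · push Not at hA
    by_cases he1 : (e : ℕ) = 1
    · refine Or.inr (Or.inr ⟨p, h2p, hp, hchar, by rw [hcard, he1], by rwa [he1] at hdvd, ?_⟩)
      intro d hd0 hd1
      omega
    · have he2 : 2 ≤ (e : ℕ) := by have := e.pos; omega
      have hp1 : ¬ 4 ∣ p ^ 1 - 1 := hA 1 (by norm_num) (by omega)
      rw [pow_one] at hp1
      have hpodd : p % 2 = 1 := by
        rcases hp.eq_two_or_odd with h | h
        · exact absurd h.symm h2p
        · exact h
      have hp3 : p % 4 = 3 := by omega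
      have h4sq : 4 ∣ p ^ 2 - 1 := by
        have hp4 : p = 4 * (p / 4) + 3 := by omega
        set t := p / 4
        rw [hp4]
        have : (4 * t + 3) ^ 2 - 1 = 4 * (4 * t ^ 2 + 6 * t + 2) := by
          have : (4 * t + 3) ^ 2 = 4 * (4 * t ^ 2 + 6 * t + 2) + 1 := by ring
          rw [this]; simp
        rw [this]
        exact dvd_mul_right _ _
      have he : (e : ℕ) = 2 := by
        by_contra hne
        exact hA 2 (by norm_num) (by omega) h4sq
      have hcard' : Fintype.card F = p ^ (2 * 1) := by rw [hcard, he]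
      have hz : 4 ∣ p ^ 1 + 1 := by rw [pow_one]; omega
      exact Or.inr (Or.inl (exists_involution p 1 4 hcard' (by norm_num) hz))

end Cfsg.Agent.Lib.Helper67.AschArithHedge
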