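import Mathlib
import Cfsg.Agent.Lib.Helper67.S3Defs

/-!
# Definitions for MODULE Z of the `S₃` theorem (helper67)
-/

set_option autoImplicit false

namespace Cfsg.Agent.Lib.Helper67.S3

variable {𝔸 Q V : Type*} [Group 𝔸] [Group Q] [AddCommGroup V] {p : ℕ} [Module (ZMod p) V]

/-- The elements of the centre of `Q` inverted by `k`. -/
def Zm (ψ : 𝔸 →* MulAut Q) (k : 𝔸) : Subgroup Q where
  carrier := {z | z ∈ Subgroup.center Q ∧ ψ k z = z⁻¹}
  mul_mem' := fun {a b} ha hb => by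
    refine ⟨mul_mem ha.1 hb.1, ?_⟩
    rw [map_mul, ha.2, hb.2, mul_inv_rev]
    exact Subgroup.mem_center_iff.mp (inv_mem hb.1) a⁻¹
  one_mem' := ⟨one_mem _, by rw [map_one, inv_one]⟩
  inv_mem' := fun {a} ha => ⟨inv_mem ha.1, by rw [map_inv, ha.2]⟩

theorem mem_Zm {ψ : 𝔸 →* MulAut Q} {k : 𝔸} {z : Q} :
    z ∈ Zm ψ k ↔ z ∈ Subgroup.center Q ∧ ψ k z = z⁻¹ := Iff.rfl

theorem Zm_le_center (ψ : 𝔸 →* MulAut Q) (k : 𝔸) : Zm ψ k ≤ Subgroup.center Q :=
  fun _ hz => hz.1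

/-- The kernel of the action of `Q` on a `Q`-invariant submodule `W` (a subgroup when `W` is
`Q`-invariant; in general the pointwise stabilizer of `W`). -/
def KerOn (ρ : Representation (ZMod p) Q V) (W : Submodule (ZMod p) V) : Subgroup Q where
  carrier := {x | ∀ w ∈ W, ρ x w = w}
  mul_mem' := fun {a b} ha hb w hw => by
    rw [map_mul, Module.End.mul_apply, hb w hw, ha w hw]
  one_mem' := fun w _ => by rw [map_one]; rfl
  inv_mem' := fun {a} ha w hw => by
    have h1 : ρ a⁻¹ (ρ a w) = w := by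
      rw [← Module.End.mul_apply, ← map_mul, inv_mul_cancel, map_one]; rfl
    rw [ha w hw] at h1
    exact h1

theorem mem_KerOn {ρ : Representation (ZMod p) Q V} {W : Submodule (ZMod p) V} {x : Q} :
    x ∈ KerOn ρ W ↔ ∀ w ∈ W, ρ x w = w := Iff.rfl

end Cfsg.Agent.Lib.Helper67.S3
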