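import Mathlib
import Cfsg.Agent.Lib.Helper74.PF127Defs
import Cfsg.Agent.Lib.Helper4.PFTypes
import Cfsg.Agent.Lib.Helper74.PFTwelveD
import Cfsg.Agent.Lib.Helper26.PFBookB

/-!
# PF (12.7), h124: module [BGLEM] (helper74 #3512)

If `a ∈ F# = N_F#` (`N` a Frobenius type-I coatom), `u ∈ R_N(a)` and `a u ∈ A(L) ∖ L_F`, then
`C_G(a) ≤ L`, `L` is the unique coatom over `C_G(a)`, `R_N(a) = C_{L_F}(a)` and `a` is an
`L_F'`-element of `L ∖ L_F`.
-/

set_option autoImplicit false
set_option linter.unusedVariables false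
set_option linter.style.haveILetI false
set_option linter.unusedSectionVars false

namespace Cfsg.Agent.Lib.Helper67.PF124BGLem

open Cfsg Cfsg.Agent.Lib.Helper4.PF Cfsg.Agent.Lib.Helper74.PF127

section abstract

variable {M : Type*} [Group M]

/-- for commuting elements of coprime orders the first is a power of the product -/
theorem exists_zpow_eq_left {a u : M} (hc : Commute a u)
    (hcop : (orderOf a).Coprime (orderOf u)) : ∃ i : ℤ, (a * u) ^ i = a := by
  have hb := Nat.gcd_eq_gcd_ab (orderOf a) (orderOf u)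
  rw [hcop.gcd_eq_one] at hb
  refine ⟨(orderOf u : ℤ) * Nat.gcdB (orderOf a) (orderOf u), ?_⟩
  rw [hc.mul_zpow]
  have h1 : u ^ ((orderOf u : ℤ) * Nat.gcdB (orderOf a) (orderOf u)) = 1 := by
    rw [zpow_mul, zpow_natCast, pow_orderOf_eq_one, one_zpow]
  have h2 : (orderOf u : ℤ) * Nat.gcdB (orderOf a) (orderOf u) =
      1 + (orderOf a : ℤ) * (-Nat.gcdA (orderOf a) (orderOf u)) := by
    push_cast at hb
    linarith
  rw [h1, mul_one, h2, zpow_add, zpow_one, zpow_mul, zpow_natCast, pow_orderOf_eq_one, one_zpow,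
    mul_one]

theorem exists_zpow_eq_right {a u : M} (hc : Commute a u)
    (hcop : (orderOf a).Coprime (orderOf u)) : ∃ i : ℤ, (a * u) ^ i = u := by
  obtain ⟨i, hi⟩ := exists_zpow_eq_left hc.symm hcop.symm
  rw [hc.symm.eq] at hi
  exact ⟨i, hi⟩

/-- an element outside a normal Hall subgroup has a prime divisor of its order prime to the
order of the subgroup -/
theorem exists_prime_dvd_orderOf_not_dvd [Finite M] (K : Subgroup M) [K.Normal]
    (hK : (Nat.card K).Coprime K.index) {y : M} (hy : y ∉ K) :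
    ∃ s : ℕ, s.Prime ∧ s ∣ orderOf y ∧ ¬ s ∣ Nat.card K := by
  have hne : ((y : M) : M ⧸ K) ≠ 1 := by
    intro h
    exact hy ((QuotientGroup.eq_one_iff y).1 h)
  have hord : orderOf ((y : M) : M ⧸ K) ≠ 1 := by
    intro h
    exact hne (orderOf_eq_one_iff.1 h)
  obtain ⟨s, hs, hsd⟩ := Nat.exists_prime_and_dvd hord
  have h1 : orderOf ((y : M) : M ⧸ K) ∣ orderOf y :=
    orderOf_map_dvd (QuotientGroup.mk' K) y
  have h2 : orderOf ((y : M) : M ⧸ K) ∣ K.index := by
    rw [Subgroup.index_eq_card]
    exact orderOf_dvd_natCard _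
  refine ⟨s, hs, hsd.trans h1, ?_⟩
  intro hsK
  have hg : s ∣ Nat.gcd (Nat.card K) K.index := Nat.dvd_gcd hsK (hsd.trans h2)
  rw [hK.gcd_eq_one] at hg
  exact hs.one_lt.ne' (Nat.dvd_one.1 hg)

end abstract


section main

universe u

variable {G : Type u} [Group G]

theorem commute_zpow_of_commute {k y : G} (h : k * y = y * k) (i : ℤ) : k * y ^ i = y ^ i * k :=
  ((show Commute k y from h).zpow_right i).eq

theorem mem_centralizer_singleton {x d : G} (h : d * x = x * d) :
    x ∈ Subgroup.centralizer ({d} : Set G) := by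
  rw [Subgroup.mem_centralizer_iff]
  intro z hz
  rw [Set.mem_singleton_iff] at hz
  subst hz
  exact h

theorem comm_of_mem_centralizer_singleton {x d : G}
    (h : x ∈ Subgroup.centralizer ({d} : Set G)) : d * x = x * d := by
  rw [Subgroup.mem_centralizer_iff] at h
  exact h d (Set.mem_singleton d)

/-- MODULE [BGLEM] -/
theorem coset_in_B [Finite G] (bg : BookBGData G)
    (hall : ∀ M : Subgroup G, IsCoatom M → LitTypeI M)
    (N : Subgroup G) (hN : IsCoatom N) (hNfrob : IsFrobWithFittingHall N)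
    (hDN : DadeHypothesis (litA N) N (supportR N))
    (L : Subgroup G) (hL : IsCoatom L)
    (a u : G) (ha : a ∈ fittingHallOf N) (ha1 : a ≠ 1) (hu : u ∈ supportR N a)
    (hy : a * u ∈ litA L) (hyH : a * u ∉ fittingHallOf L) :
    a ∈ L ∧ a ∉ fittingHallOf L ∧ ¬ Subgroup.centralizer ({a} : Set G) ≤ N ∧
      Subgroup.centralizer ({a} : Set G) ≤ L ∧
      (∀ L' : Subgroup G, IsCoatom L' → Subgroup.centralizer ({a} : Set G) ≤ L' → L' = L) ∧
      supportR N a = fittingHallOf L ⊓ Subgroup.centralizer ({a} : Set G) ∧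
      (Nat.card (fittingHallOf L)).Coprime (orderOf a) := by
  classical
  have hFN : fittingHallOf N ≤ N := Cfsg.Agent.Lib.Helper26.PFEight.fittingHallOf_le N
  have hHL : fittingHallOf L ≤ L := Cfsg.Agent.Lib.Helper26.PFEight.fittingHallOf_le L
  have hNF : IsOfTypeF ↥N := (hall N hN).1
  have hLF : IsOfTypeF ↥L := (hall L hL).1
  -- `A(M)` for a type I subgroup
  have hlit : ∀ M : Subgroup G, IsCoatom M → litA M =
      {b | b ∈ M ∧ b ≠ 1 ∧ ∃ x ∈ fittingHallOf M, x ≠ 1 ∧ b * x = x * b} := by
    intro M hM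
    unfold litA
    rw [if_neg (Cfsg.Agent.Lib.Helper59.PFBridge.not_isOfTypeP_of_isOfTypeF M (hall M hM).1)]
  have hlitN : litA N = (fittingHallOf N : Set G) \ {1} := by
    letI := Fintype.ofFinite G
    letI := Fintype.ofFinite ↥N
    exact Cfsg.Agent.Lib.Helper74.PF12.litA_eq_of_frob N hNF hNfrob
  have haA : a ∈ litA N := by
    rw [hlitN]
    exact ⟨ha, ha1⟩
  rw [hlit L hL] at hy
  obtain ⟨hyL, hy1, k, hkH, hk1, hyk⟩ := hy
  -- `a` and `u` commute and have coprime orders
  have huC : u ∈ Subgroup.centralizer ({a} : Set G) := hDN.le_centralizer a haA hu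
  have hau : a * u = u * a := comm_of_mem_centralizer_singleton huC
  have hcomm : Commute a u := hau
  have hdu : orderOf u ∣ Nat.card (supportR N a) := Subgroup.orderOf_dvd_natCard _ hu
  have haNC : a ∈ N ⊓ Subgroup.centralizer ({a} : Set G) :=
    ⟨hFN ha, mem_centralizer_singleton rfl⟩
  have hda : orderOf a ∣ Nat.card ↥(N ⊓ Subgroup.centralizer ({a} : Set G)) :=
    Subgroup.orderOf_dvd_natCard _ haNC
  have hcop : (orderOf a).Coprime (orderOf u) :=
    (Nat.Coprime.coprime_dvd_left hdu
      (Nat.Coprime.coprime_dvd_right hda (hDN.coprime a haA a haA))).symm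
  obtain ⟨i, hi⟩ := exists_zpow_eq_left hcomm hcop
  obtain ⟨j, hj⟩ := exists_zpow_eq_right hcomm hcop
  -- `k` commutes with `a` and `u`
  have hky : k * (a * u) = (a * u) * k := hyk.symm
  have hka : k * a = a * k := by
    have := commute_zpow_of_commute hky i
    rwa [hi] at this
  have hku : k * u = u * k := by
    have := commute_zpow_of_commute hky j
    rwa [hj] at this
  -- the prime `s`
  have hyK : (⟨a * u, hyL⟩ : ↥L) ∉ fittingHall ↥L := by
    intro h
    apply hyH
    unfold fittingHallOf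
    exact ⟨⟨a * u, hyL⟩, h, rfl⟩
  obtain ⟨s, hs, hsy, hsK⟩ := exists_prime_dvd_orderOf_not_dvd (fittingHall ↥L)
    (Cfsg.Agent.Lib.Helper23.fittingHall_coprime ↥L) hyK
  rw [Subgroup.orderOf_mk] at hsy
  rw [← Cfsg.Agent.Lib.Helper26.PFEight.card_fittingHallOf] at hsK
  rw [hcomm.orderOf_mul_eq_mul_orderOf_of_coprime hcop] at hsy
  -- properties of a suitable element `d` of order `s`
  have key : ∀ d : G, orderOf d = s → (∃ n : ℤ, (a * u) ^ n = d) →
      d ≠ 1 ∧ d ∉ fittingHallOf L ∧ Subgroup.centralizer ({d} : Set G) ≤ L ∧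
      ∀ L' : Subgroup G, IsCoatom L' → Subgroup.centralizer ({d} : Set G) ≤ L' → L' = L := by
    intro d hds hdn
    obtain ⟨n, rfl⟩ := hdn
    have hd1 : (a * u) ^ n ≠ 1 := by
      intro h
      rw [h, orderOf_one] at hds
      exact hs.one_lt.ne hds
    have hdH : (a * u) ^ n ∉ fittingHallOf L := by
      intro h
      apply hsK
      rw [← hds]
      exact Subgroup.orderOf_dvd_natCard _ h
    have hdL : (a * u) ^ n ∈ L := L.zpow_mem hyL n
    obtain ⟨U, hU, hdU⟩ := Cfsg.Agent.Lib.Helper26.PFBook.exists_isComplIn_mem hHL hLF.1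
      (Cfsg.Agent.Lib.Helper26.BGTypes.coprime_card_fittingHallOf_relIndex L) hdL
      (by rw [hds]; exact (Nat.Prime.coprime_iff_not_dvd hs).2 hsK)
    have hc := (bg.compl L hL U (Or.inl ⟨hall L hL, hU⟩)).2.1 {(a * u) ^ n}
      (by
        intro x hx
        rw [Set.mem_singleton_iff] at hx
        subst hx
        exact ⟨hdU, hd1⟩)
      (Set.singleton_nonempty _)
      (by
        intro hbot
        apply hk1
        have : k ∈ fittingHallOf L ⊓ Subgroup.centralizer ({(a * u) ^ n} : Set G) :=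
          ⟨hkH, mem_centralizer_singleton (commute_zpow_of_commute hky n).symm⟩
        rw [hbot, Subgroup.mem_bot] at this
        exact this)
    exact ⟨hd1, hdH, hc.1, hc.2⟩
  rcases (Nat.Prime.dvd_mul hs).1 hsy with hsa | hsu
  · -- `d` is a power of `a`
    set d := a ^ (orderOf a / s) with hd
    have hds : orderOf d = s := orderOf_pow_orderOf_div (orderOf_pos a).ne' hsa
    have hdn : ∃ n : ℤ, (a * u) ^ n = d := by
      refine ⟨i * (orderOf a / s : ℕ), ?_⟩
      rw [zpow_mul, hi, zpow_natCast]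
    obtain ⟨hd1, hdH, hCdL, huniq⟩ := key d hds hdn
    have hCaCd : Subgroup.centralizer ({a} : Set G) ≤ Subgroup.centralizer ({d} : Set G) := by
      intro x hx
      have h1 : a * x = x * a := comm_of_mem_centralizer_singleton hx
      apply mem_centralizer_singleton
      exact ((show Commute a x from h1).pow_left (orderOf a / s)).eq
    have hCaL : Subgroup.centralizer ({a} : Set G) ≤ L := hCaCd.trans hCdL
    have hdF : d ∈ fittingHallOf N := (fittingHallOf N).pow_mem ha _
    have hdlit : d ∈ litA N := by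
      rw [hlitN]
      exact ⟨hdF, hd1⟩
    have hCdN : ¬ Subgroup.centralizer ({d} : Set G) ≤ N := by
      intro h
      have hNL : N = L := huniq N hN h
      apply hdH
      rw [← hNL]
      exact hdF
    have htame := bg.tame N hN (litA N) (Or.inl rfl)
    obtain ⟨hcompl, -, -, hcopr, -⟩ := htame.2.2 d hdlit hCdN L hL hCdL
    have hCaN : ¬ Subgroup.centralizer ({a} : Set G) ≤ N := by
      intro h
      apply hk1
      have hkC : k ∈ Subgroup.centralizer ({a} : Set G) := mem_centralizer_singleton hka.symm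
      have : k ∈ fittingHallOf L ⊓ (N ⊓ L) := ⟨hkH, h hkC, hHL hkH⟩
      rw [hcompl.2.2.1, Subgroup.mem_bot] at this
      exact this
    have hex := (htame.2.1 a haA hCaN).2
    have huniq' : ∀ L' : Subgroup G, IsCoatom L' →
        Subgroup.centralizer ({a} : Set G) ≤ L' → L' = L := by
      intro L' hL' hCL'
      exact hex.unique ⟨hL', hCL'⟩ ⟨hL, hCaL⟩
    refine ⟨hCaL (mem_centralizer_singleton rfl), ?_, hCaN, hCaL, huniq', ?_, ?_⟩
    · intro haH
      exact hdH ((fittingHallOf L).pow_mem haH _)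
    · have hcond : ¬ Subgroup.centralizer ({a} : Set G) ≤ N ∧
          ∃! L' : Subgroup G, IsCoatom L' ∧ Subgroup.centralizer ({a} : Set G) ≤ L' :=
        ⟨hCaN, hex⟩
      unfold supportR
      rw [dif_pos hcond]
      have hch : Classical.choose hcond.2.exists = L :=
        huniq' _ (Classical.choose_spec hcond.2.exists).1 (Classical.choose_spec hcond.2.exists).2
      rw [hch]
    · exact Nat.Coprime.coprime_dvd_right hda (hcopr a haA)
  · -- `d` is a power of `u`: impossible
    exfalso
    set d := u ^ (orderOf u / s) with hd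
    have hds : orderOf d = s := orderOf_pow_orderOf_div (orderOf_pos u).ne' hsu
    have hdn : ∃ n : ℤ, (a * u) ^ n = d := by
      refine ⟨j * (orderOf u / s : ℕ), ?_⟩
      rw [zpow_mul, hj, zpow_natCast]
    obtain ⟨hd1, hdH, hCdL, huniq⟩ := key d hds hdn
    by_cases hcond : ¬ Subgroup.centralizer ({a} : Set G) ≤ N ∧
        ∃! L' : Subgroup G, IsCoatom L' ∧ Subgroup.centralizer ({a} : Set G) ≤ L'
    · have hsupp : supportR N a = fittingHallOf (Classical.choose hcond.2.exists) ⊓
          Subgroup.centralizer ({a} : Set G) := by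
        unfold supportR
        rw [dif_pos hcond]
      set Ls := Classical.choose hcond.2.exists with hLs
      obtain ⟨hLsC, hCaLs⟩ := Classical.choose_spec hcond.2.exists
      rw [hsupp] at hu
      have hdHs : d ∈ fittingHallOf Ls := (fittingHallOf Ls).pow_mem hu.1 _
      have hHsLs : fittingHallOf Ls ≤ Ls := Cfsg.Agent.Lib.Helper26.PFEight.fittingHallOf_le Ls
      have hdlit : d ∈ litA Ls := by
        rw [hlit Ls hLsC]
        exact ⟨hHsLs hdHs, hd1, d, hdHs, hd1, rfl⟩
      by_cases hCdLs : Subgroup.centralizer ({d} : Set G) ≤ Ls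
      · have : Ls = L := huniq Ls hLsC hCdLs
        apply hdH
        rw [← this]
        exact hdHs
      · obtain ⟨hcompl, -⟩ := (bg.tame Ls hLsC (litA Ls) (Or.inl rfl)).2.2 d hdlit hCdLs L hL hCdL
        apply hk1
        have hkC : k ∈ Subgroup.centralizer ({a} : Set G) := mem_centralizer_singleton hka.symm
        have : k ∈ fittingHallOf L ⊓ (Ls ⊓ L) := ⟨hkH, hCaLs hkC, hHL hkH⟩
        rw [hcompl.2.2.1, Subgroup.mem_bot] at this
        exact this
    · have hsupp : supportR N a = ⊥ := by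
        unfold supportR
        rw [dif_neg hcond]
      rw [hsupp, Subgroup.mem_bot] at hu
      apply hd1
      rw [hd, hu, one_pow]

end main

end Cfsg.Agent.Lib.Helper67.PF124BGLem
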