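import Mathlib

/-!
# Module [NT] for S2362 (helper40): the product of `μ² - 1` over a Frobenius orbit of a primitive
`r`-th root of unity is a nonsquare (its `(q-1)/2`-th power is `-1`).
-/

set_option autoImplicit false
set_option linter.unusedVariables false
set_option linter.style.haveILetI false

namespace Cfsg.Agent.Lib.Helper67.S2362NT

open Finset

/-- geometric sum in `ℕ` without subtraction -/
theorem geom_nat (k n : ℕ) : (∑ i ∈ range n, (k + 1) ^ i) * k + 1 = (k + 1) ^ n := by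
  induction n with
  | zero => simp
  | succ n ih =>
    rw [sum_range_succ, add_mul, pow_succ]
    have : (∑ i ∈ range n, (k + 1) ^ i) * k + (k + 1) ^ n * k + 1 =
        ((∑ i ∈ range n, (k + 1) ^ i) * k + 1) + (k + 1) ^ n * k := by ring
    rw [this, ih]
    ring

section field

variable {K : Type*} [Field K]

/-- the multiset product over `range n` as a power -/
theorem prod_map_range_pow (β : K) (q n : ℕ) :
    ((Multiset.range n).map (fun i => β ^ (q ^ i))).prod = β ^ (∑ i ∈ range n, q ^ i) := by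
  rw [← Finset.prod_pow_eq_pow_sum]
  rfl

variable (p : ℕ) [Fact p.Prime] [CharP K p]

theorem sub_pow_q (a i : ℕ) (x y : K) :
    (x - y) ^ ((p ^ a) ^ i) = x ^ ((p ^ a) ^ i) - y ^ ((p ^ a) ^ i) := by
  rw [← pow_mul]
  exact sub_pow_char_pow x y (a * i)

/-- `(lam^(q^i))² - 1 = (lam² - 1)^(q^i)` -/
theorem sq_sub_one_pow (a i : ℕ) (lam : K) :
    (lam ^ ((p ^ a) ^ i)) ^ 2 - 1 = (lam ^ 2 - 1) ^ ((p ^ a) ^ i) := by
  rw [sub_pow_q p a i, one_pow, pow_right_comm]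

omit [Fact p.Prime] [CharP K p] in
theorem root_facts (r : ℕ) (hr : r.Prime) (hr2 : r ≠ 2) (lam : K) (hlam : lam ^ r = 1)
    (hlam1 : lam ≠ 1) : lam ≠ 0 ∧ lam - lam⁻¹ ≠ 0 ∧ lam ^ 2 - 1 = lam * (lam - lam⁻¹) := by
  have h0 : lam ≠ 0 := by
    intro h
    rw [h, zero_pow hr.ne_zero] at hlam
    exact zero_ne_one hlam
  refine ⟨h0, ?_, ?_⟩
  · intro h
    have h1 : lam = lam⁻¹ := sub_eq_zero.1 h
    have h2 : lam ^ 2 = 1 := by
      rw [pow_two]
      nth_rw 2 [h1]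
      exact mul_inv_cancel₀ h0
    obtain ⟨k, hk⟩ := hr.odd_of_ne_two hr2
    rw [hk, pow_succ, pow_mul, h2, one_pow, one_mul] at hlam
    exact hlam1 hlam
  · rw [mul_sub, mul_inv_cancel₀ h0, pow_two]

theorem prod_orbit_pow_eq_neg_one_A (hp2 : p ≠ 2) (a : ℕ)
    (ha : 1 ≤ a) (m r : ℕ) (hm : 1 ≤ m) (hr : r.Prime) (hr2 : r ≠ 2)
    (hord : orderOf ((p ^ a : ℕ) : ZMod r) = 2 * m) (hqm : (p ^ a) ^ m % 4 = 1)
    (lam : K) (hlam : lam ^ r = 1) (hlam1 : lam ≠ 1) :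
    (((Multiset.range (2 * m)).map (fun i => lam ^ ((p ^ a) ^ i))).map
      (fun μ => μ ^ 2 - 1)).prod ^ ((p ^ a - 1) / 2) = -1 := by
  have hpr : p.Prime := Fact.out
  haveI : Fact r.Prime := ⟨hr⟩
  obtain ⟨h0, hδ0, hβ⟩ := root_facts r hr hr2 lam hlam hlam1
  -- `q` is odd
  have hqodd : Odd (p ^ a) := (hpr.odd_of_ne_two hp2).pow
  obtain ⟨k, hk⟩ := hqodd
  -- `q^m = 2t+1`
  have hqmodd : Odd ((p ^ a) ^ m) := (hpr.odd_of_ne_two hp2).pow.pow
  obtain ⟨t, ht⟩ := hqmodd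
  have hteven : Even t := by
    rw [ht] at hqm
    rw [Nat.even_iff]
    omega
  -- rewrite the product
  rw [Multiset.map_map]
  have hfun : ((fun μ : K => μ ^ 2 - 1) ∘ fun i => lam ^ ((p ^ a) ^ i)) =
      fun i => (lam ^ 2 - 1) ^ ((p ^ a) ^ i) := by
    funext i
    exact sq_sub_one_pow p a i lam
  rw [hfun, prod_map_range_pow, ← pow_mul]
  -- the exponent
  have hE : (∑ i ∈ range (2 * m), (p ^ a) ^ i) * ((p ^ a - 1) / 2) = (2 * t + 2) * t := by
    have hg := geom_nat (2 * k) (2 * m)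
    rw [← hk, pow_mul', ht] at hg
    have hk' : (p ^ a - 1) / 2 = k := by omega
    rw [hk']
    have : (∑ i ∈ range (2 * m), (p ^ a) ^ i) * k * 2 = ((2 * t + 2) * t) * 2 := by
      have e1 : (∑ i ∈ range (2 * m), (p ^ a) ^ i) * (2 * k) =
          (∑ i ∈ range (2 * m), (p ^ a) ^ i) * k * 2 := by ring
      have e2 : (2 * t + 1) ^ 2 = ((2 * t + 2) * t) * 2 + 1 := by ring
      rw [e1, e2] at hg
      omega
    exact Nat.eq_of_mul_eq_mul_right (by norm_num) this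
  rw [hE]
  -- `r ∣ q^m + 1`
  have hpow2 : (((p ^ a : ℕ) : ZMod r) ^ m) ^ 2 = 1 := by
    rw [← pow_mul, mul_comm, ← hord]
    exact pow_orderOf_eq_one _
  have hne1 : ((p ^ a : ℕ) : ZMod r) ^ m ≠ 1 := by
    apply pow_ne_one_of_lt_orderOf (by omega)
    rw [hord]
    omega
  have hneg : ((p ^ a : ℕ) : ZMod r) ^ m = -1 := by
    rcases sq_eq_one_iff.1 hpow2 with h | h
    · exact absurd h hne1
    · exact h
  have hdvd : r ∣ (p ^ a) ^ m + 1 := by
    rw [← ZMod.natCast_eq_zero_iff]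
    push_cast
    rw [← Nat.cast_pow, hneg]
    ring
  have hlamq1 : lam ^ ((p ^ a) ^ m + 1) = 1 := by
    obtain ⟨c, hc⟩ := hdvd
    rw [hc, pow_mul, hlam, one_pow]
  have hlamq : lam ^ ((p ^ a) ^ m) = lam⁻¹ := by
    rw [pow_succ] at hlamq1
    exact eq_inv_of_mul_eq_one_left hlamq1
  -- `δ^(q^m) = -δ`
  have hδq : (lam - lam⁻¹) ^ ((p ^ a) ^ m) = -(lam - lam⁻¹) := by
    rw [sub_pow_q p a m, inv_pow, hlamq, inv_inv]
    ring
  have hδ : (lam - lam⁻¹) ^ (2 * t) = -1 := by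
    have h2t : (p ^ a) ^ m = 2 * t + 1 := ht
    rw [h2t, pow_succ] at hδq
    have : (lam - lam⁻¹) ^ (2 * t) * (lam - lam⁻¹) = (-1) * (lam - lam⁻¹) := by
      rw [hδq]; ring
    exact mul_right_cancel₀ hδ0 this
  have hlam2 : lam ^ (2 * t + 2) = 1 := by
    have h2t : (p ^ a) ^ m = 2 * t + 1 := ht
    rw [h2t] at hlamq1
    exact hlamq1
  rw [hβ, mul_pow, pow_mul, hlam2, one_pow, one_mul]
  have : (2 * t + 2) * t = (2 * t) * (t + 1) := by ring
  rw [this, pow_mul, hδ]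
  exact Odd.neg_one_pow (Even.add_one hteven)

theorem prod_orbit_pow_eq_neg_one_B (hp2 : p ≠ 2) (a : ℕ)
    (ha : 1 ≤ a) (m r : ℕ) (hm : 1 ≤ m) (hr : r.Prime) (hr2 : r ≠ 2)
    (hord : orderOf ((p ^ a : ℕ) : ZMod r) = m) (hqm : (p ^ a) ^ m % 4 = 3)
    (lam : K) (hlam : lam ^ r = 1) (hlam1 : lam ≠ 1) :
    (((Multiset.range m).map (fun i => lam ^ ((p ^ a) ^ i)) +
        (Multiset.range m).map (fun i => (lam ^ ((p ^ a) ^ i))⁻¹)).map
      (fun μ => μ ^ 2 - 1)).prod ^ ((p ^ a - 1) / 2) = -1 := by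
  have hpr : p.Prime := Fact.out
  haveI : Fact r.Prime := ⟨hr⟩
  obtain ⟨h0, hδ0, hβ⟩ := root_facts r hr hr2 lam hlam hlam1
  have hqodd : Odd (p ^ a) := (hpr.odd_of_ne_two hp2).pow
  obtain ⟨k, hk⟩ := hqodd
  have hqmodd : Odd ((p ^ a) ^ m) := (hpr.odd_of_ne_two hp2).pow.pow
  obtain ⟨t, ht⟩ := hqmodd
  have htodd : Odd t := by
    rw [ht] at hqm
    rw [Nat.odd_iff]
    omega
  -- rewrite the product
  rw [Multiset.map_add, Multiset.prod_add, Multiset.map_map, Multiset.map_map]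
  have hprod : ((Multiset.range m).map ((fun μ : K => μ ^ 2 - 1) ∘
        fun i => lam ^ ((p ^ a) ^ i))).prod *
      ((Multiset.range m).map ((fun μ : K => μ ^ 2 - 1) ∘
        fun i => (lam ^ ((p ^ a) ^ i))⁻¹)).prod =
      (-(lam - lam⁻¹) ^ 2) ^ (∑ i ∈ range m, (p ^ a) ^ i) := by
    rw [← prod_map_range_pow]
    have e1 : ∀ f : ℕ → K, ((Multiset.range m).map f).prod = ∏ i ∈ range m, f i :=
      fun f => rfl
    rw [e1, e1, e1, ← Finset.prod_mul_distrib]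
    apply Finset.prod_congr rfl
    intro i _
    have hμ0 : lam ^ ((p ^ a) ^ i) ≠ 0 := pow_ne_zero _ h0
    have hδi : (lam - lam⁻¹) ^ ((p ^ a) ^ i) =
        lam ^ ((p ^ a) ^ i) - (lam ^ ((p ^ a) ^ i))⁻¹ := by
      rw [sub_pow_q p a i, inv_pow]
    have hoddi : Odd ((p ^ a) ^ i) := (hpr.odd_of_ne_two hp2).pow.pow
    rw [neg_pow, hoddi.neg_one_pow, pow_right_comm, hδi]
    simp only [Function.comp]
    field_simp
    ring
  rw [hprod, ← pow_mul]
  have hE : (∑ i ∈ range m, (p ^ a) ^ i) * ((p ^ a - 1) / 2) = t := by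
    have hg := geom_nat (2 * k) m
    rw [← hk, ht] at hg
    have hk' : (p ^ a - 1) / 2 = k := by omega
    rw [hk']
    have e1 : (∑ i ∈ range m, (p ^ a) ^ i) * (2 * k) =
        (∑ i ∈ range m, (p ^ a) ^ i) * k * 2 := by ring
    rw [e1] at hg
    omega
  rw [hE]
  -- `r ∣ q^m - 1`
  have hpow1 : ((p ^ a : ℕ) : ZMod r) ^ m = 1 := by
    rw [← hord]
    exact pow_orderOf_eq_one _
  have hdvd : r ∣ 2 * t := by
    rw [← ZMod.natCast_eq_zero_iff]
    have h1 : (((p ^ a) ^ m : ℕ) : ZMod r) = 1 := by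
      rw [Nat.cast_pow]
      exact hpow1
    rw [ht] at h1
    push_cast at h1
    push_cast
    have := sub_eq_zero.2 h1
    rw [← this]
    ring
  have hlam2t : lam ^ (2 * t) = 1 := by
    obtain ⟨c, hc⟩ := hdvd
    rw [hc, pow_mul, hlam, one_pow]
  have hlamq : lam ^ ((p ^ a) ^ m) = lam := by
    rw [ht, pow_succ, hlam2t, one_mul]
  have hδq : (lam - lam⁻¹) ^ ((p ^ a) ^ m) = lam - lam⁻¹ := by
    rw [sub_pow_q p a m, inv_pow, hlamq]
  have hδ : (lam - lam⁻¹) ^ (2 * t) = 1 := by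
    rw [ht, pow_succ] at hδq
    have : (lam - lam⁻¹) ^ (2 * t) * (lam - lam⁻¹) = 1 * (lam - lam⁻¹) := by
      rw [hδq, one_mul]
    exact mul_right_cancel₀ hδ0 this
  rw [neg_pow, ← pow_mul, hδ, mul_one]
  exact htodd.neg_one_pow

end field

end Cfsg.Agent.Lib.Helper67.S2362NT
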