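import Cfsg.Agent.Lib.Helper44.O7.Defs

/-!
# S2647 project (helper44), module [CENTER]

Every element of `S0 = 2^6 : D8` has order dividing `8`; a nontrivial normal subgroup of `S0`
contains a nontrivial diagonal element.
-/

set_option autoImplicit false
set_option linter.unusedVariables false
set_option linter.unusedSectionVars false
set_option linter.style.haveILetI false

namespace Cfsg.Agent.Lib.Helper67.O7Center

open Matrix Cfsg.Agent.Lib.Helper44 Cfsg.Agent.Lib.Helper44.O7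

variable {F : Type*} [Field F]

theorem mon_pow (c : F) (ε : Fin 7 → ℤˣ) (σ : Equiv.Perm (Fin 7)) (n : ℕ) :
    ∃ ε' : Fin 7 → ℤˣ, (mon c ε σ) ^ n = mon c ε' (σ ^ n) := by
  induction n with
  | zero => exact ⟨1, by rw [pow_zero, pow_zero, mon_one]⟩
  | succ n ih =>
    obtain ⟨ε', h⟩ := ih
    exact ⟨fun k => ε' k * ε ((σ ^ n)⁻¹ k), by rw [pow_succ, h, mon_mul, pow_succ]⟩

theorem mon_diag_sq (c : F) (ε : Fin 7 → ℤˣ) : (mon c ε 1) ^ 2 = 1 := by
  rw [pow_two, mon_mul, ← mon_one c]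
  congr 1
  · funext k
    rw [inv_one, Equiv.Perm.one_apply, Pi.one_apply]
    exact units_int_mul_self (ε k)

/-- every element of `S0` has order dividing `8`. -/
theorem pow_eight_of_mem_S0 (c : F) (g : ↥(OG c)) (hg : g ∈ S0 c) : g ^ 8 = 1 := by
  obtain ⟨ε, hε, σ, hσ, rfl⟩ := hg
  obtain ⟨ε', h⟩ := mon_pow c ε σ 4
  rw [pow_four_of_mem_d8 hσ] at h
  have : (mon c ε σ) ^ 8 = ((mon c ε σ) ^ 4) ^ 2 := by rw [← pow_mul]
  rw [this, h, mon_diag_sq]

theorem exists_third : ∀ i j : Fin 7, ∃ l : Fin 7, l ≠ i ∧ l ≠ j := by decide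

/-- the sign vector with `-1` exactly at `i` and `l` -/
def twoSign (i l : Fin 7) : Fin 7 → ℤˣ := fun k => if k = i ∨ k = l then -1 else 1

theorem twoSign_mem : ∀ i l : Fin 7, i ≠ l → twoSign i l ∈ evenSign := by
  intro i l hil
  rw [mem_evenSign]
  revert i l
  unfold twoSign
  decide

/-- a nontrivial normal subgroup of the 2-group `S0` contains a nontrivial diagonal element. -/
theorem exists_diag_of_normal (h2 : (2 : F) ≠ 0) (c : F) (T : Subgroup ↥(OG c)) (hT : T ≤ S0 c)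
    (hne : T ≠ ⊥) (hnorm : ∀ s ∈ S0 c, ∀ x ∈ T, s * x * s⁻¹ ∈ T) :
    ∃ ε ∈ evenSign, ε ≠ 1 ∧ mon c ε 1 ∈ T := by
  classical
  have : Fact (Nat.Prime 2) := ⟨Nat.prime_two⟩
  have hfin : ((S0 c : Subgroup ↥(OG c)) : Set ↥(OG c)).Finite := by
    apply Set.Finite.subset ((Set.finite_univ
      (α := (Fin 7 → ℤˣ) × Equiv.Perm (Fin 7))).image (fun p => mon c p.1 p.2))
    rintro g ⟨ε, hε, σ, hσ, rfl⟩
    exact ⟨(ε, σ), Set.mem_univ _, rfl⟩
  have : Finite ↥(S0 c) := hfin.to_subtype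
  have : Finite ↥T := (hfin.subset hT).to_subtype
  have hS2 : IsPGroup 2 ↥(S0 c) := by
    intro g
    refine ⟨3, ?_⟩
    apply Subtype.ext
    rw [Subgroup.coe_pow, Subgroup.coe_one]
    exact pow_eight_of_mem_S0 c g.1 g.2
  have hT2 : IsPGroup 2 ↥T := by
    intro g
    refine ⟨3, ?_⟩
    apply Subtype.ext
    rw [Subgroup.coe_pow, Subgroup.coe_one]
    exact pow_eight_of_mem_S0 c g.1 (hT g.2)
  -- the conjugation action of `S0` on `T`
  letI act : MulAction ↥(S0 c) ↥T :=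
    { smul := fun s x => ⟨(s : ↥(OG c)) * x * (s : ↥(OG c))⁻¹, hnorm s.1 s.2 x.1 x.2⟩
      one_smul := by
        intro x
        apply Subtype.ext
        show ((1 : ↥(S0 c)) : ↥(OG c)) * x * ((1 : ↥(S0 c)) : ↥(OG c))⁻¹ = x
        rw [Subgroup.coe_one, one_mul, inv_one, mul_one]
      mul_smul := by
        intro s s' x
        apply Subtype.ext
        show ((s * s' : ↥(S0 c)) : ↥(OG c)) * x * ((s * s' : ↥(S0 c)) : ↥(OG c))⁻¹ =
          (s : ↥(OG c)) * ((s' : ↥(OG c)) * x * (s' : ↥(OG c))⁻¹) * (s : ↥(OG c))⁻¹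
        rw [Subgroup.coe_mul]
        group }
  have hsmul : ∀ (s : ↥(S0 c)) (x : ↥T), ((s • x : ↥T) : ↥(OG c)) =
      (s : ↥(OG c)) * x * (s : ↥(OG c))⁻¹ := fun s x => rfl
  -- `2 ∣ |T|`
  have hcard : 2 ∣ Nat.card ↥T := by
    obtain ⟨n, hn⟩ := IsPGroup.iff_card.mp hT2
    rcases Nat.eq_zero_or_pos n with h0 | hpos
    · exfalso
      rw [h0, pow_zero] at hn
      apply hne
      exact Subgroup.card_eq_one.mp hn
    · rw [hn]
      exact dvd_pow_self 2 hpos.ne'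
  have h1fix : (1 : ↥T) ∈ MulAction.fixedPoints ↥(S0 c) ↥T := by
    intro s
    apply Subtype.ext
    rw [hsmul, Subgroup.coe_one, mul_one, mul_inv_cancel]
  obtain ⟨b, hbfix, hb1⟩ :=
    hS2.exists_fixed_point_of_prime_dvd_card_of_fixed_point ↥T hcard h1fix
  have hbcomm : ∀ s ∈ S0 c, s * (b : ↥(OG c)) * s⁻¹ = b := by
    intro s hs
    have := hbfix ⟨s, hs⟩
    have h3 := congrArg (fun x : ↥T => (x : ↥(OG c))) this
    simp only [hsmul] at h3
    exact h3
  obtain ⟨ε, hε, σ, hσ, hb⟩ := hT b.2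
  -- `σ = 1`
  have hσ1 : σ = 1 := by
    by_contra hσne
    have : ∃ i, σ⁻¹ i ≠ i := by
      by_contra hall
      have hall' : ∀ i, σ⁻¹ i = i := fun i => by
        by_contra h
        exact hall ⟨i, h⟩
      apply hσne
      have : σ⁻¹ = 1 := Equiv.ext hall'
      rw [← inv_inv σ, this, inv_one]
    obtain ⟨i, hi⟩ := this
    obtain ⟨l, hli, hlj⟩ := exists_third i (σ⁻¹ i)
    have hmem := twoSign_mem i l (Ne.symm hli)
    have hs : mon c (twoSign i l) 1 ∈ S0 c := E0_le_S0 c ⟨_, hmem, rfl⟩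
    have h4 := hbcomm _ hs
    -- `s b s⁻¹ = b` gives `b s b⁻¹ = s`
    have h5 : (b : ↥(OG c)) * mon c (twoSign i l) 1 * (b : ↥(OG c))⁻¹ = mon c (twoSign i l) 1 := by
      have : (b : ↥(OG c)) = mon c (twoSign i l) 1 * b * (mon c (twoSign i l) 1)⁻¹ := h4.symm
      calc (b : ↥(OG c)) * mon c (twoSign i l) 1 * (b : ↥(OG c))⁻¹
          = (mon c (twoSign i l) 1 * b * (mon c (twoSign i l) 1)⁻¹) * mon c (twoSign i l) 1 *
              (b : ↥(OG c))⁻¹ := by rw [← this]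
        _ = mon c (twoSign i l) 1 := by group
    rw [hb, mon_conj_diag] at h5
    have h6 := (mon_injective h2 c h5).1
    have h7 : twoSign i l (σ⁻¹ i) = twoSign i l i := congrFun h6 i
    have e1 : twoSign i l (σ⁻¹ i) = 1 := if_neg (fun h => h.elim hi (fun h' => hlj h'.symm))
    have e2 : twoSign i l i = -1 := if_pos (Or.inl rfl)
    rw [e1, e2] at h7
    exact absurd h7 (by decide)
  subst hσ1
  refine ⟨ε, hε, ?_, ?_⟩
  · intro hε1
    apply hb1
    apply Subtype.ext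
    rw [Subgroup.coe_one, hb, hε1, mon_one]
  · rw [← hb]
    exact b.2

end Cfsg.Agent.Lib.Helper67.O7Center
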