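import Mathlib
import Cfsg.Prelude.Def_FusionSystem

/-!
# S2647 project (helper44), module [TRANSPORT]

Transport of "self-normalizing" and "no strongly closed subgroups" from a 2-subgroup `S0` of an
isomorphic copy `H` to every Sylow 2-subgroup of `G`.
-/

set_option autoImplicit false
set_option linter.unusedVariables false

namespace Cfsg.Agent.Lib.Helper67.O7Transport

theorem sylow_transport {G H : Type*} [Group G] [Group H] [Finite G] (e : G ≃* H) (S0 : Subgroup H)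
    (hp : ∀ s ∈ S0, ∃ k : ℕ, s ^ 2 ^ k = 1)
    (hN : ∀ g : H, (∀ x, x ∈ S0 ↔ g * x * g⁻¹ ∈ S0) → g ∈ S0)
    (hSC : ∀ T : Subgroup H, T ≤ S0 → (∀ x ∈ T, ∀ g : H, g * x * g⁻¹ ∈ S0 → g * x * g⁻¹ ∈ T) →
      T = ⊥ ∨ T = S0)
    (S : Sylow 2 G) :
    Subgroup.normalizer ((S : Subgroup G) : Set G) = (S : Subgroup G) ∧
      ∀ T : Subgroup G, (Cfsg.groupFusionSystem (S : Subgroup G)).StronglyClosed T →
        T = ⊥ ∨ T = (S : Subgroup G) := by
  classical
  have : Fact (Nat.Prime 2) := ⟨Nat.prime_two⟩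
  -- the copy of `S0` in `G`
  set P : Subgroup G := S0.comap e.toMonoidHom with hPdef
  have hmemP : ∀ x : G, x ∈ P ↔ e x ∈ S0 := fun x => Iff.rfl
  have hP2 : IsPGroup 2 P := by
    intro x
    obtain ⟨k, hk⟩ := hp (e x) ((hmemP x).1 x.2)
    refine ⟨k, ?_⟩
    apply Subtype.ext
    apply e.injective
    rw [Subgroup.coe_pow, map_pow, hk, Subgroup.coe_one, map_one]
  -- `P` is self-normalizing
  have hNP : ∀ g : G, (∀ x, x ∈ P ↔ g * x * g⁻¹ ∈ P) → g ∈ P := by
    intro g hg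
    rw [hmemP]
    apply hN
    intro y
    obtain ⟨x, rfl⟩ := e.surjective y
    have := hg x
    rw [hmemP, hmemP, map_mul, map_mul, map_inv] at this
    exact this
  have hnorm : Subgroup.normalizer (P : Set G) = P := by
    apply le_antisymm
    · intro g hg
      rw [Subgroup.mem_normalizer_iff] at hg
      exact hNP g hg
    · exact Subgroup.le_normalizer
  -- `P` has odd index
  obtain ⟨n, hn⟩ := IsPGroup.iff_card.mp hP2
  have hmod := Sylow.card_quotient_normalizer_modEq_card_quotient (p := 2) hn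
  have htop : P.comap (Subgroup.normalizer (P : Set G)).subtype = ⊤ := by
    rw [eq_top_iff]
    intro x _
    rw [Subgroup.mem_comap]
    exact hnorm.le x.2
  have hone : Nat.card (↥(Subgroup.normalizer (P : Set G)) ⧸
      P.comap (Subgroup.normalizer (P : Set G)).subtype) = 1 := by
    rw [htop]
    have := Subgroup.index_top (G := ↥(Subgroup.normalizer (P : Set G)))
    rw [Subgroup.index_eq_card] at this
    exact this
  rw [hone] at hmod
  have hidx : ¬ 2 ∣ P.index := by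
    rw [Subgroup.index_eq_card]
    intro hdvd
    have h0 : Nat.card (G ⧸ P) % 2 = 0 := Nat.mod_eq_zero_of_dvd hdvd
    have h1 : 1 % 2 = Nat.card (G ⧸ P) % 2 := hmod
    omega
  -- `S` is a conjugate of `P`
  obtain ⟨k, hk⟩ := MulAction.exists_smul_eq G (hP2.toSylow hidx) S
  have hS : ∀ x : G, x ∈ (S : Subgroup G) ↔ k⁻¹ * x * k ∈ P := by
    intro x
    rw [← hk, Sylow.coe_subgroup_smul, Subgroup.mem_pointwise_smul_iff_inv_smul_mem]
    rw [IsPGroup.toSylow_coe]
    have : (MulAut.conj k)⁻¹ • x = k⁻¹ * x * k := by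
      rw [← map_inv, MulAut.smul_def, MulAut.conj_apply, inv_inv]
    rw [this]
  have hnormS : Subgroup.normalizer ((S : Subgroup G) : Set G) = (S : Subgroup G) := by
    apply le_antisymm
    · intro g hg
      rw [Subgroup.mem_normalizer_iff] at hg
      rw [hS]
      apply hNP
      intro x
      have h1 := hg (k * x * k⁻¹)
      rw [hS, hS] at h1
      have e1 : k⁻¹ * (k * x * k⁻¹) * k = x := by group
      have e2 : k⁻¹ * (g * (k * x * k⁻¹) * g⁻¹) * k = k⁻¹ * g * k * x * (k⁻¹ * g * k)⁻¹ := by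
        group
      rw [e1, e2] at h1
      exact h1
    · exact Subgroup.le_normalizer
  refine ⟨hnormS, ?_⟩
  intro T hT
  obtain ⟨hTS, hTcl⟩ := hT
  -- strong closure in elementary form
  have hcl : ∀ t ∈ T, ∀ c : G, c * t * c⁻¹ ∈ (S : Subgroup G) → c * t * c⁻¹ ∈ T := by
    intro t ht c hc
    have hle : Subgroup.zpowers t ≤ T := by
      rw [Subgroup.zpowers_le]
      exact ht
    have hφ : Cfsg.conjHom (Subgroup.zpowers t) c ∈
        (Cfsg.groupFusionSystem (S : Subgroup G)).Hom (Subgroup.zpowers t) := by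
      refine ⟨hle.trans hTS, ?_, c, fun x => rfl⟩
      intro x
      obtain ⟨i, hi⟩ := Subgroup.mem_zpowers_iff.1 x.2
      show c * (x : G) * c⁻¹ ∈ (S : Subgroup G)
      rw [← hi]
      have : c * t ^ i * c⁻¹ = (c * t * c⁻¹) ^ i := by
        rw [conj_zpow]
      rw [this]
      exact (S : Subgroup G).zpow_mem hc i
    have := hTcl (Subgroup.zpowers t) hle _ hφ ⟨t, Subgroup.mem_zpowers t⟩
    exact this
  -- the image of `T` in `H`
  set T' : Subgroup H := (T.map (MulAut.conj k⁻¹).toMonoidHom).map e.toMonoidHom with hT'def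
  have hmemT' : ∀ y : H, y ∈ T' ↔ ∃ t ∈ T, e (k⁻¹ * t * k) = y := by
    intro y
    constructor
    · rintro ⟨z, ⟨t, ht, rfl⟩, rfl⟩
      refine ⟨t, ht, ?_⟩
      show e (k⁻¹ * t * k) = e ((MulAut.conj k⁻¹) t)
      rw [MulAut.conj_apply, inv_inv]
    · rintro ⟨t, ht, rfl⟩
      refine ⟨k⁻¹ * t * k, ⟨t, ht, ?_⟩, rfl⟩
      show (MulAut.conj k⁻¹) t = k⁻¹ * t * k
      rw [MulAut.conj_apply, inv_inv]
  have hT'le : T' ≤ S0 := by
    intro y hy
    obtain ⟨t, ht, rfl⟩ := (hmemT' y).1 hy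
    exact (hmemP _).1 ((hS t).1 (hTS ht))
  have hT'cl : ∀ x ∈ T', ∀ g : H, g * x * g⁻¹ ∈ S0 → g * x * g⁻¹ ∈ T' := by
    intro y hy g hg
    obtain ⟨t, ht, rfl⟩ := (hmemT' y).1 hy
    obtain ⟨g₀, rfl⟩ := e.surjective g
    have h1 : e g₀ * e (k⁻¹ * t * k) * (e g₀)⁻¹ = e (g₀ * (k⁻¹ * t * k) * g₀⁻¹) := by
      simp only [map_mul, map_inv]
    rw [h1] at hg ⊢
    have h2 : g₀ * (k⁻¹ * t * k) * g₀⁻¹ ∈ P := (hmemP _).2 hg
    have h3 : (k * g₀ * k⁻¹) * t * (k * g₀ * k⁻¹)⁻¹ ∈ (S : Subgroup G) := by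
      rw [hS]
      have : k⁻¹ * ((k * g₀ * k⁻¹) * t * (k * g₀ * k⁻¹)⁻¹) * k = g₀ * (k⁻¹ * t * k) * g₀⁻¹ := by
        group
      rw [this]
      exact h2
    have h4 := hcl t ht (k * g₀ * k⁻¹) h3
    rw [hmemT']
    refine ⟨_, h4, ?_⟩
    have e3 : k⁻¹ * ((k * g₀ * k⁻¹) * t * (k * g₀ * k⁻¹)⁻¹) * k = g₀ * (k⁻¹ * t * k) * g₀⁻¹ := by
      group
    rw [e3]
  rcases hSC T' hT'le hT'cl with hbot | htop'
  · left
    rw [eq_bot_iff]
    intro t ht
    have : e (k⁻¹ * t * k) ∈ T' := (hmemT' _).2 ⟨t, ht, rfl⟩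
    rw [hbot, Subgroup.mem_bot] at this
    have h5 : k⁻¹ * t * k = 1 := by
      apply e.injective
      rw [this, map_one]
    rw [Subgroup.mem_bot]
    have : t = k * (k⁻¹ * t * k) * k⁻¹ := by group
    rw [this, h5]
    group
  · right
    apply le_antisymm hTS
    intro s hs
    have h6 : e (k⁻¹ * s * k) ∈ S0 := (hmemP _).1 ((hS s).1 hs)
    rw [← htop'] at h6
    obtain ⟨t, ht, hts⟩ := (hmemT' _).1 h6
    have h7 : k⁻¹ * t * k = k⁻¹ * s * k := e.injective hts
    have h8 : t = s := by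
      have e1 : k * (k⁻¹ * t * k) * k⁻¹ = t := by group
      have e2 : k * (k⁻¹ * s * k) * k⁻¹ = s := by group
      rw [← e1, ← e2, h7]
    rw [← h8]
    exact ht

end Cfsg.Agent.Lib.Helper67.O7Transport
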