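import Mathlib

set_option autoImplicit false

namespace Cfsg.Agent.Lib.Helper67.ReeW2

/-- [W2-NC] `|N(<x>)| ≤ c · |C(x)|` from a bound `c` on the number of residues `j` with `x ^ j`
conjugate to `x`. -/
theorem card_normalizer_zpowers_le {G : Type*} [Group G] [Finite G] (p : ℕ) [Fact p.Prime] (x : G)
    (hx : orderOf x = p) (c : ℕ)
    (hc : Nat.card {j : ZMod p // ∃ n : G, n * x * n⁻¹ = x ^ j.val} ≤ c) :
    Nat.card ↥(Subgroup.normalizer ((Subgroup.zpowers x : Subgroup G) : Set G))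
      ≤ c * Nat.card ↥(Subgroup.centralizer ({x} : Set G)) := by
  classical
  subst hx
  have : NeZero (orderOf x) := ⟨(Fact.out : (orderOf x).Prime).ne_zero⟩
  have key : ∀ n : ↥(Subgroup.normalizer ((Subgroup.zpowers x : Subgroup G) : Set G)),
      ∃ j : ZMod (orderOf x), (n : G) * x * (n : G)⁻¹ = x ^ j.val := by
    intro n
    have hmem : (n : G) * x * (n : G)⁻¹ ∈ Subgroup.zpowers x :=
      (Subgroup.mem_normalizer_iff.mp n.2 x).mp (Subgroup.mem_zpowers x)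
    obtain ⟨k, hk⟩ := Subgroup.mem_zpowers_iff.mp hmem
    refine ⟨(k : ZMod (orderOf x)), ?_⟩
    rw [← hk, ← zpow_natCast, ZMod.val_intCast, zpow_mod_orderOf]
  choose jf hjf using key
  have hrep : ∀ j : {j : ZMod (orderOf x) // ∃ n : G, n * x * n⁻¹ = x ^ j.val},
      ∃ n : G, n * x * n⁻¹ = x ^ j.1.val := fun j => j.2
  choose r hr using hrep
  have hmemC : ∀ n : ↥(Subgroup.normalizer ((Subgroup.zpowers x : Subgroup G) : Set G)),
      (r ⟨jf n, ⟨n, hjf n⟩⟩)⁻¹ * (n : G) ∈ Subgroup.centralizer ({x} : Set G) := by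
    intro n
    rw [Subgroup.mem_centralizer_singleton_iff]
    have h1 := hr ⟨jf n, ⟨n, hjf n⟩⟩
    have h2 := hjf n
    simp only at h1
    -- r x r⁻¹ = n x n⁻¹
    have h3 : r ⟨jf n, ⟨n, hjf n⟩⟩ * x * (r ⟨jf n, ⟨n, hjf n⟩⟩)⁻¹ = (n : G) * x * (n : G)⁻¹ := by
      rw [h1, h2]
    have h4 : x * (r ⟨jf n, ⟨n, hjf n⟩⟩)⁻¹ * (n : G)
        = (r ⟨jf n, ⟨n, hjf n⟩⟩)⁻¹ * ((n : G) * x * (n : G)⁻¹) * (n : G) := by
      rw [← h3]; group
    calc (r ⟨jf n, ⟨n, hjf n⟩⟩)⁻¹ * (n : G) * x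
        = (r ⟨jf n, ⟨n, hjf n⟩⟩)⁻¹ * ((n : G) * x * (n : G)⁻¹) * (n : G) := by group
      _ = x * ((r ⟨jf n, ⟨n, hjf n⟩⟩)⁻¹ * (n : G)) := by rw [← h4]; group
  let F : ↥(Subgroup.normalizer ((Subgroup.zpowers x : Subgroup G) : Set G)) →
      {j : ZMod (orderOf x) // ∃ n : G, n * x * n⁻¹ = x ^ j.val} ×
        ↥(Subgroup.centralizer ({x} : Set G)) :=
    fun n => (⟨jf n, ⟨n, hjf n⟩⟩, ⟨(r ⟨jf n, ⟨n, hjf n⟩⟩)⁻¹ * (n : G), hmemC n⟩)
  have hF : Function.Injective F := by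
    intro n n' h
    have h1 : (⟨jf n, ⟨n, hjf n⟩⟩ : {j : ZMod (orderOf x) // ∃ n : G, n * x * n⁻¹ = x ^ j.val})
        = ⟨jf n', ⟨n', hjf n'⟩⟩ := congrArg Prod.fst h
    have h2 : (r ⟨jf n, ⟨n, hjf n⟩⟩)⁻¹ * (n : G) = (r ⟨jf n', ⟨n', hjf n'⟩⟩)⁻¹ * (n' : G) :=
      congrArg (fun z => (z.2 : G)) h
    rw [h1] at h2
    exact Subtype.ext (mul_left_cancel h2)
  have hle := Nat.card_le_card_of_injective F hF
  rw [Nat.card_prod] at hle
  exact hle.trans (Nat.mul_le_mul_right _ hc)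

end Cfsg.Agent.Lib.Helper67.ReeW2
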