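import Mathlib
import Cfsg.Prelude.Def_GeometricClasses
import Cfsg.Agent.Lib.Helper99.AschDefs
import Cfsg.Agent.Lib.Helper44.SubF1

/-!
# ASCH-[C5] (helper67, for helper99's project ASCH / S5630)
`geo_of_subfield`: a subgroup of `GL_n(F)` that is, up to scalars and a base change, written over a proper
subfield `F₀` lies in a class-5 subfield group (for an intermediate subfield `F₁ ⊇ F₀` of prime index).
-/

set_option autoImplicit false

namespace Cfsg.Agent.Lib.Helper67.AschC5

variable {F : Type*} [Field F] [Fintype F]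

/-- `{x | x ^ Q = x}` has `Q` elements when `Q - 1 ∣ |F| - 1`, `Q ≥ 2`. -/
theorem card_pow_fixed (Q : ℕ) (hQ : 2 ≤ Q) (hdvd : Q - 1 ∣ Fintype.card F - 1) :
    Nat.card {x : F // x ^ Q = x} = Q := by
  classical
  have hker : Nat.card (powMonoidHom (Q - 1) : Fˣ →* Fˣ).ker = Q - 1 := by
    rw [IsCyclic.card_powMonoidHom_ker, Nat.card_units, Nat.card_eq_fintype_card]
    exact Nat.gcd_eq_right hdvd
  have hfix : ∀ u : Fˣ, u ∈ (powMonoidHom (Q - 1) : Fˣ →* Fˣ).ker ↔ (u : F) ^ Q = (u : F) := by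
    intro u
    rw [MonoidHom.mem_ker, powMonoidHom_apply]
    constructor
    · intro h
      have h' : (u : F) ^ (Q - 1) = 1 := by
        rw [← Units.val_pow_eq_pow_val, h, Units.val_one]
      calc (u : F) ^ Q = (u : F) ^ (Q - 1 + 1) := by congr 1; omega
        _ = (u : F) := by rw [pow_succ, h', one_mul]
    · intro h
      apply Units.ext
      rw [Units.val_pow_eq_pow_val, Units.val_one]
      have : (u : F) ^ (Q - 1) * (u : F) = 1 * (u : F) := by
        rw [← pow_succ, show Q - 1 + 1 = Q by omega, h, one_mul]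
      exact mul_right_cancel₀ u.ne_zero this
  let e : {x : F // x ^ Q = x} ≃ Option ↥(powMonoidHom (Q - 1) : Fˣ →* Fˣ).ker :=
    { toFun := fun x => if h : x.1 = 0 then none else
        some ⟨Units.mk0 x.1 h, (hfix _).mpr (by simpa using x.2)⟩
      invFun := fun o => match o with
        | none => ⟨0, zero_pow (by omega)⟩
        | some u => ⟨(u.1 : F), (hfix u.1).mp u.2⟩
      left_inv := by
        intro x
        by_cases h : x.1 = 0
        · simp only [h, dite_true]
          exact Subtype.ext h.symm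
        · simp only [h, dite_false]
          rfl
      right_inv := by
        intro o
        cases o with
        | none => simp
        | some u =>
          have : ((u.1 : Fˣ) : F) ≠ 0 := u.1.ne_zero
          simp only [this, dite_false]
          congr 1
          apply Subtype.ext
          apply Units.ext
          rfl }
  rw [Nat.card_congr e, Finite.card_option, hker]
  omega

/-- a proper subfield lies in a subfield of prime index -/
theorem exists_prime_index_overfield (F₀ : Subfield F) (hF₀ : F₀ ≠ ⊤) :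
    ∃ (F₁ : Subfield F) (r : ℕ), F₀ ≤ F₁ ∧ r.Prime ∧ Fintype.card F = Nat.card F₁ ^ r := by
  classical
  haveI : Fintype F₀ := Fintype.ofFinite F₀
  set q₀ := Fintype.card F₀ with hq₀
  set m := Module.finrank F₀ F with hm
  have hcardF : Fintype.card F = q₀ ^ m := Module.card_eq_pow_finrank (K := F₀) (V := F)
  have hq₀2 : 2 ≤ q₀ := Fintype.one_lt_card
  have hF1 : 1 < Fintype.card F := Fintype.one_lt_card
  have hm0 : m ≠ 0 := by
    intro h0
    rw [h0, pow_zero] at hcardF
    omega
  have hm1 : m ≠ 1 := by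
    intro h1
    rw [h1, pow_one] at hcardF
    apply hF₀
    have hbij : Function.Bijective (F₀.subtype : F₀ → F) :=
      (Fintype.bijective_iff_injective_and_card _).mpr ⟨Subtype.val_injective, hcardF.symm⟩
    rw [eq_top_iff]
    intro x _
    obtain ⟨y, hy⟩ := hbij.2 x
    rw [← hy]
    exact y.2
  set r := m.minFac with hr
  have hrp : r.Prime := Nat.minFac_prime hm1
  obtain ⟨k, hk⟩ : r ∣ m := Nat.minFac_dvd m
  have hk0 : k ≠ 0 := by
    rintro rfl
    rw [mul_zero] at hk
    exact hm0 hk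
  -- the characteristic
  obtain ⟨p, hchar⟩ := CharP.exists F
  have hp : p.Prime := CharP.char_is_prime F p
  haveI := Fact.mk hp
  obtain ⟨e, _, hcard⟩ := FiniteField.card F p
  obtain ⟨a, _, ha⟩ : ∃ a, a ≤ (e : ℕ) ∧ q₀ = p ^ a := by
    apply (Nat.dvd_prime_pow hp).mp
    rw [← hcard, hcardF]
    exact dvd_pow_self q₀ hm0
  set Q := q₀ ^ k with hQ
  have hQp : p ^ (a * k) = Q := by rw [hQ, ha, pow_mul]
  have hQ2 : 2 ≤ Q := by
    calc 2 ≤ q₀ := hq₀2
      _ = q₀ ^ 1 := (pow_one _).symm
      _ ≤ q₀ ^ k := Nat.pow_le_pow_right (by omega) (by omega)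
  have hcardFQ : Fintype.card F = Q ^ r := by
    rw [hcardF, hk, hQ, ← pow_mul, mul_comm]
  refine ⟨(iterateFrobenius F p (a * k)).eqLocusField (RingHom.id F), r, ?_, hrp, ?_⟩
  · intro x hx
    rw [RingHom.mem_eqLocusField, iterateFrobenius_def, hQp, hQ]
    have h := FiniteField.pow_card_pow k (⟨x, hx⟩ : F₀)
    have h' := congrArg (fun y : F₀ => (y : F)) h
    simpa using h'
  · have hc : Nat.card ↥((iterateFrobenius F p (a * k)).eqLocusField (RingHom.id F)) = Q := by
      rw [← card_pow_fixed (F := F) Q hQ2 (by rw [hcardFQ]; exact Nat.sub_one_dvd_pow_sub_one Q r)]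
      apply Nat.card_congr
      exact Equiv.subtypeEquivRight (fun x => by
        rw [RingHom.mem_eqLocusField, iterateFrobenius_def, hQp]; rfl)
    rw [hc, hcardFQ]

end Cfsg.Agent.Lib.Helper67.AschC5

/- helper67 18:10Z: hedge copy of ASCH-[C5]; the official provider is Lib/Helper84/AschC5.lean (same theorem name there),
so this copy lives in helper67's own namespace to avoid a duplicate-name collision inside statement closures. -/
namespace Cfsg.Agent.Lib.Helper67.AschC5Hedge

open Cfsg Cfsg.Geo Cfsg.Agent.Lib.Helper99.Asch Cfsg.Agent.Lib.Helper67.AschC5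
open scoped MatrixGroups Matrix

variable {n : ℕ} {F : Type*} [Field F] [Fintype F]

theorem geo_of_subfield (H : Subgroup (GL (Fin n) F)) (F₀ : Subfield F) (hF₀ : F₀ ≠ ⊤)
    (B : GL (Fin n) F)
    (hH : ∀ h ∈ H, ∃ c : Fˣ, ∀ i j,
      ((c : F) • ((B * h * B⁻¹ : GL (Fin n) F) : Matrix (Fin n) (Fin n) F)) i j ∈ F₀) :
    Geo H := by
  obtain ⟨F₁, r, hle, hr, hcard⟩ := exists_prime_index_overfield F₀ hF₀
  refine ⟨subfieldSubgroup F₁ B⁻¹, ?_, ?_⟩
  · exact Or.inr (Or.inr (Or.inr (Or.inr (Or.inr (Or.inr (Or.inl ⟨F₁, r, B⁻¹, hr, hcard, rfl⟩))))))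
  · intro h hh
    obtain ⟨c, hc⟩ := hH h hh
    have hmem : B * h * B⁻¹ ∈ Cfsg.Agent.Lib.Helper44.SubF.NGrp (ι := Fin n) F₁ :=
      (Cfsg.Agent.Lib.Helper44.SubF.mem_NGrp_iff _).mpr ⟨c, fun i j => hle (hc i j)⟩
    refine Subgroup.mem_map.mpr ⟨B * h * B⁻¹, hmem, ?_⟩
    show B⁻¹ * (B * h * B⁻¹) * (B⁻¹)⁻¹ = h
    group

end Cfsg.Agent.Lib.Helper67.AschC5Hedge
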