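import Mathlib
import Cfsg.Agent.S4706

/-!
# Module [END-SL] for S0999 / S4701 (helper79's Brauer `n`-theorem)

A group of order `p (p-1) (p-2)` with a Sylow `p`-normalizer of order `2p`, no nontrivial normal
`p'`-subgroup and an involution `s` whose centralizer has order `p - 1` and consists of conjugates
of `s` is `SL(2, 2^m)` with `p = 2^m + 1` (via the landed S4706).
-/

set_option autoImplicit false

namespace Cfsg.Agent.Lib.Helper67.BrauerEndSL

section basic

variable {G : Type*} [Group G]

/-- all elements of `C(s)` square to one -/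
theorem sq_eq_one_of_mem {s : G} (hs : orderOf s = 2)
    (hconj : ∀ g ∈ Subgroup.centralizer ({s} : Set G), g ≠ 1 → IsConj g s)
    {g : G} (hg : g ∈ Subgroup.centralizer ({s} : Set G)) : g * g = 1 := by
  by_cases h1 : g = 1
  · rw [h1, one_mul]
  · have hc := hconj g hg h1
    obtain ⟨c, hc⟩ := isConj_iff.1 hc
    have : s * s = 1 := by
      have := pow_orderOf_eq_one s
      rw [hs, pow_two] at this
      exact this
    have h2 : c * (g * g) * c⁻¹ = 1 := by
      have : c * (g * g) * c⁻¹ = (c * g * c⁻¹) * (c * g * c⁻¹) := by group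
      rw [this, hc]
      assumption
    have h3 : g * g = c⁻¹ * (c * (g * g) * c⁻¹) * c := by group
    rw [h3, h2]
    group

/-- `C(s)` is commutative -/
theorem comm_of_mem {s : G} (hs : orderOf s = 2)
    (hconj : ∀ g ∈ Subgroup.centralizer ({s} : Set G), g ≠ 1 → IsConj g s)
    {a b : G} (ha : a ∈ Subgroup.centralizer ({s} : Set G))
    (hb : b ∈ Subgroup.centralizer ({s} : Set G)) : a * b = b * a := by
  have h1 := sq_eq_one_of_mem hs hconj ha
  have h2 := sq_eq_one_of_mem hs hconj hb
  have h3 := sq_eq_one_of_mem hs hconj (mul_mem ha hb)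
  have ha' : a⁻¹ = a := inv_eq_of_mul_eq_one_left h1
  have hb' : b⁻¹ = b := inv_eq_of_mul_eq_one_left h2
  have : a * b = (a * b)⁻¹ := (inv_eq_of_mul_eq_one_left h3).symm
  rw [this, mul_inv_rev, ha', hb']

/-- the centralizer of a nontrivial element of `C(s)` is `C(s)` -/
theorem centralizer_eq_of_mem [Finite G] {s : G} (hs : orderOf s = 2)
    (hconj : ∀ g ∈ Subgroup.centralizer ({s} : Set G), g ≠ 1 → IsConj g s)
    {t : G} (ht : t ∈ Subgroup.centralizer ({s} : Set G)) (ht1 : t ≠ 1) :
    Subgroup.centralizer ({t} : Set G) = Subgroup.centralizer ({s} : Set G) := by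
  symm
  apply Subgroup.eq_of_le_of_card_ge
  · intro x hx
    rw [Subgroup.mem_centralizer_iff]
    intro y hy
    rw [Set.mem_singleton_iff] at hy
    subst hy
    exact comm_of_mem hs hconj ht hx
  · obtain ⟨c, hc⟩ := isConj_iff.1 (hconj t ht ht1)
    let f : Subgroup.centralizer ({t} : Set G) → Subgroup.centralizer ({s} : Set G) :=
      fun x => ⟨c * x * c⁻¹, by
        rw [Subgroup.mem_centralizer_iff]
        intro y hy
        rw [Set.mem_singleton_iff] at hy
        subst hy
        have hx := x.2
        rw [Subgroup.mem_centralizer_iff] at hx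
        have hx' := hx t (Set.mem_singleton t)
        rw [← hc]
        calc c * t * c⁻¹ * (c * ↑x * c⁻¹) = c * (t * x) * c⁻¹ := by group
          _ = c * (x * t) * c⁻¹ := by rw [hx']
          _ = c * ↑x * c⁻¹ * (c * t * c⁻¹) := by group⟩
    apply Nat.card_le_card_of_injective f
    intro x y hxy
    have : c * (x : G) * c⁻¹ = c * (y : G) * c⁻¹ := congrArg Subtype.val hxy
    apply Subtype.ext
    have h := mul_right_cancel this
    exact mul_left_cancel h

/-- an element conjugating one nontrivial element of `C(s)` to another normalizes `C(s)` -/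
theorem mem_normalizer_of_conj [Finite G] {s : G} (hs : orderOf s = 2)
    (hconj : ∀ g ∈ Subgroup.centralizer ({s} : Set G), g ≠ 1 → IsConj g s)
    {t u g : G} (ht : t ∈ Subgroup.centralizer ({s} : Set G)) (ht1 : t ≠ 1)
    (hu : u ∈ Subgroup.centralizer ({s} : Set G)) (hu1 : u ≠ 1) (hg : g * t * g⁻¹ = u) :
    g ∈ Subgroup.normalizer ((Subgroup.centralizer ({s} : Set G) : Subgroup G) : Set G) := by
  rw [Subgroup.mem_normalizer_iff]
  intro x
  have e1 := centralizer_eq_of_mem hs hconj ht ht1
  have e2 := centralizer_eq_of_mem hs hconj hu hu1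
  rw [← e1]
  conv_rhs => rw [e1, ← e2]
  rw [Subgroup.mem_centralizer_iff, Subgroup.mem_centralizer_iff]
  constructor
  · intro h y hy
    rw [Set.mem_singleton_iff] at hy
    subst hy
    have h' := h t (Set.mem_singleton t)
    rw [← hg]
    calc g * t * g⁻¹ * (g * x * g⁻¹) = g * (t * x) * g⁻¹ := by group
      _ = g * (x * t) * g⁻¹ := by rw [h']
      _ = g * x * g⁻¹ * (g * t * g⁻¹) := by group
  · intro h y hy
    rw [Set.mem_singleton_iff] at hy
    subst hy
    have h' := h u (Set.mem_singleton u)
    rw [← hg] at h'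
    have : g * (y * x) * g⁻¹ = g * (x * y) * g⁻¹ := by
      calc g * (y * x) * g⁻¹ = g * y * g⁻¹ * (g * x * g⁻¹) := by group
        _ = g * x * g⁻¹ * (g * y * g⁻¹) := h'
        _ = g * (x * y) * g⁻¹ := by group
    exact mul_left_cancel (mul_right_cancel this)

end basic


section count

variable {G : Type*} [Group G] [Finite G]

/-- the normalizer of `S = C(s)` has order `|S| (|S| - 1)` -/
theorem card_normalizer {s : G} (hs : orderOf s = 2)
    (hconj : ∀ g ∈ Subgroup.centralizer ({s} : Set G), g ≠ 1 → IsConj g s) :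
    Nat.card (Subgroup.normalizer ((Subgroup.centralizer ({s} : Set G) : Subgroup G) : Set G)) =
      (Nat.card (Subgroup.centralizer ({s} : Set G)) - 1) *
        Nat.card (Subgroup.centralizer ({s} : Set G)) := by
  classical
  set S : Subgroup G := Subgroup.centralizer ({s} : Set G) with hS
  set N : Subgroup G := Subgroup.normalizer (S : Set G) with hN
  have hs1 : s ≠ 1 := by
    intro h
    rw [h, orderOf_one] at hs
    omega
  have hsS : s ∈ S := by
    rw [hS, Subgroup.mem_centralizer_iff]
    intro y hy
    rw [Set.mem_singleton_iff] at hy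
    rw [hy]
  have hSN : S ≤ N := Subgroup.le_normalizer
  let _ : MulAction N G := MulAction.compHom G ((MulAut.conj : G →* MulAut G).comp N.subtype)
  have hsmul : ∀ (n : N) (x : G), n • x = (n : G) * x * (n : G)⁻¹ := fun n x => rfl
  -- the orbit of `s`
  have horb : MulAction.orbit N s = (S : Set G) \ {1} := by
    ext x
    constructor
    · rintro ⟨n, rfl⟩
      show n • s ∈ _
      rw [hsmul]
      refine ⟨?_, ?_⟩
      · have h' : (n : G) ∈ Subgroup.normalizer (S : Set G) := n.2
        rw [Subgroup.mem_normalizer_iff] at h'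
        exact (h' s).1 hsS
      · intro h
        rw [Set.mem_singleton_iff] at h
        apply hs1
        have : s = (n : G)⁻¹ * ((n : G) * s * (n : G)⁻¹) * (n : G) := by group
        rw [this, h]
        group
    · rintro ⟨hxS, hx1⟩
      rw [Set.mem_singleton_iff] at hx1
      obtain ⟨c, hc⟩ := isConj_iff.1 (hconj x hxS hx1)
      have hc' : c⁻¹ * s * c⁻¹⁻¹ = x := by
        rw [← hc]
        group
      have hmem : c⁻¹ ∈ N := mem_normalizer_of_conj hs hconj hsS hs1 hxS hx1 hc'
      exact ⟨⟨c⁻¹, hmem⟩, hc'⟩
  -- the stabilizer of `s`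
  have hstab : MulAction.stabilizer N s = S.subgroupOf N := by
    ext n
    rw [MulAction.mem_stabilizer_iff, Subgroup.mem_subgroupOf, hsmul, hS,
      Subgroup.mem_centralizer_iff]
    constructor
    · intro h y hy
      rw [Set.mem_singleton_iff] at hy
      subst hy
      have : (n : G) * y * (n : G)⁻¹ * (n : G) = y * (n : G) := by rw [h]
      rw [← this]
      group
    · intro h
      have h' := h s (Set.mem_singleton s)
      rw [mul_inv_eq_iff_eq_mul]
      exact h'.symm
  have h1 := Subgroup.card_eq_card_quotient_mul_card_subgroup (MulAction.stabilizer N s)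
  have h2 : Nat.card (N ⧸ MulAction.stabilizer N s) = Nat.card (MulAction.orbit N s) :=
    (Nat.card_congr (MulAction.orbitEquivQuotientStabilizer N s)).symm
  have h3 : Nat.card (MulAction.stabilizer N s) = Nat.card S := by
    rw [hstab]
    exact Nat.card_congr (Subgroup.subgroupOfEquivOfLe hSN).toEquiv
  have h4 : Nat.card (MulAction.orbit N s) = Nat.card S - 1 := by
    rw [horb, Nat.card_coe_set_eq, Set.ncard_sdiff_singleton_of_mem (one_mem S),
      ← Nat.card_coe_set_eq]
    rfl
  rw [h1, h2, h3, h4]

end count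

section main

open Matrix

theorem sl2_of_involution_centralizer {G : Type*} [Group G] [Finite G] (p : ℕ) [Fact p.Prime]
    (hp3 : 3 < p) (P : Sylow p G)
    (hN : Nat.card (Subgroup.normalizer ((P : Subgroup G) : Set G)) = 2 * p)
    (hG : Nat.card G = p * (p - 1) * (p - 2))
    (hK : ∀ K : Subgroup G, K.Normal → (Nat.card K).Coprime p → K = ⊥)
    (s : G) (hs : orderOf s = 2)
    (hCs : Nat.card (Subgroup.centralizer ({s} : Set G)) = p - 1)
    (hconj : ∀ g ∈ Subgroup.centralizer ({s} : Set G), g ≠ 1 → IsConj g s) :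
    ∃ (m : ℕ) (F : Type) (_ : Field F) (_ : Fintype F),
      Fintype.card F = 2 ^ m ∧ p = 2 ^ m + 1 ∧
        Nonempty (G ≃* Matrix.SpecialLinearGroup (Fin 2) F) := by
  classical
  have hpr : p.Prime := Fact.out
  set S : Subgroup G := Subgroup.centralizer ({s} : Set G) with hS
  set N : Subgroup G := Subgroup.normalizer (S : Set G) with hNdef
  have hNcard : Nat.card N = (p - 2) * (p - 1) := by
    have := card_normalizer hs hconj
    rw [hCs] at this
    rw [this]
    congr 1
  have hpos : 0 < (p - 2) * (p - 1) := Nat.mul_pos (by omega) (by omega)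
  have hidx : N.index = p := by
    have h := N.index_mul_card
    rw [hNcard, hG] at h
    have : N.index * ((p - 2) * (p - 1)) = p * ((p - 2) * (p - 1)) := by
      rw [h]; ring
    exact Nat.eq_of_mul_eq_mul_right hpos this
  -- coprimality
  have hcop : Nat.Coprime ((p - 2) * (p - 1)) p := by
    rw [Nat.coprime_comm]
    apply Nat.Coprime.mul_right
    · rw [Nat.Prime.coprime_iff_not_dvd hpr]
      intro h
      have := Nat.le_of_dvd (by omega) h
      omega
    · rw [Nat.Prime.coprime_iff_not_dvd hpr]
      intro h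
      have := Nat.le_of_dvd (by omega) h
      omega
  -- the action on the cosets of `N` is faithful
  let φ : G →* Equiv.Perm (G ⧸ N) := MulAction.toPermHom G (G ⧸ N)
  have hker : φ.ker = ⊥ := by
    have h1 : N.normalCore = φ.ker := Subgroup.normalCore_eq_ker N
    rw [← h1]
    apply hK
    · infer_instance
    · have hdvd : Nat.card N.normalCore ∣ Nat.card N :=
        Subgroup.card_dvd_of_le (Subgroup.normalCore_le N)
      rw [hNcard] at hdvd
      exact Nat.Coprime.coprime_dvd_left hdvd hcop
  have hinj : Function.Injective φ := (MonoidHom.ker_eq_bot_iff φ).1 hker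
  let e : G ≃* φ.range := MonoidHom.ofInjective hinj
  let _ : Fintype (G ⧸ N) := Fintype.ofFinite _
  have hα : Fintype.card (G ⧸ N) = p := by
    rw [Fintype.card_eq_nat_card, ← Subgroup.index_eq_card, hidx]
  let P' : Sylow p φ.range := P.mapSurjective (f := e.toMonoidHom) e.surjective
  have hP' : (P' : Subgroup φ.range) = (P : Subgroup G).map e.toMonoidHom :=
    Sylow.coe_mapSurjective _ _
  have hN' : Nat.card (Subgroup.normalizer ((P' : Subgroup φ.range) : Set φ.range)) = 2 * p := by
    rw [hP', ← Subgroup.map_equiv_normalizer_eq, Subgroup.card_map_of_injective (f := e.toMonoidHom) e.injective, hN]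
  have hcardG' : Nat.card φ.range = p * (p - 1) * (p - 2) := by
    rw [← hG]
    exact (Nat.card_congr e.toEquiv).symm
  rcases Cfsg.Agent.S4706.result (by omega : 2 < p) hα φ.range P' hN' with hnorm | hsl
  · exfalso
    have htop : Subgroup.normalizer ((P' : Subgroup φ.range) : Set φ.range) = ⊤ :=
      Subgroup.normalizer_eq_top_iff.2 hnorm
    rw [htop, Subgroup.card_top, hcardG'] at hN'
    have h4 : 3 ≤ p - 1 := by omega
    have h3 : 2 ≤ p - 2 := by omega
    have : p * 3 * 2 ≤ p * (p - 1) * (p - 2) :=
      Nat.mul_le_mul (Nat.mul_le_mul_left p h4) h3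
    omega
  · obtain ⟨a, F, fF, ftF, hpa, hFcard, ⟨iso⟩⟩ := hsl
    exact ⟨a, F, fF, ftF, hFcard, hpa, ⟨e.trans iso⟩⟩

end main

end Cfsg.Agent.Lib.Helper67.BrauerEndSL
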