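import Mathlib

/-!
# Splitting chief factors along a normal series

`SmallChief p A B`: every chief factor `H/K` of `G` of `p`-power order with `A ≤ K < H ≤ B` has order
`p` or `p ^ 2`.

* `smallChief_of_not_dvd`: holds when `p ^ 3 ∤ |B : A|`;
* `smallChief_trans`: transitivity through a normal subgroup `B` (a chief factor is `G`-isomorphic to
  one below `B` or to one above `B`);
* `smallChief_of_quotient`: lifting from `G ⧸ N`.
-/

set_option autoImplicit false

open scoped Pointwise

namespace Cfsg.Agent.Lib.Helper67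

variable {G : Type*} [Group G]

/-- every chief factor `H/K` of `p`-power order with `A ≤ K < H ≤ B` has order `p` or `p ^ 2`. -/
def SmallChief (p : ℕ) (A B : Subgroup G) : Prop :=
  ∀ H K : Subgroup G, H.Normal → K.Normal → A ≤ K → K < H → H ≤ B →
    (∃ n : ℕ, K.relIndex H = p ^ n) →
    (∀ L : Subgroup G, L.Normal → K ≤ L → L ≤ H → L = K ∨ L = H) →
    K.relIndex H = p ∨ K.relIndex H = p ^ 2

theorem smallChief_of_not_dvd {p : ℕ} (A B : Subgroup G)
    (h : ¬ p ^ 3 ∣ A.relIndex B) : SmallChief p A B := by
  intro H K _ _ hAK hKH hHB ⟨n, hn⟩ _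
  have h1 : K.relIndex H ∣ A.relIndex B := by
    have e1 := Subgroup.relIndex_mul_relIndex A K H hAK hKH.le
    have e2 := Subgroup.relIndex_mul_relIndex A H B (hAK.trans hKH.le) hHB
    rw [← e2, ← e1]
    exact Dvd.dvd.mul_right (Dvd.intro_left _ rfl) _
  have hn0 : n ≠ 0 := by
    rintro rfl
    rw [pow_zero, Subgroup.relIndex_eq_one] at hn
    exact absurd hn (not_le_of_gt hKH)
  have hn3 : n < 3 := by
    by_contra hge
    apply h
    rw [hn] at h1
    exact dvd_trans (pow_dvd_pow p (not_lt.mp hge)) h1
  rw [hn]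
  interval_cases n
  · exact absurd rfl hn0
  · left; simp
  · right; rfl

/-- elements of `H ⊔ N`, `N` normal, are products. -/
theorem exists_mul_of_mem_sup_normal (H N : Subgroup G) [N.Normal] {x : G} (hx : x ∈ H ⊔ N) :
    ∃ h ∈ H, ∃ n ∈ N, x = h * n := by
  have : x ∈ ((H ⊔ N : Subgroup G) : Set G) := hx
  rw [Subgroup.mul_normal] at this
  obtain ⟨h, hh, n, hn, rfl⟩ := Set.mem_mul.mp this
  exact ⟨h, hh, n, hn, rfl⟩

theorem smallChief_trans {p : ℕ} (A B C : Subgroup G) [hB : B.Normal] (hAB : A ≤ B) (hBC : B ≤ C)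
    (h1 : SmallChief p A B) (h2 : SmallChief p B C) : SmallChief p A C := by
  intro H K hH hK hAK hKH hHC hpow hchief
  have hne1 : K.relIndex H ≠ 1 := by
    intro h
    exact absurd (Subgroup.relIndex_eq_one.mp h) (not_le_of_gt hKH)
  have hL : (K ⊔ (H ⊓ B)).Normal := inferInstance
  rcases hchief (K ⊔ (H ⊓ B)) hL le_sup_left (sup_le hKH.le inf_le_left) with h | h
  · -- `H ⊓ B ≤ K`: the factor is isomorphic to `HB/KB`
    have hHBK : H ⊓ B ≤ K := by rw [← h]; exact le_sup_right
    have hKBn : (K ⊔ B).Normal := inferInstance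
    have hHBn : (H ⊔ B).Normal := inferInstance
    have hinf : (K ⊔ B) ⊓ H = K := by
      apply le_antisymm
      · intro x hx
        obtain ⟨k, hk, b, hb, rfl⟩ := exists_mul_of_mem_sup_normal K B hx.1
        have hbH : b ∈ H := by
          have : b = k⁻¹ * (k * b) := by group
          rw [this]
          exact H.mul_mem (H.inv_mem (hKH.le hk)) hx.2
        exact K.mul_mem hk (hHBK ⟨hbH, hb⟩)
      · exact le_inf le_sup_left hKH.le
    have hidx : (K ⊔ B).relIndex (H ⊔ B) = K.relIndex H := by
      have e : H ⊔ B = (K ⊔ B) ⊔ H := by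
        rw [sup_comm (K ⊔ B) H, ← sup_assoc, sup_eq_left.mpr hKH.le]
      rw [e, Subgroup.relIndex_sup_left, ← Subgroup.inf_relIndex_right, hinf]
    rw [← hidx]
    apply h2 (H ⊔ B) (K ⊔ B) hHBn hKBn le_sup_right
    · refine lt_of_le_of_ne (sup_le_sup_right hKH.le B) ?_
      intro heq
      apply hne1
      rw [← hidx, heq]
      exact Subgroup.relIndex_eq_one.mpr le_rfl
    · exact sup_le hHC hBC
    · rw [hidx]; exact hpow
    · intro L hLn hKL hLH
      have hLHn : (L ⊓ H).Normal := inferInstance
      have hLeq : L = (L ⊓ H) ⊔ B := by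
        apply le_antisymm
        · intro x hx
          obtain ⟨y, hy, b, hb, rfl⟩ := exists_mul_of_mem_sup_normal H B (hLH hx)
          have hbL : b ∈ L := hKL (Subgroup.mem_sup_right hb)
          have hyL : y ∈ L := by
            have : y = (y * b) * b⁻¹ := by group
            rw [this]
            exact L.mul_mem hx (L.inv_mem hbL)
          exact Subgroup.mul_mem_sup ⟨hyL, hy⟩ hb
        · exact sup_le inf_le_left (le_sup_right.trans hKL)
      rcases hchief (L ⊓ H) hLHn (le_inf (le_sup_left.trans hKL) hKH.le) inf_le_right with h' | h'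
      · left; rw [hLeq, h']
      · right; rw [hLeq, h']
  · -- `H = K (H ⊓ B)`: the factor is isomorphic to `(H ⊓ B)/(K ⊓ B)`
    have hKBn : (K ⊓ B).Normal := inferInstance
    have hHBn : (H ⊓ B).Normal := inferInstance
    have hidx : (K ⊓ B).relIndex (H ⊓ B) = K.relIndex H := by
      have e : K ⊓ B = K ⊓ (H ⊓ B) := by
        rw [← inf_assoc, inf_eq_left.mpr hKH.le]
      rw [e, Subgroup.inf_relIndex_right]
      conv_rhs => rw [← h]
      rw [Subgroup.relIndex_sup_left]
    rw [← hidx]
    apply h1 (H ⊓ B) (K ⊓ B) hHBn hKBn (le_inf hAK hAB)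
    · refine lt_of_le_of_ne (inf_le_inf_right B hKH.le) ?_
      intro heq
      apply hne1
      rw [← hidx, heq]
      exact Subgroup.relIndex_eq_one.mpr le_rfl
    · exact inf_le_right
    · rw [hidx]; exact hpow
    · intro L hLn hKL hLH
      have hKLn : (K ⊔ L).Normal := inferInstance
      rcases hchief (K ⊔ L) hKLn le_sup_left (sup_le hKH.le (hLH.trans inf_le_left)) with h' | h'
      · left
        apply le_antisymm _ hKL
        have : L ≤ K := by rw [← h']; exact le_sup_right
        exact le_inf this (hLH.trans inf_le_right)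
      · right
        apply le_antisymm hLH
        intro x hx
        have hxH : x ∈ K ⊔ L := by rw [h']; exact hx.1
        obtain ⟨k, hk, l, hl, rfl⟩ := exists_mul_of_mem_sup_normal K L hxH
        have hlB : l ∈ B := (hLH hl).2
        have hkB : k ∈ B := by
          have : k = (k * l) * l⁻¹ := by group
          rw [this]
          exact B.mul_mem hx.2 (B.inv_mem hlB)
        exact L.mul_mem (hKL ⟨hk, hkB⟩) hl

/-- lifting `SmallChief` from the quotient by a normal subgroup. -/
theorem smallChief_of_quotient {p : ℕ} (N : Subgroup G) [N.Normal]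
    (h : SmallChief p (⊥ : Subgroup (G ⧸ N)) ⊤) : SmallChief p N ⊤ := by
  intro H K hH hK hNK hKH _ hpow hchief
  set π := QuotientGroup.mk' N with hπ
  have hsurj : Function.Surjective π := QuotientGroup.mk'_surjective N
  have hker : π.ker = N := QuotientGroup.ker_mk' N
  have hNH : N ≤ H := hNK.trans hKH.le
  have hcK : (K.map π).comap π = K := by
    rw [Subgroup.comap_map_eq, hker, sup_eq_left.mpr hNK]
  have hcH : (H.map π).comap π = H := by
    rw [Subgroup.comap_map_eq, hker, sup_eq_left.mpr hNH]
  have hidx : (K.map π).relIndex (H.map π) = K.relIndex H := by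
    rw [Subgroup.relIndex_map_map, hker, sup_eq_left.mpr hNK, sup_eq_left.mpr hNH]
  rw [← hidx]
  apply h (H.map π) (K.map π) (hH.map π hsurj) (hK.map π hsurj) bot_le
  · refine lt_of_le_of_ne (Subgroup.map_mono hKH.le) ?_
    intro heq
    have : H ≤ K := by
      rw [← hcK, ← hcH, heq]
    exact absurd this (not_le_of_gt hKH)
  · exact le_top
  · rw [hidx]; exact hpow
  · intro L hLn hKL hLH
    have hLc : (L.comap π).Normal := hLn.comap π
    have h1 : K ≤ L.comap π := by
      rw [← hcK]; exact Subgroup.comap_mono hKL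
    have h2 : L.comap π ≤ H := by
      rw [← hcH]; exact Subgroup.comap_mono hLH
    have hL : L = (L.comap π).map π := (Subgroup.map_comap_eq_self_of_surjective hsurj L).symm
    rcases hchief (L.comap π) hLc h1 h2 with h' | h'
    · left; rw [hL, h']
    · right; rw [hL, h']

end Cfsg.Agent.Lib.Helper67
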