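import Mathlib

/-!
# Elements acting on a cyclic subgroup (helper67)

`centralizes_cyclic_of_coprime_totient`: an element `a` normalizing a finite cyclic subgroup `C`
whose order is coprime to `φ(|C|) = |Aut C|` centralizes `C`.
-/

set_option autoImplicit false

namespace Cfsg.Agent.Lib.Helper67

theorem centralizes_cyclic_of_coprime_totient {G : Type*} [Group G] (C : Subgroup G) [Finite C]
    (hC : IsCyclic C) (a : G) (ha : a ∈ Subgroup.normalizer (C : Set G))
    (hcop : (orderOf a).Coprime (Nat.totient (Nat.card C))) : ∀ c ∈ C, a * c = c * a := by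
  let Y : Subgroup G := Subgroup.normalizer (C : Set G)
  let H : Subgroup Y := C.subgroupOf Y
  have hHn : H.Normal := Subgroup.normal_in_normalizer
  let e : H ≃* C := Subgroup.subgroupOfEquivOfLe Subgroup.le_normalizer
  have hHc : IsCyclic H := isCyclic_of_surjective e.symm e.symm.surjective
  have hHfin : Finite H := Finite.of_equiv C e.symm.toEquiv
  have hcardH : Nat.card H = Nat.card C := Nat.card_congr e.toEquiv
  let σ : MulAut H := MulAut.conjNormal (⟨a, ha⟩ : Y)
  have h1 : σ ^ orderOf a = 1 := by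
    show (MulAut.conjNormal (⟨a, ha⟩ : Y) : MulAut H) ^ orderOf a = 1
    rw [← map_pow]
    have : (⟨a, ha⟩ : Y) ^ orderOf a = 1 := by
      apply Subtype.ext
      rw [Subgroup.coe_pow, Subgroup.coe_one]
      exact pow_orderOf_eq_one a
    rw [this, map_one]
  have hfinAut : Finite (MulAut H) := inferInstance
  have h2 : σ ^ Nat.totient (Nat.card C) = 1 := by
    rw [← hcardH, ← IsCyclic.card_mulAut]
    exact pow_card_eq_one'
  have h3 : σ = 1 := by
    have hd1 : orderOf σ ∣ orderOf a := orderOf_dvd_of_pow_eq_one h1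
    have hd2 : orderOf σ ∣ Nat.totient (Nat.card C) := orderOf_dvd_of_pow_eq_one h2
    have : orderOf σ = 1 := Nat.eq_one_of_dvd_coprimes hcop hd1 hd2
    exact orderOf_eq_one_iff.mp this
  intro c hc
  have hcY : c ∈ Y := Subgroup.le_normalizer hc
  have h4 : σ ⟨⟨c, hcY⟩, hc⟩ = ⟨⟨c, hcY⟩, hc⟩ := by rw [h3]; rfl
  have h5 := congrArg (fun t : H => ((t : Y) : G)) h4
  simp only [σ, MulAut.conjNormal_apply] at h5
  have h6 : a * c * a⁻¹ = c := h5
  calc a * c = a * c * a⁻¹ * a := by group
    _ = c * a := by rw [h6]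

end Cfsg.Agent.Lib.Helper67
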