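import Mathlib
import Cfsg.Agent.Lib.Helper84.FTr.Core

/-!
# Transport of fusion systems (helper84's S5311/S5154 project), module [PUSH]

The image of a fusion system `E` over `T ≤ S` along an isomorphism of pairs `e : S ≃* S'`.
-/

set_option autoImplicit false
set_option linter.unusedVariables false
set_option linter.unusedSectionVars false

namespace Cfsg.Agent.Lib.Helper67.FTrPush

open Cfsg Cfsg.FusionSystem Cfsg.Agent.Lib.Helper84.FTr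

variable {Ω : Type*} [Group Ω] {Ω' : Type*} [Group Ω'] {S : Subgroup Ω} {S' : Subgroup Ω'}

/-- the maps of the pushed system -/
def pushHom (e : S ≃* S') {T : Subgroup Ω} (E : FusionSystem T) (P' : Subgroup Ω') :
    Set (P' →* Ω') :=
  {φ' | ∃ (P : Subgroup Ω) (φ : P →* Ω), φ ∈ E.Hom P ∧ im e P = P' ∧
    InducedAlong (pairHom e) φ φ'}

/-- the value of an induced map -/
theorem induced_apply (e : S ≃* S') {P : Subgroup Ω} {φ : P →* Ω} {φ' : im e P →* Ω'}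
    (hi : InducedAlong (pairHom e) φ φ') (x : Ω) (hxS : x ∈ S) (hxP : x ∈ P)
    (hy : (e ⟨x, hxS⟩ : Ω') ∈ im e P) (hφS : φ ⟨x, hxP⟩ ∈ S) :
    φ' ⟨e ⟨x, hxS⟩, hy⟩ = (e ⟨φ ⟨x, hxP⟩, hφS⟩ : Ω') := by
  obtain ⟨hP, hφ, hP', heq⟩ := hi
  exact heq ⟨x, hxP⟩

theorem push_le_of_mem (e : S ≃* S') {T : Subgroup Ω} (hT : T ≤ S) (E : FusionSystem T) {P' : Subgroup Ω'} {φ' : P' →* Ω'} (h : φ' ∈ pushHom e E P') :
    P' ≤ im e T ∧ ∀ x : P', φ' x ∈ im e T := by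
  obtain ⟨P, φ, hφ, rfl, hi⟩ := h
  have hPT := (E.le_of_mem hφ).1
  have hφT := (E.le_of_mem hφ).2
  refine ⟨im_mono e hPT, ?_⟩
  rintro ⟨y, hy⟩
  obtain ⟨x, hx, hxP, rfl⟩ := (mem_im_iff e P y).1 hy
  rw [induced_apply e hi x hx hxP hy (hT (hφT ⟨x, hxP⟩))]
  exact apply_mem_im e _ (hφT ⟨x, hxP⟩)

theorem push_injective (e : S ≃* S') {T : Subgroup Ω} (hT : T ≤ S) (E : FusionSystem T) {P' : Subgroup Ω'} {φ' : P' →* Ω'} (h : φ' ∈ pushHom e E P') :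
    Function.Injective φ' := by
  obtain ⟨P, φ, hφ, rfl, hi⟩ := h
  have hφT := (E.le_of_mem hφ).2
  rintro ⟨y, hy⟩ ⟨z, hz⟩ hyz
  obtain ⟨x, hx, hxP, rfl⟩ := (mem_im_iff e P y).1 hy
  obtain ⟨x', hx', hxP', rfl⟩ := (mem_im_iff e P z).1 hz
  rw [induced_apply e hi x hx hxP hy (hT (hφT ⟨x, hxP⟩)),
    induced_apply e hi x' hx' hxP' hz (hT (hφT ⟨x', hxP'⟩))] at hyz
  have h1 : (⟨φ ⟨x, hxP⟩, hT (hφT ⟨x, hxP⟩)⟩ : S) = ⟨φ ⟨x', hxP'⟩, hT (hφT ⟨x', hxP'⟩)⟩ :=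
    e.injective (Subtype.ext hyz)
  have h2 : φ ⟨x, hxP⟩ = φ ⟨x', hxP'⟩ := congrArg Subtype.val h1
  have h3 : (⟨x, hxP⟩ : P) = ⟨x', hxP'⟩ := E.injective_of_mem hφ h2
  have h4 : x = x' := congrArg Subtype.val h3
  subst h4
  rfl

theorem push_conj_mem (e : S ≃* S') {T : Subgroup Ω} (hT : T ≤ S) (E : FusionSystem T) {P' : Subgroup Ω'} {g' : Ω'} (hP' : P' ≤ im e T) (hg' : g' ∈ im e T) :
    conjHom P' g' ∈ pushHom e E P' := by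
  obtain ⟨g, hgS, hgT, rfl⟩ := (mem_im_iff e T g').1 hg'
  have hP'S' : P' ≤ S' := hP'.trans (im_le e T)
  have hPP' : im e (im e.symm P') = P' := im_im_symm e hP'S'
  have hPT : im e.symm P' ≤ T := (im_mono e.symm hP').trans (im_symm_im e hT).le
  have hPS : im e.symm P' ≤ S := hPT.trans hT
  have hφ : conjHom (im e.symm P') g ∈ E.Hom (im e.symm P') := E.conj_mem hPT hgT
  have hmem : ∀ x : ↥(im e.symm P'), pairHom e ⟨x, hPS x.2⟩ ∈ P' := by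
    intro x
    have := apply_mem_im e (hPS x.2) x.2
    rw [hPP'] at this
    exact this
  have hφS : ∀ x : ↥(im e.symm P'), conjHom (im e.symm P') g x ∈ S := fun x =>
    S.mul_mem (S.mul_mem hgS (hPS x.2)) (S.inv_mem hgS)
  refine ⟨im e.symm P', conjHom (im e.symm P') g, hφ, hPP', hPS, hφS, hmem, ?_⟩
  intro x
  show (e ⟨g, hgS⟩ : Ω') * (e ⟨x, hPS x.2⟩ : Ω') * (e ⟨g, hgS⟩ : Ω')⁻¹ =
    (e ⟨g * (x : Ω) * g⁻¹, hφS x⟩ : Ω')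
  have h1 : (⟨g * (x : Ω) * g⁻¹, hφS x⟩ : S) = ⟨g, hgS⟩ * ⟨x, hPS x.2⟩ * ⟨g, hgS⟩⁻¹ :=
    Subtype.ext rfl
  rw [h1, map_mul, map_mul, map_inv]
  rfl

theorem push_comp_mem (e : S ≃* S') {T : Subgroup Ω} (E : FusionSystem T) {P' Q' : Subgroup Ω'} {φ' : P' →* Ω'} {ψ' : Q' →* Ω'}
    (hφ' : φ' ∈ pushHom e E P') (hψ' : ψ' ∈ pushHom e E Q') (h : ∀ x : P', φ' x ∈ Q') :
    ψ'.comp (φ'.codRestrict Q' h) ∈ pushHom e E P' := by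
  obtain ⟨P, φ, hφ, rfl, hi⟩ := hφ'
  obtain ⟨Q, ψ, hψ, rfl, hj⟩ := hψ'
  obtain ⟨hP, hφS, hP', heq⟩ := hi
  obtain ⟨hQ, hψS, hQ', heq2⟩ := hj
  have hPQ : ∀ x : P, φ x ∈ Q := by
    intro x
    have := h ⟨pairHom e ⟨x, hP x.2⟩, hP' x⟩
    rw [heq x] at this
    exact mem_of_apply_mem_im e (hφS x) this
  have hcomp : ψ.comp (φ.codRestrict Q hPQ) ∈ E.Hom P := E.comp_mem hφ hψ hPQ
  refine ⟨P, _, hcomp, rfl, hP, fun x => hψS _, hP', fun x => ?_⟩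
  show ψ' ⟨φ' ⟨pairHom e ⟨x, hP x.2⟩, hP' x⟩, h _⟩ = pairHom e ⟨ψ ⟨φ x, hPQ x⟩, hψS _⟩
  have h1 : (⟨φ' ⟨pairHom e ⟨x, hP x.2⟩, hP' x⟩, h _⟩ : ↥(im e Q)) =
      ⟨pairHom e ⟨(⟨φ x, hPQ x⟩ : Q), hQ (hPQ x)⟩, hQ' ⟨φ x, hPQ x⟩⟩ := Subtype.ext (heq x)
  rw [h1]
  exact heq2 ⟨φ x, hPQ x⟩

theorem push_inv_mem (e : S ≃* S') {T : Subgroup Ω} (hT : T ≤ S) (E : FusionSystem T) {P' : Subgroup Ω'} {φ' : P' →* Ω'} (hφ' : φ' ∈ pushHom e E P') :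
    ∃ ψ' ∈ pushHom e E φ'.range, ∀ x : P', ψ' ⟨φ' x, ⟨x, rfl⟩⟩ = (x : Ω') := by
  obtain ⟨P, φ, hφ, rfl, hi⟩ := hφ'
  obtain ⟨ψ, hψ, hψeq⟩ := E.inv_mem hφ
  have hφT := (E.le_of_mem hφ).2
  have hPS : P ≤ S := (E.le_of_mem hφ).1.trans hT
  have hRS : φ.range ≤ S := by
    rintro _ ⟨x, rfl⟩
    exact hT (hφT x)
  have hψS : ∀ r : φ.range, ψ r ∈ S := fun r => hT ((E.le_of_mem hψ).2 r)
  have hval : ∀ (x : Ω) (hxS : x ∈ S) (hxP : x ∈ P) (hy : (e ⟨x, hxS⟩ : Ω') ∈ im e P),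
      φ' ⟨e ⟨x, hxS⟩, hy⟩ = (e ⟨φ ⟨x, hxP⟩, hT (hφT ⟨x, hxP⟩)⟩ : Ω') :=
    fun x hxS hxP hy => induced_apply e hi x hxS hxP hy _
  have hrange : im e φ.range = φ'.range := by
    ext z
    constructor
    · intro hz
      obtain ⟨w, hw, hwR, rfl⟩ := (mem_im_iff e φ.range z).1 hz
      obtain ⟨⟨x, hxP⟩, rfl⟩ := hwR
      refine ⟨⟨e ⟨x, hPS hxP⟩, apply_mem_im e (hPS hxP) hxP⟩, ?_⟩
      rw [hval x (hPS hxP) hxP]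
    · rintro ⟨⟨y, hy⟩, rfl⟩
      obtain ⟨x, hx, hxP, rfl⟩ := (mem_im_iff e P y).1 hy
      rw [hval x hx hxP hy]
      exact apply_mem_im e _ ⟨⟨x, hxP⟩, rfl⟩
  set ψ₀ : ↥(im e φ.range) →* Ω' := trMap e hRS ψ hψS with hψ₀
  set ψ' : ↥φ'.range →* Ω' := ψ₀.comp (Subgroup.inclusion hrange.ge) with hψ'
  have hmemR : ∀ r : φ.range, pairHom e ⟨r, hRS r.2⟩ ∈ φ'.range := by
    intro r
    rw [← hrange]
    exact apply_mem_im e (hRS r.2) r.2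
  have hψ'val : ∀ (r : φ.range) (hz : pairHom e ⟨r, hRS r.2⟩ ∈ φ'.range),
      ψ' ⟨pairHom e ⟨r, hRS r.2⟩, hz⟩ = pairHom e ⟨ψ r, hψS r⟩ := by
    intro r hz
    show ψ₀ ⟨pairHom e ⟨r, hRS r.2⟩, hrange.ge hz⟩ = pairHom e ⟨ψ r, hψS r⟩
    exact trMap_apply e hRS ψ hψS r _
  refine ⟨ψ', ⟨φ.range, ψ, hψ, hrange, hRS, hψS, hmemR, fun r => hψ'val r _⟩, ?_⟩
  rintro ⟨y, hy⟩
  obtain ⟨x, hx, hxP, rfl⟩ := (mem_im_iff e P y).1 hy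
  have key : ∀ (z : Ω') (hz : z ∈ φ'.range) (r : φ.range), z = pairHom e ⟨r, hRS r.2⟩ →
      ψ' ⟨z, hz⟩ = pairHom e ⟨ψ r, hψS r⟩ := by
    intro z hz r hzr
    subst hzr
    exact hψ'val r hz
  refine (key _ _ ⟨φ ⟨x, hxP⟩, ⟨⟨x, hxP⟩, rfl⟩⟩ (hval x hx hxP hy)).trans ?_
  have h5 : (⟨ψ ⟨φ ⟨x, hxP⟩, ⟨⟨x, hxP⟩, rfl⟩⟩, hψS _⟩ : S) = ⟨x, hx⟩ :=
    Subtype.ext (hψeq ⟨x, hxP⟩)
  show (e ⟨ψ ⟨φ ⟨x, hxP⟩, ⟨⟨x, hxP⟩, rfl⟩⟩, hψS _⟩ : Ω') = (e ⟨x, hx⟩ : Ω')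
  rw [h5]

/-- the pushed fusion system over `im e T` -/
def push (e : S ≃* S') {T : Subgroup Ω} (hT : T ≤ S) (E : FusionSystem T) : FusionSystem (im e T) where
  Hom := pushHom e E
  le_of_mem := fun h => push_le_of_mem e hT E h
  injective_of_mem := fun h => push_injective e hT E h
  conj_mem := fun hP hg => push_conj_mem e hT E hP hg
  comp_mem := fun hφ hψ h => push_comp_mem e E hφ hψ h
  inv_mem := fun hφ => push_inv_mem e hT E hφ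

/-- MODULE [PUSH] -/
theorem exists_corr [Finite S] (e : S ≃* S') {T : Subgroup Ω} (hT : T ≤ S) (E : FusionSystem T) :
    ∃ (T' : Subgroup Ω') (E' : FusionSystem T'), Corr e E E' :=
  ⟨im e T, push e hT E, hT, rfl, fun P' φ' => Iff.rfl⟩

end Cfsg.Agent.Lib.Helper67.FTrPush
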