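import Mathlib
import Cfsg.Agent.S0029
import Cfsg.Agent.Lib.Helper1.PGroupMax
import Cfsg.Agent.Lib.Helper29.OmegaTwo
import Cfsg.Agent.Lib.Helper9.SS2
import Cfsg.Agent.Lib.Helper67.VerbalPow

/-!
# Normal `p`-subgroups all of whose subgroups of a fixed order are normal (helper67)

`p'`-elements of the verbal subgroup `G' G^{p-1}` centralize such a normal `p`-subgroup.
-/

set_option autoImplicit false

namespace Cfsg.Agent.Lib.Helper67

variable {G : Type*} [Group G] [Finite G]

theorem mem_frattini_iff' {H : Type*} [Group H] (x : H) :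
    x ∈ frattini H ↔ ∀ M : Subgroup H, IsCoatom M → x ∈ M := by
  simp [frattini, Order.radical, Subgroup.mem_iInf]

theorem card_mul_relIndex_of_le {M F : Subgroup G} (h : M ≤ F) :
    Nat.card M * M.relIndex F = Nat.card F := by
  have h1 := (M.subgroupOf F).card_mul_index
  rw [Nat.card_congr (Subgroup.subgroupOfEquivOfLe h).toEquiv] at h1
  exact h1

/-- **Lemma U.** If `F` is a normal `p`-subgroup of `G` all of whose subgroups of index `p` are
normal in `G`, then every `p'`-element of `G' G^{p-1}` centralizes `F`. -/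
theorem verbalPow_centralizes_of_maximal_normal {p : ℕ} [hp : Fact p.Prime]
    (F : Subgroup G) [hF : F.Normal] (hFp : IsPGroup p F)
    (hmax : ∀ M : Subgroup G, M ≤ F → M.relIndex F = p → M.Normal)
    (k : G) (hk : k ∈ verbalPow G (p - 1)) (hcop : (orderOf k).Coprime p) :
    ∀ y ∈ F, k * y = y * k := by
  have hA : Subgroup.zpowers k ≤ Subgroup.normalizer (F : Set G) := by
    rw [Subgroup.normalizer_eq_top]; exact le_top
  have hcard : (Nat.card (Subgroup.zpowers k)).Coprime (Nat.card (frattini F)) := by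
    rw [Nat.card_zpowers]
    obtain ⟨n, hn⟩ := IsPGroup.iff_card.mp (hFp.to_subgroup (frattini F))
    rw [hn]; exact Nat.Coprime.pow_right n hcop
  have htriv : ∀ a ∈ Subgroup.zpowers k, ∀ y ∈ F,
      a * y * a⁻¹ * y⁻¹ ∈ (frattini F).map F.subtype := by
    intro a ha y hy
    have haK : a ∈ verbalPow G (p - 1) := by
      obtain ⟨i, rfl⟩ := Subgroup.mem_zpowers_iff.1 ha
      exact Subgroup.zpow_mem _ hk i
    have hmemF : a * y * a⁻¹ * y⁻¹ ∈ F := F.mul_mem (hF.conj_mem y hy a) (F.inv_mem hy)
    refine ⟨⟨_, hmemF⟩, ?_, rfl⟩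
    rw [SetLike.mem_coe, mem_frattini_iff']
    intro M hM
    have hidx : M.index = p := Cfsg.Agent.Lib.Helper1.coatom_index_of_isPGroup hFp hM
    have hle : M.map F.subtype ≤ F := Subgroup.map_subtype_le M
    have hrel : (M.map F.subtype).relIndex F = p := by
      change ((M.map F.subtype).comap F.subtype).index = p
      rw [Subgroup.comap_map_eq_self_of_injective F.subtype_injective]
      exact hidx
    haveI := hmax _ hle hrel
    obtain ⟨m, hm, hm'⟩ := verbalPow_centralizes_prime_section (M.map F.subtype) F hrel a haK y hy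
    have : m = ⟨_, hmemF⟩ := Subtype.ext hm'
    rw [← this]
    exact hm
  have h := Cfsg.Agent.S0029.result (Subgroup.zpowers k) F hA hcard htriv
  intro y hy
  have := (Subgroup.mem_centralizer_iff.1 (h (Subgroup.mem_zpowers k))) y hy
  exact this.symm

/-- A cyclic normal `p`-subgroup is centralized by the `p'`-elements of `G' G^{p-1}`. -/
theorem verbalPow_centralizes_of_isCyclic {p : ℕ} [hp : Fact p.Prime]
    (F : Subgroup G) [hF : F.Normal] (hFp : IsPGroup p F) [IsCyclic F]
    (k : G) (hk : k ∈ verbalPow G (p - 1)) (hcop : (orderOf k).Coprime p) :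
    ∀ y ∈ F, k * y = y * k :=
  verbalPow_centralizes_of_maximal_normal F hFp
    (fun M hM _ => Cfsg.Agent.Lib.Helper9.normal_of_le_of_isCyclic_normal F M hM) k hk hcop


/-- In a noncyclic group `F'` of order `p^(d+1)` whose subgroups of order `p^d` are all normal in
`G`, the group `F'` itself is normal in `G`. -/
theorem normal_of_noncyclic_of_maximal_normal {p : ℕ} [hp : Fact p.Prime] (d : ℕ)
    (F' : Subgroup G) (hcard : Nat.card F' = p ^ (d + 1)) (hnc : ¬ IsCyclic F')
    (hmax : ∀ M : Subgroup G, M ≤ F' → Nat.card M = p ^ d → M.Normal) : F'.Normal := by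
  refine ⟨fun y hy g => ?_⟩
  let y' : F' := ⟨y, hy⟩
  have h1 : Nat.card (Subgroup.zpowers y') ∣ p ^ (d + 1) := by
    rw [← hcard]; exact Subgroup.card_subgroup_dvd_card _
  obtain ⟨j, hj, hj'⟩ := (Nat.dvd_prime_pow hp.out).1 h1
  have hjd : j ≤ d := by
    by_contra hcon
    have hj1 : j = d + 1 := by omega
    apply hnc
    have htop : Subgroup.zpowers y' = ⊤ := by
      apply Subgroup.eq_top_of_card_eq
      rw [hj', hj1, hcard]
    exact ⟨⟨y', fun z => by
      have : z ∈ Subgroup.zpowers y' := by rw [htop]; exact Subgroup.mem_top z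
      exact this⟩⟩
  have hdvd : p ^ d ∣ Nat.card F' := by rw [hcard]; exact pow_dvd_pow p (Nat.le_succ d)
  obtain ⟨M, hM, hle⟩ := Sylow.exists_subgroup_card_pow_prime_le p hdvd (Subgroup.zpowers y') hj' hjd
  have hMF : M.map F'.subtype ≤ F' := Subgroup.map_subtype_le M
  have hMc : Nat.card (M.map F'.subtype) = p ^ d := by
    rw [Subgroup.card_map_of_injective F'.subtype_injective, hM]
  have hn := hmax _ hMF hMc
  have hyM : y ∈ M.map F'.subtype := ⟨y', hle (Subgroup.mem_zpowers y'), rfl⟩
  exact hMF (hn.conj_mem y hyM g)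

/-- **Lemma V.** Let `P` be a normal `p`-subgroup of `G` all of whose subgroups of order `p^d`
(and of order `4` when `p^d = 2`) are normal in `G`, with `p ≤ p^d < |P|`. Then every `p'`-element
of `G' G^{p-1}` commutes with every element of `P` of order `p` (or `4` when `p = 2`). -/
theorem verbalPow_centralizes_small {p : ℕ} [hp : Fact p.Prime] (P : Subgroup G)
    (hP : IsPGroup p P) (d : ℕ) (hd : 1 ≤ d) (hlt : p ^ d < Nat.card P)
    (hnorm : ∀ F : Subgroup G, F ≤ P →
      (Nat.card F = p ^ d ∨ (p ^ d = 2 ∧ Nat.card F = 4)) → F.Normal)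
    (k : G) (hk : k ∈ verbalPow G (p - 1)) (hcop : (orderOf k).Coprime p)
    (x : G) (hx : x ∈ P) (hxo : x ^ p = 1 ∨ (p = 2 ∧ x ^ 4 = 1)) : k * x = x * k := by
  obtain ⟨a, ha⟩ := IsPGroup.iff_card.mp hP
  have hda : d < a := by
    rw [ha] at hlt
    exact (Nat.pow_lt_pow_iff_right hp.out.one_lt).1 hlt
  -- find a normal subgroup `F ∋ x` of order `p^d`, or a cyclic normal subgroup containing `x`
  have hF : ∃ F : Subgroup G, F ≤ P ∧ x ∈ F ∧ F.Normal ∧ (IsCyclic F ∨ Nat.card F = p ^ d) := by
    by_cases hdiv : orderOf x ∣ p ^ d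
    · let x' : P := ⟨x, hx⟩
      have hox : orderOf x' = orderOf x := Subgroup.orderOf_mk x hx
      obtain ⟨j, hj, hj'⟩ := (Nat.dvd_prime_pow hp.out).1 hdiv
      have hC : Nat.card (Subgroup.zpowers x') = p ^ j := by
        rw [Nat.card_zpowers, hox, hj']
      have hdvd : p ^ d ∣ Nat.card P := by rw [ha]; exact pow_dvd_pow p hda.le
      obtain ⟨F, hFc, hle⟩ := Sylow.exists_subgroup_card_pow_prime_le p hdvd _ hC hj
      have hFP : F.map P.subtype ≤ P := Subgroup.map_subtype_le F
      have hFc' : Nat.card (F.map P.subtype) = p ^ d := by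
        rw [Subgroup.card_map_of_injective P.subtype_injective, hFc]
      exact ⟨F.map P.subtype, hFP, ⟨x', hle (Subgroup.mem_zpowers x'), rfl⟩,
        hnorm _ hFP (Or.inl hFc'), Or.inr hFc'⟩
    · -- then `p = 2`, `d = 1` and `x` has order 4
      have h4 : p = 2 ∧ x ^ 4 = 1 := by
        rcases hxo with h | h
        · exfalso
          apply hdiv
          exact (orderOf_dvd_of_pow_eq_one h).trans (dvd_pow_self p (by omega))
        · exact h
      obtain ⟨hp2, hx4⟩ := h4
      have hd1 : d = 1 := by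
        by_contra hne
        apply hdiv
        have h2 : 2 ≤ d := by omega
        have : (4 : ℕ) ∣ p ^ d := by
          rw [hp2]
          calc (4 : ℕ) = 2 ^ 2 := by norm_num
            _ ∣ 2 ^ d := pow_dvd_pow 2 h2
        exact (orderOf_dvd_of_pow_eq_one hx4).trans this
      have ho4 : orderOf x = 4 := by
        have h1 : orderOf x ∣ 2 ^ 2 := by
          have := orderOf_dvd_of_pow_eq_one hx4
          norm_num; exact this
        obtain ⟨j, hj, hj'⟩ := (Nat.dvd_prime_pow Nat.prime_two).1 h1
        have : j = 2 := by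
          by_contra hne
          apply hdiv
          rw [hj', hp2, hd1]
          exact pow_dvd_pow 2 (by omega)
        rw [hj', this]; norm_num
      have hle : Subgroup.zpowers x ≤ P := (Subgroup.zpowers_le).2 hx
      have hc : Nat.card (Subgroup.zpowers x) = 4 := by rw [Nat.card_zpowers, ho4]
      have h2 : p ^ d = 2 := by rw [hp2, hd1]; norm_num
      exact ⟨Subgroup.zpowers x, hle, Subgroup.mem_zpowers x, hnorm _ hle (Or.inr ⟨h2, hc⟩),
        Or.inl inferInstance⟩
  obtain ⟨F, hFP, hxF, hFn, hFcyc⟩ := hF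
  have hFp : IsPGroup p F := hP.to_le hFP
  by_cases hcyc : IsCyclic F
  · exact verbalPow_centralizes_of_isCyclic F hFp k hk hcop x hxF
  · have hFc : Nat.card F = p ^ d := hFcyc.resolve_left hcyc
    -- enlarge `F` to `F'` of order `p^(d+1)` inside `P`
    have hdvd : p ^ (d + 1) ∣ Nat.card P := by rw [ha]; exact pow_dvd_pow p hda
    have hFc0 : Nat.card (F.subgroupOf P) = p ^ d := by
      rw [Nat.card_congr (Subgroup.subgroupOfEquivOfLe hFP).toEquiv, hFc]
    obtain ⟨F0, hF0c, hle0⟩ :=
      Sylow.exists_subgroup_card_pow_prime_le p hdvd (F.subgroupOf P) hFc0 (Nat.le_succ d)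
    have hF'P : F0.map P.subtype ≤ P := Subgroup.map_subtype_le F0
    have hF'c : Nat.card (F0.map P.subtype) = p ^ (d + 1) := by
      rw [Subgroup.card_map_of_injective P.subtype_injective, hF0c]
    have hFF' : F ≤ F0.map P.subtype := by
      intro z hz
      exact ⟨⟨z, hFP hz⟩, hle0 (Subgroup.mem_subgroupOf.2 hz), rfl⟩
    have hnc' : ¬ IsCyclic (F0.map P.subtype) := by
      intro h
      exact hcyc (Subgroup.isCyclic_of_le hFF')
    have hmaxn : ∀ M : Subgroup G, M ≤ F0.map P.subtype → Nat.card M = p ^ d → M.Normal :=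
      fun M hM hMc => hnorm M (hM.trans hF'P) (Or.inl hMc)
    haveI hF'n : (F0.map P.subtype).Normal :=
      normal_of_noncyclic_of_maximal_normal d _ hF'c hnc' hmaxn
    refine verbalPow_centralizes_of_maximal_normal (F0.map P.subtype) (hP.to_le hF'P) ?_ k hk hcop
      x (hFF' hxF)
    intro M hM hrel
    apply hmaxn M hM
    have h1 := card_mul_relIndex_of_le hM
    rw [hrel, hF'c, pow_succ] at h1
    exact Nat.eq_of_mul_eq_mul_right hp.out.pos h1

end Cfsg.Agent.Lib.Helper67
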