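import Mathlib
import Cfsg.Prelude.Def_SolvableStructure
import Cfsg.Agent.Lib.Helper9.SS
import Cfsg.Agent.Lib.Helper9.SS3
import Cfsg.Agent.Lib.Helper76.Huppert

/-!
# Supersolvability over a normal `p`-subgroup on which `G` acts "supersolvably" (helper67)

If `P ⊴ G` is a `p`-group, `K ⊴ G` with `G/K` abelian of exponent dividing `p - 1` such that the
`p'`-elements of `K` centralize `P`, and `G/P` is supersolvable, then `G` is supersolvable.
-/

set_option autoImplicit false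

namespace Cfsg.Agent.Lib.Helper67

open scoped commutatorElement

universe u

section lift

variable {G : Type*} [Group G] [Finite G]

theorem exists_pow_coprime_order {p : ℕ} [hp : Fact p.Prime] (k : G) :
    ∃ a : ℕ, (orderOf (k ^ p ^ a)).Coprime p := by
  have hm0 : orderOf k ≠ 0 := (orderOf_pos k).ne'
  obtain ⟨a, m', hm', hm⟩ := Nat.exists_eq_pow_mul_and_not_dvd hm0 p hp.out.ne_one
  refine ⟨a, ?_⟩
  have : (k ^ p ^ a) ^ m' = 1 := by
    rw [← pow_mul, ← hm, pow_orderOf_eq_one]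
  have hdvd := orderOf_dvd_of_pow_eq_one this
  exact Nat.Coprime.coprime_dvd_left hdvd ((Nat.Prime.coprime_iff_not_dvd hp.out).2 hm').symm

theorem exists_coprime_lift {H : Type*} [Group H] {p : ℕ} [hp : Fact p.Prime] (f : G →* H)
    (k : G) (hcop : (orderOf (f k)).Coprime p) :
    ∃ k₁ ∈ Subgroup.zpowers k, f k₁ = f k ∧ (orderOf k₁).Coprime p := by
  have hm0 : orderOf k ≠ 0 := (orderOf_pos k).ne'
  obtain ⟨a, m', hm', hm⟩ := Nat.exists_eq_pow_mul_and_not_dvd hm0 p hp.out.ne_one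
  have h1 : (p ^ a).Coprime (orderOf (f k)) := Nat.Coprime.pow_left a hcop.symm
  obtain ⟨t, ht⟩ := exists_pow_eq_self_of_coprime h1
  refine ⟨(k ^ p ^ a) ^ t, ?_, ?_, ?_⟩
  · exact Subgroup.pow_mem _ (Subgroup.pow_mem _ (Subgroup.mem_zpowers k) _) _
  · rw [map_pow, map_pow, ht]
  · have : ((k ^ p ^ a) ^ t) ^ m' = 1 := by
      rw [← pow_mul, ← pow_mul, mul_left_comm, ← hm, mul_comm, pow_mul, pow_orderOf_eq_one, one_pow]
    have hdvd := orderOf_dvd_of_pow_eq_one this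
    exact Nat.Coprime.coprime_dvd_left hdvd ((Nat.Prime.coprime_iff_not_dvd hp.out).2 hm').symm

end lift

section omega

variable {G : Type*} [Group G]

/-- `Ω₁(Z(P))` as a subgroup of `G`. -/
def omegaCenter (p : ℕ) (P : Subgroup G) : Subgroup G where
  carrier := {x | x ∈ P ∧ x ^ p = 1 ∧ ∀ y ∈ P, y * x = x * y}
  mul_mem' := by
    rintro a b ⟨ha, ha1, ha2⟩ ⟨hb, hb1, hb2⟩
    refine ⟨P.mul_mem ha hb, ?_, ?_⟩
    · have hc : Commute a b := (ha2 b hb).symm
      rw [hc.mul_pow, ha1, hb1, one_mul]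
    · intro y hy
      rw [← mul_assoc, ha2 y hy, mul_assoc, hb2 y hy, mul_assoc]
  one_mem' := ⟨P.one_mem, one_pow p, fun y _ => by rw [mul_one, one_mul]⟩
  inv_mem' := by
    rintro a ⟨ha, ha1, ha2⟩
    refine ⟨P.inv_mem ha, by rw [inv_pow, ha1, inv_one], ?_⟩
    intro y hy
    have := ha2 y hy
    calc y * a⁻¹ = a⁻¹ * (a * y) * a⁻¹ := by group
      _ = a⁻¹ * (y * a) * a⁻¹ := by rw [this]
      _ = a⁻¹ * y := by group

theorem omegaCenter_le (p : ℕ) (P : Subgroup G) : omegaCenter p P ≤ P := fun _ hx => hx.1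

instance omegaCenter_normal (p : ℕ) (P : Subgroup G) [hP : P.Normal] :
    (omegaCenter p P).Normal := by
  refine ⟨fun x hx g => ?_⟩
  obtain ⟨hx0, hx1, hx2⟩ := hx
  refine ⟨hP.conj_mem x hx0 g, by rw [conj_pow, hx1]; group, ?_⟩
  intro y hy
  have hy' : g⁻¹ * y * g ∈ P := by
    have := hP.conj_mem y hy g⁻¹
    rwa [inv_inv] at this
  have := hx2 _ hy'
  calc y * (g * x * g⁻¹) = g * ((g⁻¹ * y * g) * x) * g⁻¹ := by group
    _ = g * (x * (g⁻¹ * y * g)) * g⁻¹ := by rw [this]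
    _ = g * x * g⁻¹ * y := by group

theorem omegaCenter_ne_bot [Finite G] {p : ℕ} [hp : Fact p.Prime] (P : Subgroup G)
    (hP : IsPGroup p P) (hne : P ≠ ⊥) : omegaCenter p P ≠ ⊥ := by
  haveI : Nontrivial P := (Subgroup.nontrivial_iff_ne_bot P).2 hne
  haveI : Nontrivial (Subgroup.center P) := hP.center_nontrivial
  obtain ⟨⟨z, hz⟩, hz1⟩ := exists_ne (1 : Subgroup.center P)
  have hz1' : z ≠ 1 := fun h => hz1 (Subtype.ext h)
  obtain ⟨j, hj⟩ := (IsPGroup.iff_orderOf.1 hP) z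
  have hj0 : j ≠ 0 := by
    rintro rfl
    rw [pow_zero, orderOf_eq_one_iff] at hj
    exact hz1' hj
  obtain ⟨i, rfl⟩ := Nat.exists_eq_succ_of_ne_zero hj0
  have hw1 : z ^ p ^ i ≠ 1 := by
    apply pow_ne_one_of_lt_orderOf (pow_pos hp.out.pos i).ne'
    rw [hj]
    exact Nat.pow_lt_pow_right hp.out.one_lt (Nat.lt_succ_self i)
  have hwp : (z ^ p ^ i) ^ p = 1 := by
    rw [← pow_mul, ← pow_succ, ← hj, pow_orderOf_eq_one]
  have hwc : z ^ p ^ i ∈ Subgroup.center P := Subgroup.pow_mem _ hz _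
  intro hbot
  have hmem : ((z ^ p ^ i : P) : G) ∈ omegaCenter p P := by
    refine ⟨(z ^ p ^ i).2, ?_, ?_⟩
    · have := congrArg Subtype.val hwp
      simpa using this
    · intro y hy
      have := (Subgroup.mem_center_iff.1 hwc) ⟨y, hy⟩
      have := congrArg Subtype.val this
      simpa using this
  rw [hbot, Subgroup.mem_bot] at hmem
  apply hw1
  exact Subtype.ext hmem

theorem omegaCenter_comm (p : ℕ) (P : Subgroup G) (a b : G) (ha : a ∈ omegaCenter p P)
    (hb : b ∈ omegaCenter p P) : a * b = b * a := hb.2.2 a ha.1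

end omega


section main

variable {G : Type*} [Group G] [Finite G]

/-- If the `p'`-elements of `K ⊴ G` centralize the normal `p`-subgroup `W ≠ ⊥`, then `K` has a
nontrivial fixed point on `W`. -/
theorem exists_ne_one_mem_centralizer {p : ℕ} [hp : Fact p.Prime] (W K : Subgroup G)
    [hW : W.Normal] (hWp : IsPGroup p W) (hWne : W ≠ ⊥)
    (hK3 : ∀ k ∈ K, (orderOf k).Coprime p → ∀ x ∈ W, k * x = x * k) :
    ∃ b ∈ W, b ≠ 1 ∧ b ∈ Subgroup.centralizer (K : Set G) := by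
  let ρ : K →* MulAut W := (MulAut.conjNormal (H := W)).comp K.subtype
  have hA : IsPGroup p ρ.range := by
    rintro ⟨_, ⟨k, rfl⟩⟩
    obtain ⟨a, ha⟩ := exists_pow_coprime_order (p := p) (k : G)
    refine ⟨a, ?_⟩
    apply Subtype.ext
    rw [Subgroup.coe_pow, Subgroup.coe_one, ← map_pow]
    apply MulEquiv.ext
    intro w
    apply Subtype.ext
    change ((k ^ p ^ a : K) : G) * w * ((k ^ p ^ a : K) : G)⁻¹ = w
    have h1 := hK3 _ (K.pow_mem k.2 _) ha w w.2
    rw [Subgroup.coe_pow, h1, mul_inv_cancel_right]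
  have hcard : p ∣ Nat.card W := by
    obtain ⟨j, hj⟩ := IsPGroup.iff_card.mp hWp
    have hj0 : j ≠ 0 := by
      rintro rfl
      rw [pow_zero] at hj
      exact hWne (Subgroup.card_eq_one.1 hj)
    rw [hj]
    exact dvd_pow_self p hj0
  have hone : (1 : W) ∈ MulAction.fixedPoints ρ.range W := by
    intro a
    rw [Subgroup.smul_def, MulAut.smul_def, map_one]
  obtain ⟨b, hb, hb1⟩ := hA.exists_fixed_point_of_prime_dvd_card_of_fixed_point W hcard hone
  refine ⟨b, b.2, fun h => hb1 (Subtype.ext h.symm), ?_⟩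
  rw [Subgroup.mem_centralizer_iff]
  intro k hk
  have h1 := hb ⟨ρ ⟨k, hk⟩, ⟨_, rfl⟩⟩
  rw [Subgroup.smul_def, MulAut.smul_def] at h1
  have h2 := congrArg Subtype.val h1
  change k * b * k⁻¹ = b at h2
  calc k * b = (k * b * k⁻¹) * k := by group
    _ = b * k := by rw [h2]

/-- Under the hypotheses of the main theorem of this file, a nontrivial `P` contains a nontrivial
cyclic normal subgroup of `G`. -/
theorem exists_cyclic_normal_le {p : ℕ} [hp : Fact p.Prime] (P K : Subgroup G) [hPn : P.Normal]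
    [hKn : K.Normal] (hP : IsPGroup p P) (hPne : P ≠ ⊥)
    (hK1 : ∀ g h : G, ⁅g, h⁆ ∈ K) (hK2 : ∀ g : G, g ^ (p - 1) ∈ K)
    (hK3 : ∀ k ∈ K, (orderOf k).Coprime p → ∀ x ∈ P, k * x = x * k) :
    ∃ C : Subgroup G, C ≤ P ∧ C.Normal ∧ C ≠ ⊥ ∧ IsCyclic C := by
  -- the elementary abelian normal subgroup `W = Ω₁(Z(P))`
  have hWP : omegaCenter p P ≤ P := omegaCenter_le p P
  have hWne : omegaCenter p P ≠ ⊥ := omegaCenter_ne_bot P hP hPne
  obtain ⟨b, hbW, hb1, hbC⟩ := exists_ne_one_mem_centralizer (omegaCenter p P) K (hP.to_le hWP)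
    hWne (fun k hk hc x hx => hK3 k hk hc x (hWP hx))
  -- `W₀ = C_W(K)` is normal and nontrivial; choose `N ≤ W₀` minimal normal
  let S : Set (Subgroup G) :=
    {N | N.Normal ∧ N ≠ ⊥ ∧ N ≤ omegaCenter p P ⊓ Subgroup.centralizer (K : Set G)}
  have hS : S.Nonempty := by
    refine ⟨omegaCenter p P ⊓ Subgroup.centralizer (K : Set G), ?_, ?_, le_rfl⟩
    · exact Subgroup.normal_inf_normal _ _
    · intro h
      have : b ∈ omegaCenter p P ⊓ Subgroup.centralizer (K : Set G) := ⟨hbW, hbC⟩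
      rw [h, Subgroup.mem_bot] at this
      exact hb1 this
  obtain ⟨N, ⟨hNn, hNne, hNle⟩, hNmin⟩ := (wellFounded_lt (α := Subgroup G)).has_min S hS
  haveI := hNn
  have hNW : N ≤ omegaCenter p P := hNle.trans inf_le_left
  have hNC : ∀ n ∈ N, ∀ k ∈ K, k * n = n * k := fun n hn k hk =>
    (Subgroup.mem_centralizer_iff.1 (hNle hn).2) k hk
  have hab : ∀ a b : N, a * b = b * a := fun a b =>
    Subtype.ext (omegaCenter_comm p P a b (hNW a.2) (hNW b.2))
  have hexp : ∀ n ∈ N, n ^ p = 1 := fun n hn => (hNW hn).2.1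
  -- every element of `G` acts on `N` as a power map
  have hpow : ∀ h : G, ∃ c : ℕ, ∀ n ∈ N, h * n * h⁻¹ = n ^ c := by
    intro h
    obtain ⟨c, n₀, hn₀, hn₀1, hc⟩ := Cfsg.Agent.Lib.Helper76.exists_conj_eq_pow N hab hexp hNne h
      (by
        intro n hn
        rw [hNC n hn _ (hK2 h), mul_inv_cancel_right])
    let E : Subgroup G :=
      { carrier := {n | n ∈ N ∧ h * n * h⁻¹ = n ^ c}
        mul_mem' := by
          rintro a b ⟨ha, ha'⟩ ⟨hb, hb'⟩
          refine ⟨N.mul_mem ha hb, ?_⟩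
          have hcm : Commute a b := omegaCenter_comm p P a b (hNW ha) (hNW hb)
          rw [hcm.mul_pow, ← ha', ← hb']; group
        one_mem' := ⟨N.one_mem, by simp⟩
        inv_mem' := by
          rintro a ⟨ha, ha'⟩
          refine ⟨N.inv_mem ha, ?_⟩
          rw [inv_pow, ← ha']; group }
    have hEn : E.Normal := by
      refine ⟨fun n hn g => ?_⟩
      obtain ⟨hn1, hn2⟩ := hn
      refine ⟨hNn.conj_mem n hn1 g, ?_⟩
      have hc0 : ⁅h⁻¹, g⁻¹⁆ * n = n * ⁅h⁻¹, g⁻¹⁆ := hNC n hn1 _ (hK1 _ _)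
      calc h * (g * n * g⁻¹) * h⁻¹
          = g * (h * (⁅h⁻¹, g⁻¹⁆ * n * ⁅h⁻¹, g⁻¹⁆⁻¹) * h⁻¹) * g⁻¹ := by
            rw [commutatorElement_def]; group
        _ = g * (h * n * h⁻¹) * g⁻¹ := by rw [hc0, mul_inv_cancel_right]
        _ = g * n ^ c * g⁻¹ := by rw [hn2]
        _ = (g * n * g⁻¹) ^ c := by rw [conj_pow]
    have hEne : E ≠ ⊥ := by
      intro hE
      have : n₀ ∈ E := ⟨hn₀, hc⟩
      rw [hE, Subgroup.mem_bot] at this
      exact hn₀1 this
    have hEN : E ≤ N := fun n hn => hn.1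
    have hEeq : E = N := by
      rcases eq_or_lt_of_le hEN with h | h
      · exact h
      · exact absurd h (hNmin E ⟨hEn, hEne, hEN.trans hNle⟩)
    refine ⟨c, fun n hn => ?_⟩
    have : n ∈ E := by rw [hEeq]; exact hn
    exact this.2
  obtain ⟨n₁, hn₁, hn₁1⟩ : ∃ n₁ : G, n₁ ∈ N ∧ n₁ ≠ 1 := by
    by_contra hcon
    push Not at hcon
    apply hNne
    rw [Subgroup.eq_bot_iff_forall]
    exact hcon
  have hCN : Subgroup.zpowers n₁ ≤ N := (Subgroup.zpowers_le).2 hn₁
  refine ⟨Subgroup.zpowers n₁, hCN.trans (hNW.trans hWP), ⟨fun y hy g => ?_⟩, ?_, inferInstance⟩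
  · obtain ⟨c, hc⟩ := hpow g
    rw [hc y (hCN hy)]
    exact Subgroup.pow_mem _ hy c
  · intro hC
    have : n₁ ∈ Subgroup.zpowers n₁ := Subgroup.mem_zpowers n₁
    rw [hC, Subgroup.mem_bot] at this
    exact hn₁1 this

end main

/-- **Main theorem.** `P ⊴ G` a `p`-group, `K ⊴ G` with `G/K` abelian of exponent dividing `p-1`
and the `p'`-elements of `K` centralizing `P`; if `G/P` is supersolvable then so is `G`. -/
theorem isSupersolvable_of_normal_pSubgroup_aux (n : ℕ) :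
    ∀ {G : Type u} [Group G] [Finite G] {p : ℕ} [Fact p.Prime] (P K : Subgroup G) [P.Normal]
      [K.Normal], Nat.card P = n → IsPGroup p P → (∀ g h : G, ⁅g, h⁆ ∈ K) →
      (∀ g : G, g ^ (p - 1) ∈ K) →
      (∀ k ∈ K, (orderOf k).Coprime p → ∀ x ∈ P, k * x = x * k) →
      Cfsg.IsSupersolvable (G ⧸ P) → Cfsg.IsSupersolvable G := by
  induction n using Nat.strong_induction_on with
  | _ n ih =>
    intro G _ _ p hp P K hPn hKn hn hP hK1 hK2 hK3 hss
    by_cases hPne : P = ⊥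
    · subst hPne
      exact Cfsg.Agent.Lib.Helper9.isSupersolvable_of_mulEquiv hss QuotientGroup.quotientBot
    obtain ⟨C, hCP, hCn, hCne, hCcyc⟩ := exists_cyclic_normal_le P K hP hPne hK1 hK2 hK3
    haveI := hCn
    haveI := hCcyc
    apply Cfsg.Agent.Lib.Helper9.isSupersolvable_of_quotient_cyclic C
    have hcardlt : Nat.card (P.map (QuotientGroup.mk' C)) < n := by
      have h1 := Subgroup.relIndex_ker (QuotientGroup.mk' C) (K := P)
      rw [QuotientGroup.ker_mk'] at h1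
      rw [← h1, ← hn]
      have h2 : Nat.card C * C.relIndex P = Nat.card P := by
        have h3 := (C.subgroupOf P).card_mul_index
        rw [Nat.card_congr (Subgroup.subgroupOfEquivOfLe hCP).toEquiv] at h3
        exact h3
      have h4 : 1 < Nat.card C := by
        rw [Subgroup.one_lt_card_iff_ne_bot]; exact hCne
      have h5 : 0 < C.relIndex P := by
        rcases Nat.eq_zero_or_pos (C.relIndex P) with h | h
        · rw [h, mul_zero] at h2
          exact absurd h2.symm (Nat.card_pos.ne')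
        · exact h
      rw [← h2]
      nlinarith
    refine ih _ hcardlt (P.map (QuotientGroup.mk' C)) (K.map (QuotientGroup.mk' C)) rfl
      (hP.map _) ?_ ?_ ?_ ?_
    · intro g h
      obtain ⟨g, rfl⟩ := QuotientGroup.mk'_surjective C g
      obtain ⟨h, rfl⟩ := QuotientGroup.mk'_surjective C h
      rw [← map_commutatorElement]
      exact Subgroup.mem_map_of_mem _ (hK1 g h)
    · intro g
      obtain ⟨g, rfl⟩ := QuotientGroup.mk'_surjective C g
      rw [← map_pow]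
      exact Subgroup.mem_map_of_mem _ (hK2 g)
    · rintro _ ⟨k, hk, rfl⟩ hcop _ ⟨x, hx, rfl⟩
      obtain ⟨k₁, hk₁, hk₁', hk₁c⟩ := exists_coprime_lift (QuotientGroup.mk' C) k hcop
      have hk₁K : k₁ ∈ K := by
        obtain ⟨i, rfl⟩ := Subgroup.mem_zpowers_iff.1 hk₁
        exact K.zpow_mem hk i
      rw [← hk₁', ← map_mul, ← map_mul, hK3 k₁ hk₁K hk₁c x hx]
    · exact Cfsg.Agent.Lib.Helper9.isSupersolvable_of_mulEquiv hss
        (QuotientGroup.quotientQuotientEquivQuotient C P hCP).symm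

theorem isSupersolvable_of_normal_pSubgroup {G : Type u} [Group G] [Finite G] {p : ℕ}
    [Fact p.Prime] (P K : Subgroup G) [P.Normal] [K.Normal] (hP : IsPGroup p P)
    (hK1 : ∀ g h : G, ⁅g, h⁆ ∈ K) (hK2 : ∀ g : G, g ^ (p - 1) ∈ K)
    (hK3 : ∀ k ∈ K, (orderOf k).Coprime p → ∀ x ∈ P, k * x = x * k)
    (hss : Cfsg.IsSupersolvable (G ⧸ P)) : Cfsg.IsSupersolvable G :=
  isSupersolvable_of_normal_pSubgroup_aux _ P K rfl hP hK1 hK2 hK3 hss

end Cfsg.Agent.Lib.Helper67
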