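import Mathlib
import Cfsg.Agent.Lib.Helper67.FixedOrderNormal
import Cfsg.Agent.Lib.Helper67.SSNormalP

/-!
# Supersolvability from normality of all subgroups of a fixed order (helper67)

`P ⊴ G` a `p`-group with all subgroups of order `p^d` (and of order `4` if `p^d = 2`) normal in `G`,
`p ≤ p^d < |P|`, and `G/P` supersolvable: then `G` is supersolvable.
-/

set_option autoImplicit false

namespace Cfsg.Agent.Lib.Helper67

universe u

theorem isSupersolvable_of_fixed_order_normal {G : Type u} [Group G] [Finite G] {p : ℕ}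
    [hp : Fact p.Prime] (P : Subgroup G) [hPn : P.Normal] (hP : IsPGroup p P) (d : ℕ) (hd : 1 ≤ d)
    (hlt : p ^ d < Nat.card P)
    (hnorm : ∀ F : Subgroup G, F ≤ P →
      (Nat.card F = p ^ d ∨ (p ^ d = 2 ∧ Nat.card F = 4)) → F.Normal)
    (hss : Cfsg.IsSupersolvable (G ⧸ P)) : Cfsg.IsSupersolvable G := by
  apply isSupersolvable_of_normal_pSubgroup P (verbalPow G (p - 1)) hP
    (commutator_mem_verbalPow _) (pow_mem_verbalPow _) ?_ hss
  intro k hk hcop
  apply Cfsg.Agent.Lib.Helper29.centralizes_of_centralizes_omega_gen p k hcop P hP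
    (by rw [Subgroup.normalizer_eq_top]; trivial)
  intro x hx hxo
  exact verbalPow_centralizes_small P hP d hd hlt hnorm k hk hcop x hx hxo

end Cfsg.Agent.Lib.Helper67
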