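import Mathlib
import Cfsg.Agent.Lib.Helper33.SylIn
import Cfsg.Agent.Lib.Helper34.ThompsonAux
import Cfsg.Agent.Lib.Helper76.SylowNorm

/-!
# `ℋ`-subgroups (helper67)

`F ≤ G` is an `ℋ`-subgroup when `F^g ∩ N_G(F) ≤ F` for all `g`.
* an `ℋ`-subgroup of a normal `p`-subgroup is normal;
* the `ℋ`-property of a `p`-subgroup passes to the quotient by a normal `p'`-subgroup;
* the `ℋ`-property passes to subgroups containing `F`.
-/

set_option autoImplicit false

namespace Cfsg.Agent.Lib.Helper67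

open Cfsg.Agent.Lib.Helper33

variable {G : Type*} [Group G]

/-- `F` is an `ℋ`-subgroup of `G`. -/
def IsHSub (F : Subgroup G) : Prop :=
  ∀ g : G, F.map (MulAut.conj g).toMonoidHom ⊓ Subgroup.normalizer (F : Set G) ≤ F

theorem IsHSub.mem_normalizer_of_cj_le [Finite G] {F : Subgroup G} (h : IsHSub F) {g : G}
    (hg : cj g F ≤ Subgroup.normalizer (F : Set G)) : g ∈ Subgroup.normalizer (F : Set G) := by
  rw [mem_normalizer_iff_cj_eq]
  apply Subgroup.eq_of_le_of_card_ge
  · exact (le_inf le_rfl hg).trans (h g)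
  · rw [card_cj]

/-- An `ℋ`-subgroup contained in a normal `p`-subgroup is normal. -/
theorem IsHSub.normal_of_le_normal_pGroup [Finite G] {p : ℕ} [Fact p.Prime] {F P : Subgroup G}
    (h : IsHSub F) [hPn : P.Normal] (hP : IsPGroup p P) (hFP : F ≤ P) : F.Normal := by
  have h1 : P ≤ Subgroup.normalizer (F : Set G) := by
    by_contra hcon
    have hlt : P ⊓ Subgroup.normalizer (F : Set G) < P := by
      refine lt_of_le_of_ne inf_le_left (fun heq => hcon ?_)
      rw [← heq]; exact inf_le_right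
    have h2 := Cfsg.Agent.Lib.Helper34.lt_inf_normalizer_of_lt hP hlt
    obtain ⟨g, hg, hgN⟩ := SetLike.exists_of_lt h2
    have hgn : cj g (P ⊓ Subgroup.normalizer (F : Set G)) = P ⊓ Subgroup.normalizer (F : Set G) :=
      cj_eq_self_of_mem_normalizer hg.2
    have hFN : F ≤ P ⊓ Subgroup.normalizer (F : Set G) := le_inf hFP Subgroup.le_normalizer
    have h3 : cj g F ≤ Subgroup.normalizer (F : Set G) := by
      have := cj_mono (g := g) hFN
      rw [hgn] at this
      exact this.trans inf_le_right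
    exact hgN ⟨hg.1, h.mem_normalizer_of_cj_le h3⟩
  rw [← Subgroup.normalizer_eq_top_iff, eq_top_iff]
  intro g _
  apply h.mem_normalizer_of_cj_le
  calc cj g F ≤ cj g P := cj_mono hFP
    _ = P := cj_eq_self_of_mem_normalizer (by rw [Subgroup.normalizer_eq_top]; trivial)
    _ ≤ Subgroup.normalizer (F : Set G) := h1

/-- Decomposition of an element into commuting `p`- and `p'`-parts (both powers of it). -/
theorem exists_p_part_mul [Finite G] (p : ℕ) [hp : Fact p.Prime] (n : G) :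
    ∃ u v : G, u ∈ Subgroup.zpowers n ∧ v ∈ Subgroup.zpowers n ∧ n = u * v ∧
      IsPGroup p (Subgroup.zpowers u) ∧ (orderOf v).Coprime p := by
  have hm0 : orderOf n ≠ 0 := (orderOf_pos n).ne'
  obtain ⟨a, m', hm', hm⟩ := Nat.exists_eq_pow_mul_and_not_dvd hm0 p hp.out.ne_one
  have hcop : Nat.Coprime (p ^ a) m' :=
    Nat.Coprime.pow_left a ((Nat.Prime.coprime_iff_not_dvd hp.out).2 hm')
  have hbez := Nat.gcd_eq_gcd_ab (p ^ a) m'
  rw [hcop.gcd_eq_one] at hbez
  refine ⟨n ^ ((m' : ℤ) * Nat.gcdB (p ^ a) m'), n ^ (((p ^ a : ℕ) : ℤ) * Nat.gcdA (p ^ a) m'),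
    Subgroup.zpow_mem_zpowers _ _, Subgroup.zpow_mem_zpowers _ _, ?_, ?_, ?_⟩
  · rw [← zpow_add, add_comm, ← hbez]; simp
  · have h1 : (n ^ ((m' : ℤ) * Nat.gcdB (p ^ a) m')) ^ (p ^ a) = 1 := by
      rw [← zpow_natCast, ← zpow_mul, mul_right_comm, ← Nat.cast_mul, mul_comm m', ← hm, zpow_mul,
        zpow_natCast, pow_orderOf_eq_one, one_zpow]
    have h2 := orderOf_dvd_of_pow_eq_one h1
    obtain ⟨j, _, hj⟩ := (Nat.dvd_prime_pow hp.out).1 h2
    exact IsPGroup.of_card (n := j) (by rw [Nat.card_zpowers, hj])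
  · have h1 : (n ^ (((p ^ a : ℕ) : ℤ) * Nat.gcdA (p ^ a) m')) ^ m' = 1 := by
      rw [← zpow_natCast, ← zpow_mul, mul_right_comm, ← Nat.cast_mul, ← hm, zpow_mul,
        zpow_natCast, pow_orderOf_eq_one, one_zpow]
    have hdvd := orderOf_dvd_of_pow_eq_one h1
    exact Nat.Coprime.coprime_dvd_left hdvd ((Nat.Prime.coprime_iff_not_dvd hp.out).2 hm').symm

/-- The `ℋ`-property of a `p`-subgroup passes to the quotient by a normal `p'`-subgroup. -/
theorem IsHSub.map_mk_of_coprime [Finite G] {p : ℕ} [hp : Fact p.Prime] {F : Subgroup G}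
    (h : IsHSub F) (hF : IsPGroup p F) (K : Subgroup G) [K.Normal]
    (hK : (Nat.card K).Coprime p) : IsHSub (F.map (QuotientGroup.mk' K)) := by
  intro gbar
  obtain ⟨g, rfl⟩ := QuotientGroup.mk'_surjective K gbar
  rw [Cfsg.Agent.Lib.Helper34.normalizer_map_mk_of_coprime K hK F hF]
  rintro xbar ⟨hx1, hx2⟩
  obtain ⟨n, hn, rfl⟩ := hx2
  obtain ⟨y, hy, hyn⟩ : ∃ y ∈ cj g F, QuotientGroup.mk' K y = QuotientGroup.mk' K n := by
    obtain ⟨_, ⟨f, hf, rfl⟩, hfx⟩ := hx1
    refine ⟨g * f * g⁻¹, conj_mem_cj hf, ?_⟩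
    rw [← hfx]
    simp
  have hnL : n ∈ cj g F ⊔ K := by
    have h1 : y⁻¹ * n ∈ K := QuotientGroup.eq.1 hyn
    have h2 : n = y * (y⁻¹ * n) := by group
    rw [h2]
    exact Subgroup.mul_mem_sup hy h1
  have hSyl : SylIn p (cj g F) (cj g F ⊔ K) := by
    refine ⟨le_sup_left, isPGroup_cj hF, ?_⟩
    rw [Cfsg.Agent.Lib.Helper76.relIndex_sup_of_normal]
    intro hdvd
    have h1 : p ∣ Nat.card K := hdvd.trans (Subgroup.relIndex_dvd_card _ _)
    have := Nat.Coprime.eq_one_of_dvd hK.symm h1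
    exact hp.out.ne_one this
  obtain ⟨u, v, hu, hv, huv, hup, hvc⟩ := exists_p_part_mul p n
  -- the `p'`-part lies in `K`
  have hvK : v ∈ K := by
    rw [← QuotientGroup.eq_one_iff (N := K)]
    change QuotientGroup.mk' K v = 1
    have hmem : QuotientGroup.mk' K v ∈ (cj g F).map (QuotientGroup.mk' K) := by
      obtain ⟨i, rfl⟩ := Subgroup.mem_zpowers_iff.1 hv
      rw [map_zpow, ← hyn]
      exact Subgroup.zpow_mem _ (Subgroup.mem_map_of_mem _ hy) i
    have hpg : IsPGroup p ((cj g F).map (QuotientGroup.mk' K)) := (isPGroup_cj hF).map _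
    obtain ⟨j, hj⟩ := hpg ⟨_, hmem⟩
    have hj' : (QuotientGroup.mk' K v) ^ p ^ j = 1 := by
      have := congrArg Subtype.val hj
      simpa using this
    have h1 : orderOf (QuotientGroup.mk' K v) ∣ p ^ j := orderOf_dvd_of_pow_eq_one hj'
    have h2 : orderOf (QuotientGroup.mk' K v) ∣ orderOf v := orderOf_map_dvd _ v
    have h3 : (orderOf v).Coprime (p ^ j) := Nat.Coprime.pow_right j hvc
    have h4 := Nat.Coprime.eq_one_of_dvd (Nat.Coprime.coprime_dvd_left h2 h3) h1
    exact orderOf_eq_one_iff.1 h4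
  -- the `p`-part lies in `F`
  have huF : u ∈ F := by
    have huL : Subgroup.zpowers u ≤ cj g F ⊔ K := by
      rw [Subgroup.zpowers_le]
      obtain ⟨i, rfl⟩ := Subgroup.mem_zpowers_iff.1 hu
      exact Subgroup.zpow_mem _ hnL i
    obtain ⟨l, _, hl⟩ := hSyl.exists_cj_le huL hup
    have h1 : l * u * l⁻¹ ∈ cj g F := hl (conj_mem_cj (Subgroup.mem_zpowers u))
    have h2 : u ∈ cj (l⁻¹ * g) F := by
      rw [cj_mul, mem_cj, inv_inv]
      exact h1
    have h3 : u ∈ Subgroup.normalizer (F : Set G) := by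
      obtain ⟨i, rfl⟩ := Subgroup.mem_zpowers_iff.1 hu
      exact Subgroup.zpow_mem _ hn i
    exact h (l⁻¹ * g) ⟨h2, h3⟩
  rw [huv, map_mul]
  have : QuotientGroup.mk' K v = 1 := by
    change ((v : G) : G ⧸ K) = 1
    rw [QuotientGroup.eq_one_iff]; exact hvK
  rw [this, mul_one]
  exact Subgroup.mem_map_of_mem _ huF

/-- The `ℋ`-property passes to a subgroup containing `F`. -/
theorem IsHSub.of_map_subtype {E : Subgroup G} {F : Subgroup E} (h : IsHSub (F.map E.subtype)) :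
    IsHSub F := by
  intro e x hx
  obtain ⟨hx1, hx2⟩ := hx
  have hFE : F.map E.subtype ≤ E.subtype.range := by
    rw [Subgroup.range_subtype]; exact Subgroup.map_subtype_le F
  have hnorm := Subgroup.comap_normalizer_eq_of_le_range hFE
  rw [Subgroup.comap_map_eq_self_of_injective E.subtype_injective] at hnorm
  have h1 : (x : G) ∈ Subgroup.normalizer ((F.map E.subtype : Subgroup G) : Set G) := by
    have : x ∈ (Subgroup.normalizer ((F.map E.subtype : Subgroup G) : Set G)).comap E.subtype := by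
      rw [hnorm]; exact hx2
    exact this
  have h2 : (x : G) ∈ (F.map E.subtype).map (MulAut.conj (e : G)).toMonoidHom := by
    obtain ⟨f, hf, rfl⟩ := hx1
    exact ⟨f, ⟨f, hf, rfl⟩, rfl⟩
  obtain ⟨f, hf, hfx⟩ := h (e : G) ⟨h2, h1⟩
  have : f = x := Subtype.ext hfx
  rw [← this]
  exact hf

end Cfsg.Agent.Lib.Helper67
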