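import Mathlib
import Cfsg.Prelude.Def_SolvableStructure
import Cfsg.Agent.Lib.Helper34.NPC
import Cfsg.Agent.Lib.Helper67.HSub
import Cfsg.Agent.Lib.Helper67.FixedOrderSS

/-!
# Supersolvability from `ℋ`-subgroups of fixed order (helper67)

Reduction of S3032 to S3031: the main theorem `isSupersolvable_of_fixedOrderH` takes the statement
of S3031 as a hypothesis.
-/

set_option autoImplicit false

namespace Cfsg.Agent.Lib.Helper67

open Cfsg.Agent.Lib.Helper33 Cfsg.Agent.Lib.Helper34 Cfsg.Agent.Lib.Helper9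

universe u

/-- The statement of S3031, for groups in the universe `u`. -/
def S3031Statement : Prop :=
  ∀ (H : Type u) [Group H] [Finite H] (p : ℕ) [Fact p.Prime], p ∣ Nat.card H →
    (∀ q : ℕ, q.Prime → q ∣ Nat.card H → p ≤ q) → ∀ P : Sylow p H,
    (IsCyclic ↥(P : Subgroup H) ∨ ∃ D : Subgroup H, D ≤ (P : Subgroup H) ∧ 1 < Nat.card D ∧
      Nat.card D < Nat.card (P : Subgroup H) ∧
      ∀ E : Subgroup H, E ≤ (P : Subgroup H) →
        (Nat.card E = Nat.card D ∨ (Nat.card D = 2 ∧ Nat.card E = 4)) → IsHSub E) →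
    Cfsg.HasNormalPComplement p H

/-- The hypothesis of S3032 on the pair `(G, E)`. -/
def FixedOrderH (G : Type u) [Group G] (E : Subgroup G) : Prop :=
  ∀ (p : ℕ), p.Prime → ∀ P : Subgroup G, P ≤ E → IsPGroup p P → ¬ p ∣ P.relIndex E →
    ¬ IsCyclic ↥P →
      ∃ D : Subgroup G, D ≤ P ∧ 1 < Nat.card D ∧ Nat.card D < Nat.card P ∧
        ∀ F : Subgroup G, F ≤ P →
          (Nat.card F = Nat.card D ∨ (Nat.card D = 2 ∧ Nat.card F = 4)) → IsHSub F

section

variable {G : Type u} [Group G] [Finite G]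

/-- The case where `E` is a `p`-group. -/
theorem isSupersolvable_of_isPGroup_of_fixedOrderH {p : ℕ} [hp : Fact p.Prime] (E : Subgroup G)
    [E.Normal] (hE : IsPGroup p E) (hH : FixedOrderH G E)
    (hss : Cfsg.IsSupersolvable (G ⧸ E)) : Cfsg.IsSupersolvable G := by
  by_cases hcyc : IsCyclic E
  · exact isSupersolvable_of_quotient_cyclic E hss
  obtain ⟨D, hDE, hD1, hDlt, hDH⟩ := hH p hp.out E le_rfl hE
    (by rw [Subgroup.relIndex_self]; exact hp.out.not_dvd_one) hcyc
  obtain ⟨d, hd⟩ := IsPGroup.iff_card.mp (hE.to_le hDE)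
  have hd1 : 1 ≤ d := by
    by_contra hcon
    have h0 : d = 0 := by omega
    rw [h0, pow_zero] at hd
    omega
  rw [hd] at hDlt
  refine isSupersolvable_of_fixed_order_normal E hE d hd1 hDlt ?_ hss
  intro F hFE hFc
  have hF : IsHSub F := hDH F hFE (by rw [hd]; exact hFc)
  exact hF.normal_of_le_normal_pGroup hE hFE

/-- From S3031: `E` has a normal `p`-complement for the smallest prime `p`, and it is normal
in `G`. -/
theorem exists_normal_complement_of_fixedOrderH (h3031 : S3031Statement.{u}) (E : Subgroup G)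
    [hEn : E.Normal] {p : ℕ} [hp : Fact p.Prime] (hpE : p ∣ Nat.card E)
    (hmin : ∀ q : ℕ, q.Prime → q ∣ Nat.card E → p ≤ q) (hH : FixedOrderH G E) :
    ∃ K : Subgroup G, K.Normal ∧ K ≤ E ∧ (Nat.card K).Coprime p ∧ ∃ k, K.relIndex E = p ^ k := by
  obtain P₀ : Sylow p E := default
  have hnpc : Cfsg.HasNormalPComplement p E := by
    apply h3031 E p hpE hmin P₀
    by_cases hc : IsCyclic (P₀ : Subgroup E)
    · exact Or.inl hc
    right
    have hSyl : SylIn p ((P₀ : Subgroup E).map E.subtype) E := sylIn_of_sylow P₀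
    have hnc : ¬ IsCyclic ((P₀ : Subgroup E).map E.subtype) := by
      intro h
      apply hc
      exact isCyclic_of_surjective
        ((P₀ : Subgroup E).equivMapOfInjective E.subtype E.subtype_injective).symm
        (MulEquiv.surjective _)
    obtain ⟨D, hDP, hD1, hDlt, hDH⟩ := hH p hp.out _ hSyl.1 hSyl.2.1 hSyl.2.2 hnc
    have hDE : D ≤ E := hDP.trans hSyl.1
    have hDc : Nat.card (D.subgroupOf E) = Nat.card D :=
      Nat.card_congr (Subgroup.subgroupOfEquivOfLe hDE).toEquiv
    refine ⟨D.subgroupOf E, ?_, ?_, ?_, ?_⟩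
    · intro x hx
      obtain ⟨y, hy, hyx⟩ := hDP (Subgroup.mem_subgroupOf.1 hx)
      have : y = x := Subtype.ext hyx
      rw [← this]; exact hy
    · rw [hDc]; exact hD1
    · rw [hDc]
      rw [Subgroup.card_map_of_injective E.subtype_injective] at hDlt
      exact hDlt
    · intro E' hE'P hE'c
      apply IsHSub.of_map_subtype
      apply hDH (E'.map E.subtype) (Subgroup.map_mono hE'P)
      rw [Subgroup.card_map_of_injective E.subtype_injective]
      rw [hDc] at hE'c
      exact hE'c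
  rw [hasNPC_iff_exists_normal] at hnpc
  obtain ⟨N, hNn, hNc, k, hNk⟩ := hnpc
  refine ⟨N.map E.subtype, ?_, Subgroup.map_subtype_le N, ?_, k, ?_⟩
  · refine ⟨fun x hx g => ?_⟩
    obtain ⟨n, hn, rfl⟩ := hx
    have hLc : (Nat.card (N.map (MulAut.conjNormal g : MulAut E).toMonoidHom)).Coprime p := by
      rw [Subgroup.card_map_of_injective (MulEquiv.injective _)]; exact hNc
    have hLN : N.map (MulAut.conjNormal g : MulAut E).toMonoidHom ≤ N :=
      le_of_card_coprime_of_index_pow N hNk _ hLc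
    exact ⟨MulAut.conjNormal g n, hLN ⟨n, hn, rfl⟩, rfl⟩
  · rw [Subgroup.card_map_of_injective E.subtype_injective]; exact hNc
  · change ((N.map E.subtype).comap E.subtype).index = p ^ k
    rw [Subgroup.comap_map_eq_self_of_injective E.subtype_injective]; exact hNk

theorem card_map_mk_of_coprime {p : ℕ} [hp : Fact p.Prime] (F K : Subgroup G) [K.Normal]
    (hF : IsPGroup p F) (hK : (Nat.card K).Coprime p) :
    Nat.card (F.map (QuotientGroup.mk' K)) = Nat.card F := by
  have h1 := Subgroup.relIndex_ker (QuotientGroup.mk' K) (K := F)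
  rw [QuotientGroup.ker_mk'] at h1
  rw [← h1, ← Subgroup.inf_relIndex_right]
  obtain ⟨j, hj⟩ := IsPGroup.iff_card.mp hF
  have h2 : K ⊓ F = ⊥ := by
    apply Subgroup.inf_eq_bot_of_coprime
    rw [hj]; exact Nat.Coprime.pow_right j hK
  rw [h2, Subgroup.relIndex_bot_left]

theorem map_mk_eq_of_sylIn {p : ℕ} [hp : Fact p.Prime] (P E K : Subgroup G) [K.Normal]
    (hKE : K ≤ E) {k : ℕ} (hKk : K.relIndex E = p ^ k) (hSyl : SylIn p P E) :
    P.map (QuotientGroup.mk' K) = E.map (QuotientGroup.mk' K) := by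
  apply le_antisymm (Subgroup.map_mono hSyl.1)
  rw [← Subgroup.relIndex_eq_one]
  have hEbc : Nat.card (E.map (QuotientGroup.mk' K)) = p ^ k := by
    have := Subgroup.relIndex_ker (QuotientGroup.mk' K) (K := E)
    rw [QuotientGroup.ker_mk'] at this
    rw [← this, hKk]
  have h1 : (P.map (QuotientGroup.mk' K)).relIndex (E.map (QuotientGroup.mk' K)) ∣ p ^ k := by
    rw [← hEbc]; exact Subgroup.relIndex_dvd_card _ _
  have h2 : (P.map (QuotientGroup.mk' K)).relIndex (E.map (QuotientGroup.mk' K)) ∣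
      P.relIndex E := by
    rw [Subgroup.relIndex_map_map, QuotientGroup.ker_mk', sup_eq_left.2 hKE]
    exact Subgroup.relIndex_dvd_of_le_left E le_sup_left
  obtain ⟨j, _, hj⟩ := (Nat.dvd_prime_pow hp.out).1 h1
  rw [hj] at h2 ⊢
  have : j = 0 := by
    by_contra h0
    exact hSyl.2.2 ((dvd_pow_self p h0).trans h2)
  rw [this, pow_zero]

/-- The hypothesis passes to `(G/K, E/K)` for a normal `p`-complement `K` of `E`. -/
theorem FixedOrderH.quotient (E K : Subgroup G) [E.Normal] [K.Normal] {p : ℕ}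
    [hp : Fact p.Prime] (hKE : K ≤ E) (hKc : (Nat.card K).Coprime p) {k : ℕ}
    (hKk : K.relIndex E = p ^ k) (hH : FixedOrderH G E) :
    FixedOrderH (G ⧸ K) (E.map (QuotientGroup.mk' K)) := by
  intro r hr Rb hRbE hRbr hRbidx hRbnc
  have hEbc : Nat.card (E.map (QuotientGroup.mk' K)) = p ^ k := by
    have := Subgroup.relIndex_ker (QuotientGroup.mk' K) (K := E)
    rw [QuotientGroup.ker_mk'] at this
    rw [← this, hKk]
  have hrp : r = p := by
    by_contra hne
    apply hRbnc
    have hbot : Rb = ⊥ := by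
      haveI : Fact r.Prime := ⟨hr⟩
      obtain ⟨i, hi⟩ := IsPGroup.iff_card.mp hRbr
      have hdvd : Nat.card Rb ∣ p ^ k := by rw [← hEbc]; exact Subgroup.card_dvd_of_le hRbE
      rw [hi] at hdvd
      have hi0 : i = 0 := by
        by_contra h0
        have h1 : r ∣ p ^ k := (dvd_pow_self r h0).trans hdvd
        exact hne ((Nat.prime_dvd_prime_iff_eq hr hp.out).1 (hr.dvd_of_dvd_pow h1))
      rw [hi0, pow_zero] at hi
      exact Subgroup.card_eq_one.1 hi
    rw [hbot]; infer_instance
  rw [hrp] at hRbr hRbidx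
  clear hr
  have hRbeq : Rb = E.map (QuotientGroup.mk' K) := by
    apply le_antisymm hRbE
    rw [← Subgroup.relIndex_eq_one]
    have hdvd : Rb.relIndex (E.map (QuotientGroup.mk' K)) ∣ p ^ k := by
      rw [← hEbc]; exact Subgroup.relIndex_dvd_card _ _
    obtain ⟨j, _, hj⟩ := (Nat.dvd_prime_pow hp.out).1 hdvd
    rw [hj] at hRbidx ⊢
    have : j = 0 := by
      by_contra h0
      exact hRbidx (dvd_pow_self p h0)
    rw [this, pow_zero]
  obtain P₀ : Sylow p E := default
  have hSyl : SylIn p ((P₀ : Subgroup E).map E.subtype) E := sylIn_of_sylow P₀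
  obtain ⟨P, hPdef⟩ : ∃ P : Subgroup G, P = (P₀ : Subgroup E).map E.subtype := ⟨_, rfl⟩
  rw [← hPdef] at hSyl
  have hPmap : P.map (QuotientGroup.mk' K) = Rb := by
    rw [hRbeq]; exact map_mk_eq_of_sylIn P E K hKE hKk hSyl
  have hPp : IsPGroup p P := hSyl.2.1
  have hPnc : ¬ IsCyclic P := by
    intro h
    apply hRbnc
    rw [← hPmap]
    exact isCyclic_of_surjective ((QuotientGroup.mk' K).subgroupMap P)
      ((QuotientGroup.mk' K).subgroupMap_surjective P)
  obtain ⟨D, hDP, hD1, hDlt, hDH⟩ := hH p hp.out P hSyl.1 hPp hSyl.2.2 hPnc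
  have hDc : Nat.card (D.map (QuotientGroup.mk' K)) = Nat.card D :=
    card_map_mk_of_coprime D K (hPp.to_le hDP) hKc
  have hPc : Nat.card Rb = Nat.card P := by
    rw [← hPmap]; exact card_map_mk_of_coprime P K hPp hKc
  refine ⟨D.map (QuotientGroup.mk' K), ?_, ?_, ?_, ?_⟩
  · rw [← hPmap]; exact Subgroup.map_mono hDP
  · rw [hDc]; exact hD1
  · rw [hDc, hPc]; exact hDlt
  · intro Fb hFb hFbc
    rw [hDc] at hFbc
    -- lift `Fb` to `F ≤ P`
    have hFle : Fb.comap (QuotientGroup.mk' K) ⊓ P ≤ P := inf_le_right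
    have hFp : IsPGroup p (Fb.comap (QuotientGroup.mk' K) ⊓ P : Subgroup G) := hPp.to_le hFle
    have hFmap : (Fb.comap (QuotientGroup.mk' K) ⊓ P).map (QuotientGroup.mk' K) = Fb := by
      apply le_antisymm
      · rintro _ ⟨x, hx, rfl⟩
        exact hx.1
      · intro xb hxb
        have : xb ∈ P.map (QuotientGroup.mk' K) := by rw [hPmap]; exact hFb hxb
        obtain ⟨y, hy, rfl⟩ := this
        exact ⟨y, ⟨hxb, hy⟩, rfl⟩
    have hFc : Nat.card (Fb.comap (QuotientGroup.mk' K) ⊓ P : Subgroup G) = Nat.card Fb := by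
      rw [← card_map_mk_of_coprime _ K hFp hKc, hFmap]
    have hF : IsHSub (Fb.comap (QuotientGroup.mk' K) ⊓ P) := by
      apply hDH _ hFle
      rw [hFc]; exact hFbc
    have := hF.map_mk_of_coprime hFp K hKc
    rw [hFmap] at this
    exact this

/-- The hypothesis passes to `(G, K)` for a normal `p`-complement `K` of `E`. -/
theorem FixedOrderH.sub (E K : Subgroup G) {p : ℕ} [hp : Fact p.Prime] (hKE : K ≤ E)
    (hKc : (Nat.card K).Coprime p) {k : ℕ} (hKk : K.relIndex E = p ^ k)
    (hH : FixedOrderH G E) : FixedOrderH G K := by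
  intro r hr R hRK hRr hRidx hRnc
  apply hH r hr R (hRK.trans hKE) hRr ?_ hRnc
  rw [← Subgroup.relIndex_mul_relIndex R K E hRK hKE, hKk]
  intro hdvd
  rcases (Nat.Prime.dvd_mul hr).1 hdvd with h | h
  · exact hRidx h
  · have hrp : r = p := (Nat.prime_dvd_prime_iff_eq hr hp.out).1 (hr.dvd_of_dvd_pow h)
    apply hRnc
    have hbot : R = ⊥ := by
      haveI : Fact r.Prime := ⟨hr⟩
      obtain ⟨i, hi⟩ := IsPGroup.iff_card.mp hRr
      have hdvd' : Nat.card R ∣ Nat.card K := Subgroup.card_dvd_of_le hRK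
      rw [hi, hrp] at hdvd'
      have hi0 : i = 0 := by
        by_contra h0
        have h1 : p ∣ Nat.card K := (dvd_pow_self p h0).trans hdvd'
        exact hp.out.ne_one (Nat.Coprime.eq_one_of_dvd hKc.symm h1)
      rw [hi0, pow_zero] at hi
      exact Subgroup.card_eq_one.1 hi
    rw [hbot]; infer_instance

end

/-- **Main reduction**: S3031 implies S3032. -/
theorem isSupersolvable_of_fixedOrderH_aux (h3031 : S3031Statement.{u}) (n : ℕ) :
    ∀ {G : Type u} [Group G] [Finite G] (E : Subgroup G) [E.Normal],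
      Nat.card G + Nat.card E = n → Cfsg.IsSupersolvable (G ⧸ E) → FixedOrderH G E →
      Cfsg.IsSupersolvable G := by
  induction n using Nat.strong_induction_on with
  | _ n ih =>
    intro G _ _ E hEn hn hss hH
    by_cases hE1 : E = ⊥
    · subst hE1
      exact isSupersolvable_of_mulEquiv hss QuotientGroup.quotientBot
    have hc1 : Nat.card E ≠ 1 := fun h => hE1 (Subgroup.card_eq_one.1 h)
    obtain ⟨p, hpdef⟩ : ∃ p, p = (Nat.card E).minFac := ⟨_, rfl⟩
    haveI hp : Fact p.Prime := ⟨by rw [hpdef]; exact Nat.minFac_prime hc1⟩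
    have hpE : p ∣ Nat.card E := by rw [hpdef]; exact Nat.minFac_dvd _
    have hmin : ∀ q : ℕ, q.Prime → q ∣ Nat.card E → p ≤ q := fun q hq hqE => by
      rw [hpdef]; exact Nat.minFac_le_of_dvd hq.two_le hqE
    by_cases hEp : IsPGroup p E
    · exact isSupersolvable_of_isPGroup_of_fixedOrderH E hEp hH hss
    obtain ⟨K, hKn, hKE, hKc, k, hKk⟩ := exists_normal_complement_of_fixedOrderH h3031 E hpE hmin hH
    haveI := hKn
    have hKne : K ≠ ⊥ := by
      intro h
      apply hEp
      rw [h, Subgroup.relIndex_bot_left] at hKk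
      exact IsPGroup.of_card hKk
    have hKlt : Nat.card K < Nat.card E := by
      have hle : Nat.card K ≤ Nat.card E := Nat.le_of_dvd Nat.card_pos (Subgroup.card_dvd_of_le hKE)
      rcases lt_or_eq_of_le hle with h | h
      · exact h
      · exfalso
        rw [← h] at hpE
        exact hp.out.ne_one (Nat.Coprime.eq_one_of_dvd hKc.symm hpE)
    have hGK : Nat.card (G ⧸ K) < Nat.card G := by
      have h1 := K.card_mul_index
      rw [Subgroup.index_eq_card] at h1
      have h2 : 1 < Nat.card K := by rw [Subgroup.one_lt_card_iff_ne_bot]; exact hKne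
      have h3 : 0 < Nat.card (G ⧸ K) := Nat.card_pos
      rw [← h1]
      nlinarith
    have hEK : Nat.card (E.map (QuotientGroup.mk' K)) ≤ Nat.card E :=
      Nat.le_of_dvd Nat.card_pos (Subgroup.card_map_dvd _ _)
    have hssK : Cfsg.IsSupersolvable (G ⧸ K) := by
      refine ih (Nat.card (G ⧸ K) + Nat.card (E.map (QuotientGroup.mk' K))) (by omega)
        (E.map (QuotientGroup.mk' K)) rfl ?_ (FixedOrderH.quotient E K hKE hKc hKk hH)
      exact isSupersolvable_of_mulEquiv hss (QuotientGroup.quotientQuotientEquivQuotient K E hKE).symm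
    exact ih (Nat.card G + Nat.card K) (by omega) K rfl hssK (FixedOrderH.sub E K hKE hKc hKk hH)

theorem isSupersolvable_of_fixedOrderH (h3031 : S3031Statement.{u}) {G : Type u} [Group G]
    [Finite G] (E : Subgroup G) [E.Normal] (hss : Cfsg.IsSupersolvable (G ⧸ E))
    (hH : FixedOrderH G E) : Cfsg.IsSupersolvable G :=
  isSupersolvable_of_fixedOrderH_aux h3031 _ E rfl hss hH

end Cfsg.Agent.Lib.Helper67
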