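/-
helper67, project ASCHOE (helper55), core of module [E-O3O4P]:
SO₄⁺(F) = GL₂ ⊗ GL₂ (char ≠ 2): a 4 × 4 matrix indexed by `Fin 2 × Fin 2` which preserves the symmetric form
`J ⊗ J` (the polar form of `det` on 2 × 2 matrices, `J = !![0,1;-1,0]`) and has determinant 1 is a Kronecker product.
Proof: Cartan–Dieudonné (helper13 `isometry_mem_reflGroup`) on `(M₂(F), det)`; a reflection is
`m ↦ -(det v)⁻¹ v adj(m) v`; induction on the reflection word; the determinant separates the two cosets.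
-/
import Mathlib
import Cfsg.Agent.Lib.Helper13.ReflGen

set_option autoImplicit false
set_option linter.unusedSectionVars false
set_option linter.unnecessarySeqFocus false

namespace Cfsg.Agent.Lib.Helper67.OeSO4

open Matrix
open scoped Kronecker

variable {F : Type*} [Field F]

abbrev M2 (F : Type*) := Matrix (Fin 2) (Fin 2) F

/-- the determinant as a quadratic form on 2 × 2 matrices -/
def detQ (F : Type*) [Field F] : QuadraticForm F (M2 F) :=
  QuadraticMap.ofPolar (fun m : M2 F => m 0 0 * m 1 1 - m 0 1 * m 1 0)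
    (by intro a m; simp only [Matrix.smul_apply, smul_eq_mul]; ring)
    (by intro m m' n; simp only [QuadraticMap.polar, Matrix.add_apply]; ring)
    (by intro a m n; simp only [QuadraticMap.polar, Matrix.add_apply, Matrix.smul_apply, smul_eq_mul]; ring)

theorem detQ_apply (m : M2 F) : detQ F m = m 0 0 * m 1 1 - m 0 1 * m 1 0 := rfl

theorem detQ_eq_det (m : M2 F) : detQ F m = m.det := by
  rw [detQ_apply, Matrix.det_fin_two]

theorem polar_detQ (v m : M2 F) :
    QuadraticMap.polar (⇑(detQ F)) v m = v 0 0 * m 1 1 + v 1 1 * m 0 0 - v 0 1 * m 1 0 - v 1 0 * m 0 1 := by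
  simp only [QuadraticMap.polar, detQ_apply, Matrix.add_apply]; ring

theorem eq_zero_of_polar (m : M2 F) (h : ∀ n, QuadraticMap.polar (⇑(detQ F)) m n = 0) : m = 0 := by
  have h1 := h !![0, 0; 0, 1]
  have h2 := h !![1, 0; 0, 0]
  have h3 := h !![0, 0; 1, 0]
  have h4 := h !![0, 1; 0, 0]
  rw [polar_detQ] at h1 h2 h3 h4
  simp at h1 h2 h3 h4
  ext i j
  fin_cases i <;> fin_cases j <;> simp [h1, h2, h3, h4]

theorem detQ_nondeg : (QuadraticMap.polarBilin (detQ F)).Nondegenerate := by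
  constructor
  · intro m hm
    exact eq_zero_of_polar m hm
  · intro m hm
    apply eq_zero_of_polar m
    intro n
    rw [QuadraticMap.polar_comm]
    exact hm n


open Cfsg.Agent.Lib.Helper13

theorem refl_formula (v z : M2 F) (hv : detQ F v ≠ 0) :
    reflLin (detQ F) v z = (-(detQ F v)⁻¹ • v) * z.adjugate * v := by
  rw [reflLin_apply, polar_detQ]
  have hd : v 0 0 * v 1 1 - v 0 1 * v 1 0 ≠ 0 := by rwa [detQ_apply] at hv
  rw [detQ_apply, Matrix.adjugate_fin_two]
  ext i j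
  fin_cases i <;> fin_cases j <;>
    simp [Matrix.mul_apply, Fin.sum_univ_two] <;> field_simp <;> ring


theorem reflLin_reflLin' {V : Type*} [AddCommGroup V] [Module F V] (Q : QuadraticForm F V) (v : V)
    (hv : Q v ≠ 0) (z : V) : reflLin Q v (reflLin Q v z) = z := by
  rw [reflLin_apply, reflLin_apply]
  simp only [QuadraticMap.polar_sub_right, QuadraticMap.polar_smul_right, polar_self', smul_eq_mul]
  match_scalars <;> field_simp <;> ring

theorem adjugate_adjugate_two (m : M2 F) : m.adjugate.adjugate = m := by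
  rw [Matrix.adjugate_fin_two, Matrix.adjugate_fin_two]
  ext i j
  fin_cases i <;> fin_cases j <;> simp

/-- `g` is `m ↦ x m y` or `m ↦ x adj(m) y`. -/
def PLR (g : M2 F → M2 F) : Prop :=
  (∃ x y : M2 F, ∀ m, g m = x * m * y) ∨ (∃ x y : M2 F, ∀ m, g m = x * m.adjugate * y)

theorem PLR_refl_comp (v : M2 F) (hv : detQ F v ≠ 0) (g : M2 F → M2 F) (hg : PLR g) :
    PLR (fun m => reflLin (detQ F) v (g m)) := by
  rcases hg with ⟨x, y, h⟩ | ⟨x, y, h⟩
  · right
    refine ⟨(-(detQ F v)⁻¹ • v) * y.adjugate, x.adjugate * v, fun m => ?_⟩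
    simp only
    rw [refl_formula v _ hv, h, Matrix.adjugate_mul_distrib, Matrix.adjugate_mul_distrib]
    simp only [Matrix.mul_assoc]
  · left
    refine ⟨(-(detQ F v)⁻¹ • v) * y.adjugate, x.adjugate * v, fun m => ?_⟩
    simp only
    rw [refl_formula v _ hv, h, Matrix.adjugate_mul_distrib, Matrix.adjugate_mul_distrib,
      adjugate_adjugate_two]
    simp only [Matrix.mul_assoc]

theorem exists_three (h2 : (2 : F) ≠ 0) (a b : F) : ∃ x : F, x ≠ a ∧ x ≠ b := by
  have h01 : (0 : F) ≠ 1 := zero_ne_one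
  have h1m : (1 : F) ≠ -1 := by
    intro h
    apply h2
    have : (1 : F) + 1 = 0 := by nth_rewrite 2 [h]; ring
    rw [← this]; norm_num
  have h0m : (0 : F) ≠ -1 := by
    intro h
    have : (1 : F) = 0 := by
      have := congrArg (fun t => -t) h
      simpa using this.symm
    exact one_ne_zero this
  by_cases ha0 : a = 0
  · by_cases hb1 : b = 1
    · exact ⟨-1, by rw [ha0]; exact fun h => h0m h.symm, by rw [hb1]; exact fun h => h1m h.symm⟩
    · exact ⟨1, by rw [ha0]; exact one_ne_zero, fun h => hb1 h.symm⟩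
  · by_cases hb0 : b = 0
    · by_cases ha1 : a = 1
      · exact ⟨-1, by rw [ha1]; exact fun h => h1m h.symm, by rw [hb0]; exact fun h => h0m h.symm⟩
      · exact ⟨1, fun h => ha1 h.symm, by rw [hb0]; exact one_ne_zero⟩
    · exact ⟨0, fun h => ha0 h.symm, fun h => hb0 h.symm⟩

theorem PLR_of_mem_reflGroup (g : M2 F ≃ₗ[F] M2 F)
    (hmem : g ∈ Subgroup.closure (reflSet (detQ F))) : PLR g := by
  induction hmem using Subgroup.closure_induction_left with
  | one => exact Or.inl ⟨1, 1, fun m => by simp⟩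
  | mul_left T hT y _ ih =>
    obtain ⟨v, hv, hTv⟩ := hT
    have := PLR_refl_comp v hv _ ih
    convert this using 2 with m
    exact hTv _
  | inv_mul_cancel T hT y _ ih =>
    obtain ⟨v, hv, hTv⟩ := hT
    have hinv : T⁻¹ = T := by
      apply inv_eq_of_mul_eq_one_right
      apply LinearEquiv.ext
      intro z
      change T (T z) = z
      rw [hTv, hTv, reflLin_reflLin' _ v hv]
    rw [hinv]
    have := PLR_refl_comp v hv _ ih
    convert this using 2 with m
    exact hTv _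

theorem PLR_of_isometry (h2 : (2 : F) ≠ 0) (g : M2 F ≃ₗ[F] M2 F)
    (hg : ∀ z, detQ F (g z) = detQ F z) : PLR g :=
  PLR_of_mem_reflGroup g
    (isometry_mem_reflGroup (detQ F) detQ_nondeg (Or.inl (exists_three h2)) g hg)


/-! ### matrix form -/

/-- the standard alternating 2 × 2 matrix -/
def J2 (F : Type*) [Field F] : M2 F := !![0, 1; -1, 0]

/-- vector to matrix -/
def mat (u : Fin 2 × Fin 2 → F) : M2 F := fun i j => u (i, j)

/-- matrix to vector -/
def vec (m : M2 F) : Fin 2 × Fin 2 → F := fun p => m p.1 p.2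

theorem mat_vec (m : M2 F) : mat (vec m) = m := rfl

theorem vec_mat (u : Fin 2 × Fin 2 → F) : vec (mat u) = u := by
  funext p; rfl

theorem dot_K (u : Fin 2 × Fin 2 → F) :
    u ⬝ᵥ ((J2 F ⊗ₖ J2 F) *ᵥ u) = 2 * detQ F (mat u) := by
  simp only [dotProduct, Matrix.mulVec, Fintype.sum_prod_type, Fin.sum_univ_two,
    Matrix.kroneckerMap_apply, J2, detQ_apply, mat]
  simp
  ring

theorem kron_mulVec (x y : M2 F) (m : M2 F) :
    (x ⊗ₖ yᵀ) *ᵥ vec m = vec (x * m * y) := by
  funext p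
  obtain ⟨i, j⟩ := p
  simp only [Matrix.mulVec, dotProduct, Fintype.sum_prod_type, Fin.sum_univ_two,
    Matrix.kroneckerMap_apply, vec, Matrix.mul_apply, Matrix.transpose_apply]
  ring


theorem vec_add (m m' : M2 F) : vec (m + m') = vec m + vec m' := by
  funext p; rfl

theorem vec_smul (a : F) (m : M2 F) : vec (a • m) = a • vec m := by
  funext p; rfl

theorem mat_add (u u' : Fin 2 × Fin 2 → F) : mat (u + u') = mat u + mat u' := by
  ext i j; rfl

theorem mat_smul (a : F) (u : Fin 2 × Fin 2 → F) : mat (a • u) = a • mat u := by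
  ext i j; rfl

/-- the linear map on 2 × 2 matrices given by a 4 × 4 matrix -/
def gLin (b : Matrix (Fin 2 × Fin 2) (Fin 2 × Fin 2) F) : M2 F →ₗ[F] M2 F where
  toFun m := mat (b *ᵥ vec m)
  map_add' m m' := by
    rw [vec_add, Matrix.mulVec_add, mat_add]
  map_smul' a m := by
    rw [vec_smul, Matrix.mulVec_smul, mat_smul]
    rfl

theorem gLin_apply (b : Matrix (Fin 2 × Fin 2) (Fin 2 × Fin 2) F) (m : M2 F) :
    gLin b m = mat (b *ᵥ vec m) := rfl

theorem gLin_isom (h2 : (2 : F) ≠ 0) (b : Matrix (Fin 2 × Fin 2) (Fin 2 × Fin 2) F)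
    (hb : bᵀ * (J2 F ⊗ₖ J2 F) * b = J2 F ⊗ₖ J2 F) (m : M2 F) :
    detQ F (gLin b m) = detQ F m := by
  have h1 := dot_K (b *ᵥ vec m)
  have h3 := dot_K (vec m)
  rw [mat_vec] at h3
  have h4 : vec m ⬝ᵥ ((bᵀ * (J2 F ⊗ₖ J2 F) * b) *ᵥ vec m) =
      (b *ᵥ vec m) ⬝ᵥ ((J2 F ⊗ₖ J2 F) *ᵥ (b *ᵥ vec m)) := by
    rw [Matrix.mul_assoc, ← Matrix.mulVec_mulVec, ← Matrix.mulVec_mulVec,
      Matrix.dotProduct_mulVec, Matrix.vecMul_transpose]
  rw [hb] at h4
  rw [gLin_apply]
  have h5 : 2 * detQ F (mat (b *ᵥ vec m)) = 2 * detQ F m := by rw [← h1, ← h3, h4]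
  exact mul_left_cancel₀ h2 h5


/-- the matrix of `m ↦ adj m` -/
def adjMat (F : Type*) [Field F] : Matrix (Fin 2 × Fin 2) (Fin 2 × Fin 2) F :=
  Matrix.diagonal (fun p : Fin 2 × Fin 2 => if p.1 = p.2 then (1 : F) else -1) *
    (Equiv.swap ((0 : Fin 2), (0 : Fin 2)) ((1 : Fin 2), (1 : Fin 2))).permMatrix F

theorem adjMat_mulVec (m : M2 F) : adjMat F *ᵥ vec m = vec m.adjugate := by
  unfold adjMat
  rw [← Matrix.mulVec_mulVec, Matrix.permMatrix_mulVec, Matrix.adjugate_fin_two]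
  funext p
  rw [Matrix.mulVec_diagonal]
  obtain ⟨i, j⟩ := p
  fin_cases i <;> fin_cases j <;> simp [vec, Equiv.swap_apply_def]

theorem det_adjMat : (adjMat F).det = -1 := by
  unfold adjMat
  rw [Matrix.det_mul, Matrix.det_diagonal, Matrix.det_permutation, Equiv.Perm.sign_swap (by decide),
    Fintype.prod_prod_type]
  simp [Fin.prod_univ_two]


/-- **SO₄⁺ = GL₂ ⊗ GL₂.**  A 4 × 4 matrix (indexed by `Fin 2 × Fin 2`) preserving the symmetric form
`J ⊗ J` (the polar form of `det` on 2 × 2 matrices) and of determinant 1 is a Kronecker product. -/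
theorem kron_of_isometry_det_one (h2 : (2 : F) ≠ 0) (b : Matrix (Fin 2 × Fin 2) (Fin 2 × Fin 2) F)
    (hb : bᵀ * (J2 F ⊗ₖ J2 F) * b = J2 F ⊗ₖ J2 F) (hdet : b.det = 1) :
    ∃ x y : M2 F, b = x ⊗ₖ y := by
  obtain ⟨g, hg⟩ := exists_equiv_of_isom (detQ F) detQ_nondeg (gLin b) (gLin_isom h2 b hb)
  have hP : PLR g := PLR_of_isometry h2 g (fun z => by rw [hg]; exact gLin_isom h2 b hb z)
  rcases hP with ⟨x, y, h⟩ | ⟨x, y, h⟩
  · refine ⟨x, yᵀ, ?_⟩
    rw [Matrix.ext_iff_mulVec]
    intro u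
    have hu := h (mat u)
    rw [hg, gLin_apply, vec_mat] at hu
    calc b *ᵥ u = vec (mat (b *ᵥ u)) := (vec_mat _).symm
      _ = vec (x * mat u * y) := by rw [hu]
      _ = (x ⊗ₖ yᵀ) *ᵥ vec (mat u) := (kron_mulVec x y _).symm
      _ = (x ⊗ₖ yᵀ) *ᵥ u := by rw [vec_mat]
  · exfalso
    have hbA : b = (x ⊗ₖ yᵀ) * adjMat F := by
      rw [Matrix.ext_iff_mulVec]
      intro u
      have hu := h (mat u)
      rw [hg, gLin_apply, vec_mat] at hu
      calc b *ᵥ u = vec (mat (b *ᵥ u)) := (vec_mat _).symm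
        _ = vec (x * (mat u).adjugate * y) := by rw [hu]
        _ = (x ⊗ₖ yᵀ) *ᵥ vec (mat u).adjugate := (kron_mulVec x y _).symm
        _ = (x ⊗ₖ yᵀ) *ᵥ (adjMat F *ᵥ vec (mat u)) := by rw [adjMat_mulVec]
        _ = ((x ⊗ₖ yᵀ) * adjMat F) *ᵥ u := by rw [vec_mat, Matrix.mulVec_mulVec]
    have hxy : x.det * y.det = 1 := by
      have h1 := gLin_isom h2 b hb 1
      rw [← hg, h 1, detQ_eq_det, detQ_eq_det, Matrix.adjugate_one, Matrix.mul_one, Matrix.det_mul,
        Matrix.det_one] at h1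
      exact h1
    have hd : b.det = -1 := by
      rw [hbA, Matrix.det_mul, det_adjMat, Matrix.det_kronecker, Matrix.det_transpose]
      simp only [Fintype.card_fin]
      have : x.det ^ 2 * y.det ^ 2 = 1 := by
        rw [← mul_pow, hxy, one_pow]
      rw [this]; ring
    rw [hdet] at hd
    apply h2
    have : (2 : F) = 1 + 1 := by norm_num
    rw [this]
    nth_rewrite 2 [hd]
    ring

end Cfsg.Agent.Lib.Helper67.OeSO4
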