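import Mathlib
import Cfsg.Agent.Lib.Helper24.PGroupBasic

/-!
# Power structure of `p`-central `p`-groups (`p` odd)

A finite `p`-group `T` is called `p`-central here if every element of order dividing `p` is central.
For odd `p` we prove (by induction on the order, through a maximal subgroup and the quotient by
`Ω₁(T)`) that `x ↦ x ^ p ^ i` is multiplicative on the elements killed by `p ^ (i + 1)`:

* `pow_mul_of_pcentral`: `x ^ p ^ (i+1) = 1 → y ^ p ^ (i+1) = 1 → (x * y) ^ p ^ i = x ^ p ^ i * y ^ p ^ i`.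

Consequently, inside an ambient group, for a `p`-central `p`-subgroup `K` the sets
`{x ∈ K | x ^ p ^ i = 1}` are subgroups (`omegaSub`), and consecutive layers have index dividing
the order of the first layer (`relIndex_omegaSub_dvd`).
-/

set_option autoImplicit false

open scoped commutatorElement

namespace Cfsg.Agent.Lib.Helper67

open Cfsg.Agent.Lib.Helper24

universe u

/-- the odd prime `p` divides `p.choose 2`. -/
theorem prime_dvd_choose_two {p : ℕ} (hp : p.Prime) (hp2 : p ≠ 2) : p ∣ p.choose 2 := by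
  apply Nat.Prime.dvd_choose_self hp (by norm_num)
  have := hp.two_le
  omega

/-- Step 1 of the induction: if the multiplicativity holds in all proper subgroups, then
`(u v)^p = u^p v^p` whenever `u, v` are killed by `p ^ 2`. -/
theorem pow_mul_step_one (p : ℕ) [hp : Fact p.Prime] (hp2 : p ≠ 2)
    (T : Type u) [Group T] [Finite T] (hT : IsPGroup p T)
    (hcen : ∀ x : T, x ^ p = 1 → ∀ y : T, x * y = y * x)
    (hsub : ∀ M : Subgroup T, M ≠ ⊤ → ∀ a ∈ M, ∀ b ∈ M, a ^ p ^ 2 = 1 → b ^ p ^ 2 = 1 →
      (a * b) ^ p = a ^ p * b ^ p)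
    (u v : T) (hu2 : u ^ p ^ 2 = 1) (hv2 : v ^ p ^ 2 = 1) : (u * v) ^ p = u ^ p * v ^ p := by
  by_cases hu : Subgroup.zpowers u = ⊤
  · have hv : v ∈ Subgroup.zpowers u := by rw [hu]; trivial
    obtain ⟨k, rfl⟩ := Subgroup.mem_zpowers_iff.mp hv
    have hc : Commute u (u ^ k) := (Commute.refl u).zpow_right k
    exact hc.mul_pow p
  · have hnil : Group.IsNilpotent T := hT.isNilpotent
    obtain ⟨M, hMco, huM⟩ := (eq_top_or_exists_le_coatom (Subgroup.zpowers u)).resolve_left hu
    have hMn : M.Normal :=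
      Subgroup.NormalizerCondition.normal_of_coatom M Group.normalizerCondition_of_isNilpotent hMco
    have huM' : u ∈ M := huM (Subgroup.mem_zpowers u)
    -- `u ^ p` is central
    have hup : (u ^ p) ^ p = 1 := by rw [← pow_mul, ← sq]; exact hu2
    have hupc : ∀ y : T, u ^ p * y = y * u ^ p := hcen _ hup
    -- the two elements `u⁻¹` and `v u v⁻¹` of `M`
    have h1 : u⁻¹ ∈ M := M.inv_mem huM'
    have h2 : v * u * v⁻¹ ∈ M := hMn.conj_mem u huM' v
    have h3 : (u⁻¹) ^ p ^ 2 = 1 := by rw [inv_pow, hu2, inv_one]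
    have h4 : (v * u * v⁻¹) ^ p ^ 2 = 1 := by rw [conj_pow, hu2]; group
    have h5 := hsub M hMco.1 _ h1 _ h2 h3 h4
    set c := u⁻¹ * (v * u * v⁻¹) with hc
    have hcp : c ^ p = 1 := by
      rw [h5, conj_pow, inv_pow]
      have : v * u ^ p * v⁻¹ = u ^ p := by
        rw [← hupc v]; group
      rw [this, inv_mul_cancel]
    have hcc : ∀ y : T, c * y = y * c := hcen c hcp
    have hrel : v * u = c * u * v := by
      have h6 : v * u = u * c * v := by rw [hc]; group
      rw [h6, ← hcc u]
    have key := mul_pow_of_central_comm u v c hrel (hcc u) (hcc v) p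
    obtain ⟨k, hk⟩ := prime_dvd_choose_two hp.out hp2
    rw [key, hk, pow_mul, hcp, one_pow, mul_one]

/-- **Power structure of `p`-central groups**, inductive form. -/
theorem pow_mul_of_pcentral_aux (p : ℕ) [hp : Fact p.Prime] (hp2 : p ≠ 2) :
    ∀ (n : ℕ) (T : Type u) [Group T] [Finite T], Nat.card T ≤ n → IsPGroup p T →
      (∀ x : T, x ^ p = 1 → ∀ y : T, x * y = y * x) →
      ∀ (i : ℕ) (x y : T), x ^ p ^ (i + 1) = 1 → y ^ p ^ (i + 1) = 1 →
        (x * y) ^ p ^ i = x ^ p ^ i * y ^ p ^ i := by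
  intro n
  induction n with
  | zero =>
    intro T _ _ hcard
    have := Nat.card_pos (α := T)
    omega
  | succ n ih =>
    intro T _ _ hcard hT hcen
    -- Step 1: the case `i = 1`
    have step1 : ∀ u v : T, u ^ p ^ 2 = 1 → v ^ p ^ 2 = 1 → (u * v) ^ p = u ^ p * v ^ p := by
      apply pow_mul_step_one p hp2 T hT hcen
      intro M hM a ha b hb ha2 hb2
      have hlt : Nat.card M < Nat.card T := by
        by_contra hge
        exact hM (M.eq_top_of_le_card (not_lt.mp hge))
      have hMc : Nat.card M ≤ n := by omega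
      have hMcen : ∀ x : M, x ^ p = 1 → ∀ y : M, x * y = y * x := by
        intro x hx y
        apply Subtype.ext
        have hx' : (x : T) ^ p = 1 := by
          have := congrArg Subtype.val hx
          simpa using this
        simpa using hcen (x : T) hx' (y : T)
      have := ih M hMc (hT.to_subgroup M) hMcen 1 ⟨a, ha⟩ ⟨b, hb⟩
        (by apply Subtype.ext; simpa using ha2) (by apply Subtype.ext; simpa using hb2)
      have h2 := congrArg Subtype.val this
      simpa using h2
    -- the subgroup `Ω₁(T)`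
    let T1 : Subgroup T :=
      { carrier := {x | x ^ p = 1}
        one_mem' := one_pow p
        mul_mem' := by
          intro a b ha hb
          have hab : Commute a b := hcen a ha b
          show (a * b) ^ p = 1
          rw [hab.mul_pow, ha, hb, one_mul]
        inv_mem' := by
          intro a ha
          show (a⁻¹) ^ p = 1
          rw [inv_pow, ha, inv_one] }
    have hT1mem : ∀ x : T, x ∈ T1 ↔ x ^ p = 1 := fun x => Iff.rfl
    have hT1n : T1.Normal := by
      constructor
      intro x hx g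
      rw [hT1mem] at hx ⊢
      rw [conj_pow, hx]; group
    intro i
    by_cases hT1 : T1 = ⊥
    · -- no elements of order `p`: everything killed by a power of `p` is trivial
      have htriv : ∀ (j : ℕ) (x : T), x ^ p ^ j = 1 → x = 1 := by
        intro j
        induction j with
        | zero => intro x hx; simpa using hx
        | succ j ihj =>
          intro x hx
          apply ihj
          have : (x ^ p ^ j) ∈ T1 := by
            rw [hT1mem, ← pow_mul, ← pow_succ]; exact hx
          rw [hT1] at this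
          exact Subgroup.mem_bot.mp this
      intro x y hx hy
      rw [htriv _ x hx, htriv _ y hy]; simp
    · -- the quotient by `Ω₁(T)` is smaller and again `p`-central
      have hQcard : Nat.card (T ⧸ T1) ≤ n := by
        have h1 : Nat.card T1 * Nat.card (T ⧸ T1) = Nat.card T := by
          rw [mul_comm]; exact (Subgroup.card_eq_card_quotient_mul_card_subgroup T1).symm
        have h2 : 2 ≤ Nat.card T1 := by
          have : Nontrivial T1 := (Subgroup.nontrivial_iff_ne_bot T1).mpr hT1
          exact Finite.one_lt_card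
        have h3 : 0 < Nat.card (T ⧸ T1) := Nat.card_pos
        nlinarith
      have hQcen : ∀ a : T ⧸ T1, a ^ p = 1 → ∀ b : T ⧸ T1, a * b = b * a := by
        intro a ha b
        obtain ⟨x, rfl⟩ := QuotientGroup.mk_surjective a
        obtain ⟨y, rfl⟩ := QuotientGroup.mk_surjective b
        have hx : x ^ p ∈ T1 := by
          rw [← QuotientGroup.eq_one_iff]
          simpa using ha
        have hx2 : x ^ p ^ 2 = 1 := by
          rw [sq, pow_mul]; exact (hT1mem _).mp hx
        have hxc : ∀ z : T, x ^ p * z = z * x ^ p := hcen _ ((hT1mem _).mp hx)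
        -- `d = x⁻¹ (y⁻¹ x y)` has order dividing `p`
        have h1 : (x⁻¹) ^ p ^ 2 = 1 := by rw [inv_pow, hx2, inv_one]
        have h2 : (y⁻¹ * x * y) ^ p ^ 2 = 1 := by
          have : y⁻¹ * x * y = y⁻¹ * x * (y⁻¹)⁻¹ := by group
          rw [this, conj_pow, hx2]; group
        have h3 := step1 _ _ h1 h2
        have hd : (x⁻¹ * (y⁻¹ * x * y)) ^ p = 1 := by
          rw [h3]
          have : y⁻¹ * x * y = y⁻¹ * x * (y⁻¹)⁻¹ := by group
          rw [this, conj_pow, inv_pow]
          have : y⁻¹ * x ^ p * (y⁻¹)⁻¹ = x ^ p := by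
            rw [← hxc (y⁻¹)]; group
          rw [this, inv_mul_cancel]
        rw [← QuotientGroup.mk_mul, ← QuotientGroup.mk_mul]
        rw [QuotientGroup.eq]
        have : (x * y)⁻¹ * (y * x) = ((x⁻¹ * (y⁻¹ * x * y)) ^ 1)⁻¹ := by group
        rw [this]
        apply T1.inv_mem
        rw [pow_one, hT1mem]
        exact hd
      have ihQ := ih (T ⧸ T1) hQcard (hT.to_quotient T1) hQcen
      cases i with
      | zero => intro x y _ _; simp
      | succ j =>
        intro x y hx hy
        have hxQ : ((x : T ⧸ T1)) ^ p ^ (j + 1) = 1 := by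
          rw [← QuotientGroup.mk_pow, QuotientGroup.eq_one_iff, hT1mem, ← pow_mul, ← pow_succ]
          exact hx
        have hyQ : ((y : T ⧸ T1)) ^ p ^ (j + 1) = 1 := by
          rw [← QuotientGroup.mk_pow, QuotientGroup.eq_one_iff, hT1mem, ← pow_mul, ← pow_succ]
          exact hy
        have h1 := ihQ j (x : T ⧸ T1) (y : T ⧸ T1) hxQ hyQ
        -- lift
        have ht : (x ^ p ^ j * y ^ p ^ j)⁻¹ * (x * y) ^ p ^ j ∈ T1 := by
          rw [← QuotientGroup.eq]
          have h2 : (((x ^ p ^ j * y ^ p ^ j : T)) : T ⧸ T1) = (((x * y) ^ p ^ j : T) : T ⧸ T1) := by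
            rw [QuotientGroup.mk_mul, QuotientGroup.mk_pow, QuotientGroup.mk_pow,
              QuotientGroup.mk_pow, QuotientGroup.mk_mul]
            exact h1.symm
          exact h2
        set a := x ^ p ^ j with ha
        set b := y ^ p ^ j with hb
        set t := (a * b)⁻¹ * (x * y) ^ p ^ j with htdef
        have htp : t ^ p = 1 := (hT1mem _).mp ht
        have htc : ∀ z : T, t * z = z * t := hcen t htp
        have hxy : (x * y) ^ p ^ j = a * b * t := by rw [htdef]; group
        have ha2 : a ^ p ^ 2 = 1 := by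
          rw [ha, ← pow_mul, ← pow_add]
          exact hx
        have hb2 : b ^ p ^ 2 = 1 := by
          rw [hb, ← pow_mul, ← pow_add]
          exact hy
        have hcomm : Commute (a * b) t := (htc (a * b)).symm
        calc (x * y) ^ p ^ (j + 1) = ((x * y) ^ p ^ j) ^ p := by rw [← pow_mul, ← pow_succ]
          _ = (a * b * t) ^ p := by rw [hxy]
          _ = (a * b) ^ p * t ^ p := hcomm.mul_pow p
          _ = a ^ p * b ^ p := by rw [htp, mul_one, step1 a b ha2 hb2]
          _ = x ^ p ^ (j + 1) * y ^ p ^ (j + 1) := by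
            rw [ha, hb, ← pow_mul, ← pow_mul, ← pow_succ]

/-- **Power structure of `p`-central groups** (`p` odd): if every element of order dividing `p` of
the finite `p`-group `T` is central, then `x ↦ x ^ p ^ i` is multiplicative on the elements killed
by `p ^ (i + 1)`. -/
theorem pow_mul_of_pcentral (p : ℕ) [hp : Fact p.Prime] (hp2 : p ≠ 2)
    (T : Type u) [Group T] [Finite T] (hT : IsPGroup p T)
    (hcen : ∀ x : T, x ^ p = 1 → ∀ y : T, x * y = y * x)
    (i : ℕ) (x y : T) (hx : x ^ p ^ (i + 1) = 1) (hy : y ^ p ^ (i + 1) = 1) :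
    (x * y) ^ p ^ i = x ^ p ^ i * y ^ p ^ i :=
  pow_mul_of_pcentral_aux p hp2 (Nat.card T) T le_rfl hT hcen i x y hx hy

section omega

variable {G : Type*} [Group G] (p : ℕ) [hp : Fact p.Prime]

/-- Multiplicativity of `x ↦ x ^ p ^ i` inside a `p`-central `p`-subgroup `K` of a group. -/
theorem pow_mul_of_pcentral_subgroup (hp2 : p ≠ 2) (K : Subgroup G) [Finite K] (hK : IsPGroup p K)
    (hcen : ∀ x ∈ K, x ^ p = 1 → ∀ y ∈ K, x * y = y * x) (i : ℕ) (x y : G) (hx : x ∈ K)
    (hy : y ∈ K) (hx1 : x ^ p ^ (i + 1) = 1) (hy1 : y ^ p ^ (i + 1) = 1) :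
    (x * y) ^ p ^ i = x ^ p ^ i * y ^ p ^ i := by
  have hcen' : ∀ a : K, a ^ p = 1 → ∀ b : K, a * b = b * a := by
    intro a ha b
    apply Subtype.ext
    have ha' : (a : G) ^ p = 1 := by
      have := congrArg Subtype.val ha
      simpa using this
    simpa using hcen (a : G) a.2 ha' (b : G) b.2
  have := pow_mul_of_pcentral p hp2 K hK hcen' i ⟨x, hx⟩ ⟨y, hy⟩
    (by apply Subtype.ext; simpa using hx1) (by apply Subtype.ext; simpa using hy1)
  have h2 := congrArg Subtype.val this
  simpa using h2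

/-- In a `p`-central `p`-subgroup (`p` odd) the elements killed by `p ^ i` are closed under
multiplication. -/
theorem mul_pow_eq_one_of_pcentral (hp2 : p ≠ 2) (K : Subgroup G) [Finite K] (hK : IsPGroup p K)
    (hcen : ∀ x ∈ K, x ^ p = 1 → ∀ y ∈ K, x * y = y * x) (i : ℕ) (x y : G) (hx : x ∈ K)
    (hy : y ∈ K) (hx1 : x ^ p ^ i = 1) (hy1 : y ^ p ^ i = 1) : (x * y) ^ p ^ i = 1 := by
  cases i with
  | zero =>
    rw [pow_zero, pow_one] at hx1 hy1
    rw [hx1, hy1]; simp
  | succ j =>
    have h1 := pow_mul_of_pcentral_subgroup p hp2 K hK hcen j x y hx hy hx1 hy1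
    have hxp : (x ^ p ^ j) ^ p = 1 := by rw [← pow_mul, ← pow_succ]; exact hx1
    have hyp : (y ^ p ^ j) ^ p = 1 := by rw [← pow_mul, ← pow_succ]; exact hy1
    have hc : Commute (x ^ p ^ j) (y ^ p ^ j) :=
      hcen _ (K.pow_mem hx _) hxp _ (K.pow_mem hy _)
    rw [pow_succ, pow_mul, h1, hc.mul_pow, hxp, hyp, one_mul]

/-- `Ω_i(K) = {x ∈ K | x ^ p ^ i = 1}` for a `p`-central `p`-subgroup `K` (`p` odd). -/
def omegaSub (hp2 : p ≠ 2) (K : Subgroup G) [Finite K] (hK : IsPGroup p K)
    (hcen : ∀ x ∈ K, x ^ p = 1 → ∀ y ∈ K, x * y = y * x) (i : ℕ) : Subgroup G where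
  carrier := {x | x ∈ K ∧ x ^ p ^ i = 1}
  one_mem' := ⟨K.one_mem, one_pow _⟩
  mul_mem' := by
    rintro a b ⟨ha, ha1⟩ ⟨hb, hb1⟩
    exact ⟨K.mul_mem ha hb, mul_pow_eq_one_of_pcentral p hp2 K hK hcen i a b ha hb ha1 hb1⟩
  inv_mem' := by
    rintro a ⟨ha, ha1⟩
    exact ⟨K.inv_mem ha, by rw [inv_pow, ha1, inv_one]⟩

variable (hp2 : p ≠ 2) (K : Subgroup G) [Finite K] (hK : IsPGroup p K)
  (hcen : ∀ x ∈ K, x ^ p = 1 → ∀ y ∈ K, x * y = y * x)

theorem mem_omegaSub (i : ℕ) (x : G) :
    x ∈ omegaSub p hp2 K hK hcen i ↔ x ∈ K ∧ x ^ p ^ i = 1 := Iff.rfl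

theorem omegaSub_le (i : ℕ) : omegaSub p hp2 K hK hcen i ≤ K := fun _ hx => hx.1

theorem omegaSub_zero : omegaSub p hp2 K hK hcen 0 = ⊥ := by
  rw [eq_bot_iff]
  intro x hx
  have := hx.2
  rw [pow_zero, pow_one] at this
  exact Subgroup.mem_bot.mpr this

theorem omegaSub_mono (i : ℕ) : omegaSub p hp2 K hK hcen i ≤ omegaSub p hp2 K hK hcen (i + 1) := by
  intro x hx
  refine ⟨hx.1, ?_⟩
  rw [pow_succ, pow_mul, hx.2, one_pow]

theorem omegaSub_normal [hKn : K.Normal] (i : ℕ) : (omegaSub p hp2 K hK hcen i).Normal := by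
  constructor
  intro x hx g
  refine ⟨hKn.conj_mem x hx.1 g, ?_⟩
  rw [conj_pow, hx.2]; group

theorem omegaSub_eq_self : ∃ m : ℕ, omegaSub p hp2 K hK hcen m = K := by
  obtain ⟨m, hm⟩ := IsPGroup.iff_card.mp hK
  refine ⟨m, le_antisymm (omegaSub_le p hp2 K hK hcen m) ?_⟩
  intro x hx
  refine ⟨hx, ?_⟩
  have h := congrArg Subtype.val (pow_card_eq_one' (G := K) (x := ⟨x, hx⟩))
  rw [hm] at h
  simpa using h

/-- consecutive layers of the `Ω`-series of a `p`-central `p`-subgroup have index dividing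
`|Ω₁|`. -/
theorem relIndex_omegaSub_dvd (i : ℕ) :
    (omegaSub p hp2 K hK hcen i).relIndex (omegaSub p hp2 K hK hcen (i + 1)) ∣
      Nat.card (omegaSub p hp2 K hK hcen 1) := by
  let φ : (omegaSub p hp2 K hK hcen (i + 1)) →* (omegaSub p hp2 K hK hcen 1) :=
    { toFun := fun x => ⟨(x : G) ^ p ^ i, K.pow_mem x.2.1 _, by
        rw [pow_one, ← pow_mul, ← pow_succ]; exact x.2.2⟩
      map_one' := by
        apply Subtype.ext
        simp
      map_mul' := by
        intro x y
        apply Subtype.ext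
        simp only [Subgroup.coe_mul]
        exact pow_mul_of_pcentral_subgroup p hp2 K hK hcen i x y x.2.1 y.2.1 x.2.2 y.2.2 }
  have hφ : ∀ x, ((φ x : omegaSub p hp2 K hK hcen 1) : G) = (x : G) ^ p ^ i := fun x => rfl
  have hker : φ.ker = (omegaSub p hp2 K hK hcen i).subgroupOf (omegaSub p hp2 K hK hcen (i + 1)) := by
    ext x
    rw [MonoidHom.mem_ker, Subgroup.mem_subgroupOf]
    constructor
    · intro h
      have h2 := congrArg Subtype.val h
      rw [hφ] at h2
      exact ⟨x.2.1, h2⟩
    · intro h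
      apply Subtype.ext
      rw [hφ]
      exact h.2
  have h1 : (omegaSub p hp2 K hK hcen i).relIndex (omegaSub p hp2 K hK hcen (i + 1))
      = Nat.card φ.range := by
    rw [Subgroup.relIndex, ← hker, Subgroup.index_ker]
  rw [h1]
  exact Subgroup.card_subgroup_dvd_card _

end omega

end Cfsg.Agent.Lib.Helper67
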