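import Mathlib
import Cfsg.Agent.Lib.Helper16.PF13Defs
import Cfsg.Agent.Lib.Helper41.PF13NumC

/-!
# PF sec.13, module PF13-[UMODQ] (helper67): `|U| ≡ 1 (mod 2q)`

`W₁` (of prime order `q`) acts on `U` by conjugation with the identity as its only fixed point
(`C_U(x) ≤ W₂ ⊓ U ≤ P ⊓ U = ⊥` for `x ∈ W₁ \ 1`); `|U|` and `q` are odd.
-/

set_option autoImplicit false

namespace Cfsg.Agent.Lib.Helper67.PF13

open Cfsg Cfsg.Agent.Lib.Helper24.PFCyc Cfsg.Agent.Lib.Helper4.PF Cfsg.Agent.Lib.Helper16.PF13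
open scoped Pointwise

universe u

variable {G : Type u} [Group G] [Fintype G] {S W₁ U W₂ : Subgroup G} [Fintype S]
  {mu : WChar W₁ W₂ → (↥S → ℂ)} {dl : WChar W₁ W₂ → ℂ} {η : WChar W₁ W₂ → (G → ℂ)}

/-- MODULE PF13-[UMODQ] -/
theorem card_U_mod (h : PSide S W₁ U W₂ mu dl η) : Nat.card U % (2 * Nat.card W₁) = 1 := by
  classical
  set P : Subgroup G := fittingHallOf S with hPdef
  have hT := h.hP
  have hUK : U ≤ ⁅S, S⁆ := hT.U_compl.2.1
  have hPU : P ⊓ U = ⊥ := hT.U_compl.2.2.1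
  have hW₂P : W₂ ≤ P := le_trans hT.W₂_le inf_le_left
  -- `W₁` normalizes `U`
  have hnorm : ∀ w ∈ W₁, ∀ c ∈ U, w * c * w⁻¹ ∈ U := by
    intro w hw c hc
    have := hT.U_normal hw
    rw [Subgroup.mem_normalizer_iff] at this
    exact (this c).mp hc
  let _inst : MulAction ↥W₁ ↥U := Cfsg.Agent.Lib.Helper41.PF13.conjAct hnorm
  have hq : (Nat.card W₁).Prime := h.hq
  have _hf : Fact (Nat.card W₁).Prime := ⟨hq⟩
  have hpg : IsPGroup (Nat.card W₁) ↥W₁ := IsPGroup.of_card (n := 1) (by simp)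
  have hmod := hpg.card_modEq_card_fixedPoints (α := ↥U)
  -- the only fixed point is `1`
  have hfix : MulAction.fixedPoints ↥W₁ ↥U = {1} := by
    ext c
    simp only [MulAction.mem_fixedPoints, Set.mem_singleton_iff]
    constructor
    · intro hc
      obtain ⟨x, hx, hx1⟩ : ∃ x ∈ W₁, x ≠ 1 := by
        by_contra hcon
        apply hT.W₁_ne
        rw [Subgroup.eq_bot_iff_forall]
        intro x hx
        by_contra hx1
        exact hcon ⟨x, hx, hx1⟩
      have hcx := hc ⟨x, hx⟩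
      have hcx' : x * (c : G) * x⁻¹ = c := congrArg Subtype.val hcx
      have hcU : (c : G) ∈ U := c.2
      have hcW₂ : (c : G) ∈ W₂ := by
        rw [← hT.W₂_centralizer x hx hx1, Subgroup.mem_inf]
        refine ⟨hUK hcU, ?_⟩
        rw [Subgroup.mem_centralizer_iff]
        intro y hy
        rw [Set.mem_singleton_iff] at hy
        subst hy
        calc y * (c : G) = (y * (c : G) * y⁻¹) * y := by group
          _ = (c : G) * y := by rw [hcx']
      have : (c : G) ∈ P ⊓ U := Subgroup.mem_inf.mpr ⟨hW₂P hcW₂, hcU⟩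
      rw [hPU, Subgroup.mem_bot] at this
      exact Subtype.ext this
    · rintro rfl w
      apply Subtype.ext
      show (w : G) * ((1 : U) : G) * (w : G)⁻¹ = ((1 : U) : G)
      simp
  rw [hfix] at hmod
  have hmod' : Nat.card ↥U ≡ 1 [MOD Nat.card W₁] := by
    simpa using hmod
  have hoddG : Odd (Nat.card G) := h.hodd
  have hoddC : Odd (Nat.card ↥U) := Odd.of_dvd_nat hoddG (Subgroup.card_subgroup_dvd_card U)
  have hoddq : Odd (Nat.card W₁) := Odd.of_dvd_nat hoddG (Subgroup.card_subgroup_dvd_card W₁)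
  exact Cfsg.Agent.Lib.Helper41.PF13.mod_two_mul_eq_one hoddC hoddq hmod'

end Cfsg.Agent.Lib.Helper67.PF13
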