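import Mathlib
import Cfsg.Agent.Lib.Lead.NormalBetween
import Cfsg.Agent.Lib.Helper24.ExtraSp
import Cfsg.Agent.Lib.Helper67.SectionFix

/-!
# Normal sections of order `p` in `p`-groups, and small normal subgroups

* `commutator_top_ne_self`: in a nilpotent group `⁅N, ⊤⁆ ≠ N` for a nontrivial normal `N`;
* `le_center_of_card_prime`: a normal subgroup of order `p` of a finite `p`-group is central;
* `comm_mem_of_relIndex_prime`: a normal section `N/M` of order `p` of a finite `p`-group is central;
* `comm_mem_center_of_card_sq`: a normal subgroup of order `p ^ 2` lies in the second centre;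
* `index_centralizer_le_of_card_dvd_sq`, `index_centralizer_le_cube`: the centralizer of a normal
  subgroup of order dividing `p ^ 2` (resp. equal to `p ^ 3`) has index at most `p` (resp. `p ^ 3`).
-/

set_option autoImplicit false

open scoped commutatorElement

namespace Cfsg.Agent.Lib.Helper67

open Cfsg.Agent.Lib.Helper24 Cfsg.Agent.Lib.Lead

theorem commutator_top_ne_self {P : Type*} [Group P] [hnil : Group.IsNilpotent P] (N : Subgroup P)
    (hN : N ≠ ⊥) : ⁅N, (⊤ : Subgroup P)⁆ ≠ N := by
  intro h
  have key : ∀ k, N ≤ (⊤ : Subgroup P).lowerCentralSeries k := by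
    intro k
    induction k with
    | zero => simp
    | succ k ih =>
      rw [Subgroup.lowerCentralSeries_succ]
      calc N = ⁅N, (⊤ : Subgroup P)⁆ := h.symm
        _ ≤ ⁅(⊤ : Subgroup P).lowerCentralSeries k, ⊤⁆ := Subgroup.commutator_mono ih le_rfl
  obtain ⟨n, hn⟩ := Subgroup.nilpotent_iff_lowerCentralSeries.mp hnil
  have := key n
  rw [hn] at this
  exact hN (eq_bot_iff.mpr this)

theorem le_center_of_card_prime {P : Type*} [Group P] [Finite P] {p : ℕ} [hp : Fact p.Prime]
    (hP : IsPGroup p P) (N : Subgroup P) [hNn : N.Normal] (hN : Nat.card N = p) :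
    N ≤ Subgroup.center P := by
  have hnil : Group.IsNilpotent P := hP.isNilpotent
  have hNne : N ≠ ⊥ := by
    rintro rfl
    rw [Subgroup.card_bot] at hN
    exact hp.out.one_lt.ne hN
  have hle : ⁅N, (⊤ : Subgroup P)⁆ ≤ N := Subgroup.commutator_le_left N ⊤
  have hne := commutator_top_ne_self N hNne
  have hdvd : Nat.card (⁅N, (⊤ : Subgroup P)⁆ : Subgroup P) ∣ p := by
    rw [← hN]; exact Subgroup.card_dvd_of_le hle
  rcases (Nat.dvd_prime hp.out).mp hdvd with h1 | h1
  · rw [← Subgroup.commutator_top_right_eq_bot_iff_le_center]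
    exact Subgroup.card_eq_one.mp h1
  · exfalso
    apply hne
    apply Subgroup.eq_of_le_of_card_ge hle
    rw [h1, hN]

/-- A normal section of order `p` of a finite `p`-group is central. -/
theorem comm_mem_of_relIndex_prime {P : Type*} [Group P] [Finite P] {p : ℕ} [hp : Fact p.Prime]
    (hP : IsPGroup p P) (M N : Subgroup P) [hMn : M.Normal] [hNn : N.Normal] (hMN : M ≤ N)
    (hidx : M.relIndex N = p) : ∀ n ∈ N, ∀ g : P, n * g * n⁻¹ * g⁻¹ ∈ M := by
  intro n hn g
  set π := QuotientGroup.mk' M with hπ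
  have hsurj : Function.Surjective π := QuotientGroup.mk'_surjective M
  have hNbar : (N.map π).Normal := hNn.map π hsurj
  have hcard : Nat.card (N.map π) = p := by
    have h1 : (⊥ : Subgroup (P ⧸ M)).relIndex (N.map π) = M.relIndex N := by
      rw [← Subgroup.map_bot π, Subgroup.relIndex_map_map, QuotientGroup.ker_mk', bot_sup_eq,
        sup_eq_left.mpr hMN]
    rw [← hidx, ← h1, Subgroup.relIndex_bot_left]
  have hcen := le_center_of_card_prime (hP.to_quotient M) (N.map π) hcard
  have h2 : π n ∈ Subgroup.center (P ⧸ M) := hcen (Subgroup.mem_map_of_mem π hn)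
  have h3 : π (n * g * n⁻¹ * g⁻¹) = 1 := by
    rw [map_mul, map_mul, map_mul, map_inv, map_inv]
    have := (Subgroup.mem_center_iff.mp h2) (π g)
    rw [← this]; group
  exact (QuotientGroup.eq_one_iff _).mp h3

/-- A normal subgroup of order `p ^ 2` of a finite `p`-group lies in the second centre. -/
theorem comm_mem_center_of_card_sq {P : Type*} [Group P] [Finite P] {p : ℕ} [hp : Fact p.Prime]
    (hP : IsPGroup p P) (B : Subgroup P) [hBn : B.Normal] (hB : Nat.card B = p ^ 2) :
    ∀ b ∈ B, ∀ g : P, b * g * b⁻¹ * g⁻¹ ∈ Subgroup.center P := by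
  have hBne : (⊥ : Subgroup P) < B := by
    rw [bot_lt_iff_ne_bot]
    rintro rfl
    rw [Subgroup.card_bot] at hB
    have : 1 < p ^ 2 := Nat.one_lt_pow (by norm_num) hp.out.one_lt
    omega
  obtain ⟨Z, hZn, -, hZB, hZc⟩ := exists_normal_between hP ⊥ B hBne
  rw [Subgroup.card_bot, mul_one] at hZc
  have hZcen := le_center_of_card_prime hP Z hZc
  have hidx : Z.relIndex B = p := by
    have h1 := Subgroup.relIndex_mul_relIndex ⊥ Z B bot_le hZB
    rw [Subgroup.relIndex_bot_left, Subgroup.relIndex_bot_left, hZc, hB, sq] at h1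
    exact Nat.eq_of_mul_eq_mul_left hp.out.pos h1
  intro b hb g
  exact hZcen (comm_mem_of_relIndex_prime hP Z B hZB hidx b hb g)

/-- The centralizer of a normal subgroup of order dividing `p ^ 2` of a finite `p`-group has index
at most `p`. -/
theorem index_centralizer_le_of_card_dvd_sq {P : Type*} [Group P] [Finite P] {p : ℕ}
    [hp : Fact p.Prime] (hP : IsPGroup p P) (X : Subgroup P) [hXn : X.Normal]
    (hX : Nat.card X ∣ p ^ 2) : (Subgroup.centralizer (X : Set P)).index ≤ p := by
  obtain ⟨k, hk, hXk⟩ := (Nat.dvd_prime_pow hp.out).mp hX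
  have hcentral : X ≤ Subgroup.center P → (Subgroup.centralizer (X : Set P)).index ≤ p := by
    intro hc
    have : Subgroup.centralizer (X : Set P) = ⊤ := by
      rw [eq_top_iff]
      intro g _
      rw [Subgroup.mem_centralizer_iff]
      intro x hx
      exact ((Subgroup.mem_center_iff.mp (hc hx)) g).symm
    rw [this, Subgroup.index_top]
    exact hp.out.one_lt.le
  interval_cases k
  · apply hcentral
    rw [pow_zero] at hXk
    rw [Subgroup.card_eq_one.mp hXk]
    exact bot_le
  · apply hcentral
    rw [pow_one] at hXk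
    exact le_center_of_card_prime hP X hXk
  · exact Nat.le_of_dvd hp.out.pos (index_centralizer_dvd_prime hP X hXk)

/-- a subgroup strictly between `K` and `A` with `|A : K| = p` cannot exist. -/
theorem eq_of_lt_of_le_of_card {P : Type*} [Group P] [Finite P] {p : ℕ} (hp : p.Prime)
    {K H A : Subgroup P} (hKH : K < H) (hHA : H ≤ A) (hcard : Nat.card A = p * Nat.card K) :
    H = A := by
  have h1 : Nat.card K ∣ Nat.card H := Subgroup.card_dvd_of_le hKH.le
  have h2 : Nat.card H ∣ Nat.card A := Subgroup.card_dvd_of_le hHA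
  obtain ⟨m, hm⟩ := h1
  have hKpos : 0 < Nat.card K := Nat.card_pos
  have hmp : m ∣ p := by
    rw [hcard, hm, mul_comm p] at h2
    exact Nat.dvd_of_mul_dvd_mul_left hKpos h2
  rcases (Nat.dvd_prime hp).mp hmp with h | h
  · exfalso
    rw [h, mul_one] at hm
    exact absurd (Subgroup.eq_of_le_of_card_ge hKH.le hm.le) hKH.ne
  · apply Subgroup.eq_of_le_of_card_ge hHA
    rw [hcard, hm, h, mul_comm]

/-- The centralizer of a normal subgroup of order `p ^ 3` of a finite `p`-group has index at most
`p ^ 3`. -/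
theorem index_centralizer_le_cube {P : Type*} [Group P] [Finite P] {p : ℕ}
    [hp : Fact p.Prime] (hP : IsPGroup p P) (X : Subgroup P) [hXn : X.Normal]
    (hX : Nat.card X = p ^ 3) : (Subgroup.centralizer (X : Set P)).index ≤ p ^ 3 := by
  have hp1 := hp.out.one_lt
  have hXne : (⊥ : Subgroup P) < X := by
    rw [bot_lt_iff_ne_bot]
    rintro rfl
    rw [Subgroup.card_bot] at hX
    have : 1 < p ^ 3 := Nat.one_lt_pow (by norm_num) hp1
    omega
  obtain ⟨Z, hZn, -, hZX, hZc⟩ := exists_normal_between hP ⊥ X hXne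
  rw [Subgroup.card_bot, mul_one] at hZc
  have hZltX : Z < X := by
    refine lt_of_le_of_ne hZX ?_
    rintro rfl
    rw [hZc] at hX
    have h3 : p ^ 1 < p ^ 3 := Nat.pow_lt_pow_right hp1 (by norm_num)
    rw [pow_one] at h3
    omega
  obtain ⟨A, hAn, hZA, hAX, hAc⟩ := exists_normal_between hP Z X hZltX
  rw [hZc] at hAc
  have hZcen := le_center_of_card_prime hP Z hZc
  have hZAidx : Z.relIndex A = p := by
    have h1 := Subgroup.relIndex_mul_relIndex ⊥ Z A bot_le hZA
    rw [Subgroup.relIndex_bot_left, Subgroup.relIndex_bot_left, hZc, hAc] at h1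
    exact Nat.eq_of_mul_eq_mul_left hp.out.pos h1
  have hAXidx : A.relIndex X = p := by
    have h1 := Subgroup.relIndex_mul_relIndex ⊥ A X bot_le hAX
    rw [Subgroup.relIndex_bot_left, Subgroup.relIndex_bot_left, hX, hAc] at h1
    have : p * p * p = p ^ 3 := by ring
    rw [← this] at h1
    exact Nat.eq_of_mul_eq_mul_left (Nat.mul_pos hp.out.pos hp.out.pos) h1
  have hFA := comm_mem_of_relIndex_prime hP Z A hZA hZAidx
  have hFX := comm_mem_of_relIndex_prime hP A X hAX hAXidx
  have hZltA : Z < A := by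
    refine lt_of_le_of_ne hZA ?_
    rintro rfl
    rw [hZc] at hAc
    have : 1 * p < p * p := Nat.mul_lt_mul_of_pos_right hp1 hp.out.pos
    omega
  have hAltX : A < X := by
    refine lt_of_le_of_ne hAX ?_
    rintro rfl
    rw [hAc] at hX
    have : p * p * 1 < p * p * p := Nat.mul_lt_mul_of_pos_left hp1 (Nat.mul_pos hp.out.pos hp.out.pos)
    have : p * p * p = p ^ 3 := by ring
    omega
  obtain ⟨r1, hr1A, hr1Z⟩ := SetLike.exists_of_lt hZltA
  obtain ⟨r2, hr2X, hr2A⟩ := SetLike.exists_of_lt hAltX
  -- two counting steps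
  have c1 := card_le_card_mul_card_centralizer (⊤ : Subgroup P) A r2 (fun l _ => hFX r2 hr2X l)
  have c2 := card_le_card_mul_card_centralizer
    ((⊤ : Subgroup P) ⊓ Subgroup.centralizer ({r2} : Set P)) Z r1 (fun l _ => hFA r1 hr1A l)
  -- the final centralizer is inside the centralizer of `X`
  have hle : ((⊤ : Subgroup P) ⊓ Subgroup.centralizer ({r2} : Set P)) ⊓
      Subgroup.centralizer ({r1} : Set P) ≤ Subgroup.centralizer (X : Set P) := by
    intro g hg
    have hg2 : r2 * g = g * r2 := Subgroup.mem_centralizer_iff.mp hg.1.2 r2 rfl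
    have hg1 : r1 * g = g * r1 := Subgroup.mem_centralizer_iff.mp hg.2 r1 rfl
    set H : Subgroup P := X ⊓ Subgroup.centralizer ({g} : Set P) with hH
    have hZH : Z ≤ H := by
      intro z hz
      refine Subgroup.mem_inf.mpr ⟨hZX hz, ?_⟩
      rw [Subgroup.mem_centralizer_iff]
      intro y hy
      rw [Set.mem_singleton_iff.mp hy]
      exact (Subgroup.mem_center_iff.mp (hZcen hz)) g
    have hr1H : r1 ∈ H := by
      refine Subgroup.mem_inf.mpr ⟨hAX hr1A, ?_⟩
      rw [Subgroup.mem_centralizer_iff]
      intro y hy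
      rw [Set.mem_singleton_iff.mp hy]
      exact hg1.symm
    have hr2H : r2 ∈ H := by
      refine Subgroup.mem_inf.mpr ⟨hr2X, ?_⟩
      rw [Subgroup.mem_centralizer_iff]
      intro y hy
      rw [Set.mem_singleton_iff.mp hy]
      exact hg2.symm
    have hAH : A ⊓ H = A := by
      apply eq_of_lt_of_le_of_card hp.out (K := Z) _ inf_le_left (by rw [hAc, hZc])
      refine lt_of_le_of_ne (le_inf hZA hZH) ?_
      intro heq
      apply hr1Z
      rw [heq]
      exact ⟨hr1A, hr1H⟩
    have hAleH : A ≤ H := by rw [← hAH]; exact inf_le_right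
    have hHX : H = X := by
      apply eq_of_lt_of_le_of_card hp.out (K := A) _ inf_le_left
      · rw [hX, hAc]; ring
      · refine lt_of_le_of_ne hAleH ?_
        intro heq
        apply hr2A
        rw [heq]
        exact hr2H
    rw [Subgroup.mem_centralizer_iff]
    intro x hx
    have hxH : x ∈ H := by rw [hHX]; exact hx
    exact (Subgroup.mem_centralizer_iff.mp hxH.2 g rfl).symm
  have c3 : Nat.card (((⊤ : Subgroup P) ⊓ Subgroup.centralizer ({r2} : Set P)) ⊓
      Subgroup.centralizer ({r1} : Set P) : Subgroup P) ≤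
      Nat.card (Subgroup.centralizer (X : Set P)) := Subgroup.card_le_of_le hle
  have htop : Nat.card (⊤ : Subgroup P) = Nat.card P := Subgroup.card_top
  have hmul := (Subgroup.centralizer (X : Set P)).card_mul_index
  have hCpos : 0 < Nat.card (Subgroup.centralizer (X : Set P)) := Nat.card_pos
  rw [htop, hAc] at c1
  rw [hZc] at c2
  have hfin : Nat.card P ≤ p ^ 3 * Nat.card (Subgroup.centralizer (X : Set P)) := by
    calc Nat.card P ≤ p * p * Nat.card ((⊤ : Subgroup P) ⊓ Subgroup.centralizer ({r2} : Set P) :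
          Subgroup P) := c1
      _ ≤ p * p * (p * Nat.card (((⊤ : Subgroup P) ⊓ Subgroup.centralizer ({r2} : Set P)) ⊓
          Subgroup.centralizer ({r1} : Set P) : Subgroup P)) := Nat.mul_le_mul_left _ c2
      _ ≤ p * p * (p * Nat.card (Subgroup.centralizer (X : Set P))) :=
          Nat.mul_le_mul_left _ (Nat.mul_le_mul_left _ c3)
      _ = p ^ 3 * Nat.card (Subgroup.centralizer (X : Set P)) := by ring
  rw [← hmul, mul_comm (p ^ 3)] at hfin
  exact Nat.le_of_mul_le_mul_left hfin hCpos

end Cfsg.Agent.Lib.Helper67
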