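import Mathlib
import Cfsg.Agent.Lib.Helper9.SmallOrderSieveC

/-!
# helper72's S0983 project, module [SIEVE]: the certificate checker for the orders 3641..6232

Same certificates as helper9's small-order sieve (`SmallOrderSieveC`), with a new list of surviving
orders. A certificate for an order `n` is a tuple `(kind, p, a, q, b)`:
* kind 0: `n = p^a * q^b` with `p`, `q` prime (Burnside);
* kind 1: `n ≡ 2 (mod 4)`;
* kind 2: `n ≡ 4 (mod 8)`, `3 ∤ n`;
* kind 3: `n = p^a * m` (`m` in the `q` slot), all possible Sylow numbers are excluded (`checkSyl`);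
* kind 4: `n` is one of the listed orders.
-/

set_option autoImplicit false
set_option linter.unusedSectionVars false
set_option linter.style.haveILetI false
set_option linter.unusedVariables false

namespace Cfsg.Agent.Lib.Helper67.Range6232

open Cfsg.Agent.Lib.Helper9.Sieve

variable {G : Type*} [Group G] [Finite G] [IsSimpleGroup G]

/-- The orders in `3641..6232` that the sieve does not exclude. -/
def listed : List ℕ := [3648, 3696, 3744, 3780, 3960, 4032, 4080, 4200, 4212, 4320, 4400, 4536, 4620,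
  4680, 4760, 4800, 4928, 4960, 5040, 5104, 5148, 5200, 5376, 5400, 5460, 5472, 5600, 5616, 5724, 5760,
  5880, 5940, 6048, 6072]

/-- The certificate checker. -/
def checkCert (n : ℕ) (c : ℕ × ℕ × ℕ × ℕ × ℕ) : Bool :=
  if c.1 = 0 then isPrimeB c.2.1 && isPrimeB c.2.2.2.1 && decide (n = c.2.1 ^ c.2.2.1 * c.2.2.2.1 ^ c.2.2.2.2)
  else if c.1 = 1 then decide (n % 4 = 2)
  else if c.1 = 2 then decide (n % 8 = 4) && decide (n % 3 ≠ 0)
  else if c.1 = 3 then checkSyl n c.2.1 c.2.2.1 c.2.2.2.1
  else if c.1 = 4 then decide (n ∈ listed)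
  else false

theorem mem_listed_of_checkCert (hG : ¬ IsMulCommutative G) {n : ℕ} (hn : Nat.card G = n)
    (c : ℕ × ℕ × ℕ × ℕ × ℕ) (h : checkCert n c = true) : n ∈ listed := by
  unfold checkCert at h
  split_ifs at h with h0 h1 h2 h3 h4
  · exfalso
    simp only [Bool.and_eq_true, decide_eq_true_eq] at h
    obtain ⟨⟨hp, hq⟩, hnpq⟩ := h
    have hs : Group.IsSolvable G :=
      Cfsg.Agent.S0144.result _ _ _ _ (prime_of_isPrimeB hp) (prime_of_isPrimeB hq) (hn.trans hnpq)
    exact hG ⟨⟨IsSimpleGroup.comm_iff_isSolvable.mpr hs⟩⟩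
  · exfalso
    rw [decide_eq_true_eq] at h
    exact Cfsg.Agent.S0493.false_of_card_mod_four hG (by rw [hn]; exact h)
  · exfalso
    simp only [Bool.and_eq_true, decide_eq_true_eq] at h
    obtain ⟨h8, h3'⟩ := h
    haveI : Fact (Nat.Prime 2) := ⟨Nat.prime_two⟩
    obtain ⟨T⟩ := (Sylow.nonempty : Nonempty (Sylow 2 G))
    have heven : Even (Nat.card G) := by
      rw [hn, Nat.even_iff]; omega
    have hn8 : ¬ 8 ∣ Nat.card G := by
      rw [hn]; intro hd; have := Nat.mod_eq_zero_of_dvd hd; omega
    obtain ⟨-, hrel⟩ := Cfsg.Agent.S0992.result hG heven hn8 T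
    have h3 : 3 ∣ Nat.card G := by
      rw [← hrel]
      exact (Subgroup.relIndex_dvd_card _ _).trans (Subgroup.card_subgroup_dvd_card _)
    rw [hn] at h3
    exact h3' (Nat.mod_eq_zero_of_dvd h3)
  · exact (false_of_checkSyl hG hn h).elim
  · rw [decide_eq_true_eq] at h
    exact h

/-- All certificates of a chunk `base, base + 1, ...` of the table are valid. -/
def chunkOk (base : ℕ) (tbl : List (ℕ × ℕ × ℕ × ℕ × ℕ)) : Bool :=
  (List.range tbl.length).all (fun i => checkCert (base + i) (tbl.getD i (5, 0, 0, 0, 0)))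

theorem mem_listed_of_chunkOk (hG : ¬ IsMulCommutative G) {base : ℕ}
    {tbl : List (ℕ × ℕ × ℕ × ℕ × ℕ)} (h : chunkOk base tbl = true) (hlo : base ≤ Nat.card G)
    (hhi : Nat.card G < base + tbl.length) : Nat.card G ∈ listed := by
  unfold chunkOk at h
  rw [List.all_eq_true] at h
  have h2 := h (Nat.card G - base) (List.mem_range.mpr (by omega))
  have h3 : base + (Nat.card G - base) = Nat.card G := by omega
  rw [h3] at h2
  exact mem_listed_of_checkCert hG rfl _ h2

end Cfsg.Agent.Lib.Helper67.Range6232
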