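import Mathlib
import Cfsg.Agent.Lib.Helper67.Range6232SieveDefs

/-!
# helper72's S0983 project, module [SIEVE]: certificate table, chunk 0 (orders 3641..3748), generated by a script
-/

set_option autoImplicit false

namespace Cfsg.Agent.Lib.Helper67.Range6232

/-- certificates for the orders `3641, ..., 3748` -/
def tbl0 : List (ℕ × ℕ × ℕ × ℕ × ℕ) := [
  (0, 11, 1, 331, 1), (1, 0, 0, 0, 0), (0, 3643, 1, 2, 0), (0, 2, 2, 911, 1), (0, 3, 6, 5, 1), (0, 2, 1, 1823, 1),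
  (0, 7, 1, 521, 1), (4, 0, 0, 0, 0), (0, 41, 1, 89, 1), (1, 0, 0, 0, 0), (0, 3, 1, 1217, 1), (2, 0, 0, 0, 0),
  (0, 13, 1, 281, 1), (1, 0, 0, 0, 0), (3, 43, 1, 85, 0), (0, 2, 3, 457, 1), (3, 53, 1, 69, 0), (1, 0, 0, 0, 0),
  (0, 3659, 1, 2, 0), (3, 61, 1, 60, 0), (0, 7, 1, 523, 1), (0, 2, 1, 1831, 1), (3, 37, 1, 99, 0), (0, 2, 4, 229, 1),
  (0, 5, 1, 733, 1), (1, 0, 0, 0, 0), (0, 19, 1, 193, 1), (2, 0, 0, 0, 0), (0, 3, 1, 1223, 1), (1, 0, 0, 0, 0),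
  (0, 3671, 1, 2, 0), (3, 17, 1, 216, 0), (0, 3673, 1, 2, 0), (1, 0, 0, 0, 0), (3, 7, 2, 75, 0), (0, 2, 2, 919, 1),
  (0, 3677, 1, 2, 0), (1, 0, 0, 0, 0), (0, 13, 1, 283, 1), (3, 23, 1, 160, 0), (0, 3, 2, 409, 1), (1, 0, 0, 0, 0),
  (0, 29, 1, 127, 1), (3, 307, 1, 12, 0), (3, 67, 1, 55, 0), (1, 0, 0, 0, 0), (0, 3, 1, 1229, 1), (0, 2, 3, 461, 1),
  (3, 31, 1, 119, 0), (1, 0, 0, 0, 0), (0, 3691, 1, 2, 0), (2, 0, 0, 0, 0), (0, 3, 1, 1231, 1), (0, 2, 1, 1847, 1),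
  (0, 5, 1, 739, 1), (4, 0, 0, 0, 0), (0, 3697, 1, 2, 0), (0, 2, 1, 43, 2), (0, 3, 3, 137, 1), (2, 0, 0, 0, 0),
  (0, 3701, 1, 2, 0), (1, 0, 0, 0, 0), (0, 7, 1, 23, 2), (0, 2, 3, 463, 1), (3, 19, 1, 195, 0), (1, 0, 0, 0, 0),
  (0, 11, 1, 337, 1), (3, 103, 1, 36, 0), (0, 3709, 1, 2, 0), (1, 0, 0, 0, 0), (0, 3, 1, 1237, 1), (0, 2, 7, 29, 1),
  (0, 47, 1, 79, 1), (1, 0, 0, 0, 0), (0, 5, 1, 743, 1), (0, 2, 2, 929, 1), (3, 59, 1, 63, 0), (1, 0, 0, 0, 0),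
  (0, 3719, 1, 2, 0), (3, 31, 1, 120, 0), (0, 61, 2, 2, 0), (0, 2, 1, 1861, 1), (3, 73, 1, 51, 0), (2, 0, 0, 0, 0),
  (0, 5, 2, 149, 1), (1, 0, 0, 0, 0), (0, 3727, 1, 2, 0), (0, 2, 4, 233, 1), (3, 113, 1, 33, 0), (1, 0, 0, 0, 0),
  (3, 41, 1, 91, 0), (3, 311, 1, 12, 0), (0, 3733, 1, 2, 0), (0, 2, 1, 1867, 1), (3, 83, 1, 45, 0), (0, 2, 3, 467, 1),
  (0, 37, 1, 101, 1), (1, 0, 0, 0, 0), (0, 3739, 1, 2, 0), (2, 0, 0, 0, 0), (3, 43, 1, 87, 0), (0, 2, 1, 1871, 1),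
  (0, 19, 1, 197, 1), (4, 0, 0, 0, 0), (3, 107, 1, 35, 0), (0, 2, 1, 1873, 1), (0, 3, 1, 1249, 1), (0, 2, 2, 937, 1)]

theorem tbl0_length : tbl0.length = 108 := by decide +kernel

set_option maxRecDepth 100000 in
/-- every certificate of the chunk is valid (kernel computation) -/
theorem tbl0_ok : chunkOk 3641 tbl0 = true := by
  decide +kernel

end Cfsg.Agent.Lib.Helper67.Range6232
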