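import Mathlib
import Cfsg.Agent.Lib.Helper67.Range6232SieveDefs
import Cfsg.Agent.Lib.Helper67.Range6232SieveT0

/-!
# helper72's S0983 project, module [SIEVE]: certificate table, chunk 1 (orders 3749..3856), generated by a script

(The import of the previous chunk only serializes the memory-hungry kernel computations.)
-/

set_option autoImplicit false

namespace Cfsg.Agent.Lib.Helper67.Range6232

/-- certificates for the orders `3749, ..., 3856` -/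
def tbl1 : List (ℕ × ℕ × ℕ × ℕ × ℕ) := [
  (0, 23, 1, 163, 1), (1, 0, 0, 0, 0), (0, 11, 2, 31, 1), (3, 67, 1, 56, 0), (0, 3, 3, 139, 1), (0, 2, 1, 1877, 1),
  (0, 5, 1, 751, 1), (3, 313, 1, 12, 0), (0, 13, 1, 17, 2), (0, 2, 1, 1879, 1), (3, 179, 1, 21, 0), (3, 47, 1, 80, 0),
  (0, 3761, 1, 2, 0), (1, 0, 0, 0, 0), (0, 53, 1, 71, 1), (0, 2, 2, 941, 1), (3, 251, 1, 15, 0), (1, 0, 0, 0, 0),
  (0, 3767, 1, 2, 0), (3, 157, 1, 24, 0), (0, 3769, 1, 2, 0), (1, 0, 0, 0, 0), (0, 3, 2, 419, 1), (2, 0, 0, 0, 0),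
  (0, 7, 3, 11, 1), (1, 0, 0, 0, 0), (0, 5, 2, 151, 1), (0, 2, 6, 59, 1), (0, 3, 1, 1259, 1), (0, 2, 1, 1889, 1),
  (0, 3779, 1, 2, 0), (4, 0, 0, 0, 0), (0, 19, 1, 199, 1), (1, 0, 0, 0, 0), (3, 97, 1, 39, 0), (3, 43, 1, 88, 0),
  (0, 5, 1, 757, 1), (1, 0, 0, 0, 0), (0, 7, 1, 541, 1), (0, 2, 2, 947, 1), (0, 3, 2, 421, 1), (1, 0, 0, 0, 0),
  (0, 17, 1, 223, 1), (3, 79, 1, 48, 0), (0, 3793, 1, 2, 0), (1, 0, 0, 0, 0), (3, 23, 1, 165, 0), (2, 0, 0, 0, 0),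
  (0, 3797, 1, 2, 0), (1, 0, 0, 0, 0), (0, 29, 1, 131, 1), (3, 19, 1, 200, 0), (3, 181, 1, 21, 0), (0, 2, 1, 1901, 1),
  (0, 3803, 1, 2, 0), (3, 317, 1, 12, 0), (0, 5, 1, 761, 1), (1, 0, 0, 0, 0), (0, 3, 4, 47, 1), (3, 17, 1, 224, 0),
  (0, 13, 1, 293, 1), (1, 0, 0, 0, 0), (0, 37, 1, 103, 1), (0, 2, 2, 953, 1), (3, 41, 1, 93, 0), (0, 2, 1, 1907, 1),
  (3, 109, 1, 35, 0), (3, 53, 1, 72, 0), (0, 11, 1, 347, 1), (1, 0, 0, 0, 0), (3, 67, 1, 57, 0), (2, 0, 0, 0, 0),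
  (0, 3821, 1, 2, 0), (1, 0, 0, 0, 0), (0, 3823, 1, 2, 0), (0, 2, 4, 239, 1), (3, 17, 1, 225, 0), (0, 2, 1, 1913, 1),
  (0, 43, 1, 89, 1), (3, 29, 1, 132, 0), (0, 7, 1, 547, 1), (1, 0, 0, 0, 0), (0, 3, 1, 1277, 1), (0, 2, 3, 479, 1),
  (0, 3833, 1, 2, 0), (1, 0, 0, 0, 0), (3, 59, 1, 65, 0), (2, 0, 0, 0, 0), (0, 3, 1, 1279, 1), (1, 0, 0, 0, 0),
  (0, 11, 1, 349, 1), (3, 2, 8, 15, 0), (0, 23, 1, 167, 1), (1, 0, 0, 0, 0), (3, 61, 1, 63, 0), (0, 2, 2, 31, 2),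
  (0, 5, 1, 769, 1), (1, 0, 0, 0, 0), (0, 3847, 1, 2, 0), (3, 37, 1, 104, 0), (0, 3, 1, 1283, 1), (1, 0, 0, 0, 0),
  (0, 3851, 1, 2, 0), (3, 107, 1, 36, 0), (0, 3853, 1, 2, 0), (1, 0, 0, 0, 0), (3, 257, 1, 15, 0), (0, 2, 4, 241, 1)]

theorem tbl1_length : tbl1.length = 108 := by decide +kernel

set_option maxRecDepth 100000 in
/-- every certificate of the chunk is valid (kernel computation) -/
theorem tbl1_ok : chunkOk 3749 tbl1 = true := by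
  decide +kernel

end Cfsg.Agent.Lib.Helper67.Range6232
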