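import Mathlib
import Cfsg.Agent.Lib.Helper67.Range6232SieveDefs

/-!
# helper72's S0983 project, module [SIEVE]: certificate table, chunk 8 (orders 4505..4612), generated by a script
-/

set_option autoImplicit false

namespace Cfsg.Agent.Lib.Helper67.Range6232

/-- certificates for the orders `4505, ..., 4612` -/
def tbl8 : List (ℕ × ℕ × ℕ × ℕ × ℕ) := [
  (3, 53, 1, 85, 0), (1, 0, 0, 0, 0), (0, 4507, 1, 2, 0), (2, 0, 0, 0, 0), (0, 3, 3, 167, 1), (1, 0, 0, 0, 0),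
  (0, 13, 1, 347, 1), (3, 47, 1, 96, 0), (0, 4513, 1, 2, 0), (1, 0, 0, 0, 0), (3, 43, 1, 105, 0), (0, 2, 2, 1129, 1),
  (0, 4517, 1, 2, 0), (1, 0, 0, 0, 0), (0, 4519, 1, 2, 0), (3, 113, 1, 40, 0), (3, 137, 1, 33, 0), (1, 0, 0, 0, 0),
  (0, 4523, 1, 2, 0), (3, 29, 1, 156, 0), (0, 5, 2, 181, 1), (1, 0, 0, 0, 0), (0, 3, 2, 503, 1), (0, 2, 4, 283, 1),
  (0, 7, 1, 647, 1), (1, 0, 0, 0, 0), (0, 23, 1, 197, 1), (2, 0, 0, 0, 0), (0, 3, 1, 1511, 1), (0, 2, 1, 2267, 1),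
  (0, 5, 1, 907, 1), (4, 0, 0, 0, 0), (0, 13, 1, 349, 1), (0, 2, 1, 2269, 1), (3, 89, 1, 51, 0), (2, 0, 0, 0, 0),
  (0, 19, 1, 239, 1), (1, 0, 0, 0, 0), (3, 59, 1, 77, 0), (0, 2, 6, 71, 1), (3, 101, 1, 45, 0), (0, 2, 1, 2273, 1),
  (0, 4547, 1, 2, 0), (3, 379, 1, 12, 0), (0, 4549, 1, 2, 0), (1, 0, 0, 0, 0), (3, 41, 1, 111, 0), (0, 2, 3, 569, 1),
  (0, 29, 1, 157, 1), (1, 0, 0, 0, 0), (0, 5, 1, 911, 1), (2, 0, 0, 0, 0), (3, 31, 1, 147, 0), (1, 0, 0, 0, 0),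
  (0, 47, 1, 97, 1), (3, 19, 1, 240, 0), (0, 4561, 1, 2, 0), (0, 2, 1, 2281, 1), (0, 3, 3, 13, 2), (2, 0, 0, 0, 0),
  (3, 83, 1, 55, 0), (1, 0, 0, 0, 0), (0, 4567, 1, 2, 0), (0, 2, 3, 571, 1), (0, 3, 1, 1523, 1), (1, 0, 0, 0, 0),
  (0, 7, 1, 653, 1), (3, 127, 1, 36, 0), (0, 17, 1, 269, 1), (0, 2, 1, 2287, 1), (3, 61, 1, 75, 0), (3, 13, 1, 352, 0),
  (0, 23, 1, 199, 1), (1, 0, 0, 0, 0), (0, 19, 1, 241, 1), (2, 0, 0, 0, 0), (0, 3, 2, 509, 1), (1, 0, 0, 0, 0),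
  (0, 4583, 1, 2, 0), (3, 191, 1, 24, 0), (3, 131, 1, 35, 0), (0, 2, 1, 2293, 1), (3, 139, 1, 33, 0), (2, 0, 0, 0, 0),
  (0, 13, 1, 353, 1), (1, 0, 0, 0, 0), (0, 4591, 1, 2, 0), (3, 41, 1, 112, 0), (0, 3, 1, 1531, 1), (0, 2, 1, 2297, 1),
  (0, 5, 1, 919, 1), (3, 383, 1, 12, 0), (0, 4597, 1, 2, 0), (1, 0, 0, 0, 0), (3, 73, 1, 63, 0), (3, 23, 1, 200, 0),
  (0, 43, 1, 107, 1), (1, 0, 0, 0, 0), (0, 4603, 1, 2, 0), (0, 2, 2, 1151, 1), (3, 307, 1, 15, 0), (1, 0, 0, 0, 0),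
  (0, 17, 1, 271, 1), (0, 2, 9, 3, 2), (0, 11, 1, 419, 1), (1, 0, 0, 0, 0), (3, 53, 1, 87, 0), (0, 2, 2, 1153, 1)]

theorem tbl8_length : tbl8.length = 108 := by decide +kernel

set_option maxRecDepth 100000 in
/-- every certificate of the chunk is valid (kernel computation) -/
theorem tbl8_ok : chunkOk 4505 tbl8 = true := by
  decide +kernel

end Cfsg.Agent.Lib.Helper67.Range6232
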