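import Mathlib
import Cfsg.Agent.Lib.Helper67.Range6232SieveDefs
import Cfsg.Agent.Lib.Helper67.Range6232SieveT8

/-!
# helper72's S0983 project, module [SIEVE]: certificate table, chunk 9 (orders 4613..4720), generated by a script

(The import of the previous chunk only serializes the memory-hungry kernel computations.)
-/

set_option autoImplicit false

namespace Cfsg.Agent.Lib.Helper67.Range6232

/-- certificates for the orders `4613, ..., 4720` -/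
def tbl9 : List (ℕ × ℕ × ℕ × ℕ × ℕ) := [
  (0, 7, 1, 659, 1), (1, 0, 0, 0, 0), (3, 71, 1, 65, 0), (0, 2, 3, 577, 1), (0, 3, 5, 19, 1), (0, 2, 1, 2309, 1),
  (0, 31, 1, 149, 1), (4, 0, 0, 0, 0), (0, 4621, 1, 2, 0), (0, 2, 1, 2311, 1), (3, 67, 1, 69, 0), (0, 2, 4, 17, 2),
  (0, 5, 3, 37, 1), (1, 0, 0, 0, 0), (0, 7, 1, 661, 1), (2, 0, 0, 0, 0), (0, 3, 1, 1543, 1), (1, 0, 0, 0, 0),
  (0, 11, 1, 421, 1), (3, 193, 1, 24, 0), (0, 41, 1, 113, 1), (1, 0, 0, 0, 0), (3, 103, 1, 45, 0), (2, 0, 0, 0, 0),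
  (0, 4637, 1, 2, 0), (1, 0, 0, 0, 0), (0, 4639, 1, 2, 0), (3, 29, 1, 160, 0), (3, 17, 1, 273, 0), (1, 0, 0, 0, 0),
  (0, 4643, 1, 2, 0), (3, 43, 1, 108, 0), (0, 5, 1, 929, 1), (1, 0, 0, 0, 0), (0, 3, 1, 1549, 1), (3, 83, 1, 56, 0),
  (0, 4649, 1, 2, 0), (1, 0, 0, 0, 0), (0, 4651, 1, 2, 0), (0, 2, 2, 1163, 1), (3, 47, 1, 99, 0), (1, 0, 0, 0, 0),
  (3, 19, 1, 245, 0), (3, 97, 1, 48, 0), (0, 4657, 1, 2, 0), (1, 0, 0, 0, 0), (0, 3, 1, 1553, 1), (2, 0, 0, 0, 0),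
  (0, 59, 1, 79, 1), (1, 0, 0, 0, 0), (0, 4663, 1, 2, 0), (3, 53, 1, 88, 0), (3, 311, 1, 15, 0), (0, 2, 1, 2333, 1),
  (0, 13, 1, 359, 1), (3, 389, 1, 12, 0), (3, 29, 1, 161, 0), (1, 0, 0, 0, 0), (0, 3, 3, 173, 1), (0, 2, 6, 73, 1),
  (0, 4673, 1, 2, 0), (1, 0, 0, 0, 0), (3, 17, 1, 275, 0), (2, 0, 0, 0, 0), (0, 3, 1, 1559, 1), (0, 2, 1, 2339, 1),
  (0, 4679, 1, 2, 0), (4, 0, 0, 0, 0), (0, 31, 1, 151, 1), (0, 2, 1, 2341, 1), (3, 223, 1, 21, 0), (0, 2, 2, 1171, 1),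
  (0, 5, 1, 937, 1), (1, 0, 0, 0, 0), (0, 43, 1, 109, 1), (0, 2, 4, 293, 1), (0, 3, 2, 521, 1), (1, 0, 0, 0, 0),
  (0, 4691, 1, 2, 0), (3, 23, 1, 204, 0), (0, 13, 1, 19, 2), (0, 2, 1, 2347, 1), (3, 313, 1, 15, 0), (0, 2, 3, 587, 1),
  (3, 61, 1, 77, 0), (1, 0, 0, 0, 0), (0, 37, 1, 127, 1), (2, 0, 0, 0, 0), (0, 3, 1, 1567, 1), (0, 2, 1, 2351, 1),
  (0, 4703, 1, 2, 0), (3, 7, 2, 96, 0), (0, 5, 1, 941, 1), (1, 0, 0, 0, 0), (0, 3, 2, 523, 1), (2, 0, 0, 0, 0),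
  (0, 17, 1, 277, 1), (1, 0, 0, 0, 0), (0, 7, 1, 673, 1), (3, 31, 1, 152, 0), (0, 3, 1, 1571, 1), (0, 2, 1, 2357, 1),
  (3, 41, 1, 115, 0), (3, 131, 1, 36, 0), (0, 53, 1, 89, 1), (1, 0, 0, 0, 0), (3, 13, 1, 363, 0), (3, 59, 1, 80, 0)]

theorem tbl9_length : tbl9.length = 108 := by decide +kernel

set_option maxRecDepth 100000 in
/-- every certificate of the chunk is valid (kernel computation) -/
theorem tbl9_ok : chunkOk 4613 tbl9 = true := by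
  decide +kernel

end Cfsg.Agent.Lib.Helper67.Range6232
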