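import Mathlib
import Cfsg.Agent.Lib.Helper67.Range6232SieveDefs
import Cfsg.Agent.Lib.Helper67.Range6232SieveT9

/-!
# helper72's S0983 project, module [SIEVE]: certificate table, chunk 10 (orders 4721..4828), generated by a script

(The import of the previous chunk only serializes the memory-hungry kernel computations.)
-/

set_option autoImplicit false

namespace Cfsg.Agent.Lib.Helper67.Range6232

/-- certificates for the orders `4721, ..., 4828` -/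
def tbl10 : List (ℕ × ℕ × ℕ × ℕ × ℕ) := [
  (0, 4721, 1, 2, 0), (1, 0, 0, 0, 0), (0, 4723, 1, 2, 0), (0, 2, 2, 1181, 1), (3, 5, 2, 189, 0), (1, 0, 0, 0, 0),
  (0, 29, 1, 163, 1), (3, 197, 1, 24, 0), (0, 4729, 1, 2, 0), (1, 0, 0, 0, 0), (3, 83, 1, 57, 0), (2, 0, 0, 0, 0),
  (0, 4733, 1, 2, 0), (1, 0, 0, 0, 0), (0, 5, 1, 947, 1), (0, 2, 7, 37, 1), (0, 3, 1, 1579, 1), (1, 0, 0, 0, 0),
  (0, 7, 1, 677, 1), (3, 79, 1, 60, 0), (0, 11, 1, 431, 1), (0, 2, 1, 2371, 1), (3, 31, 1, 153, 0), (0, 2, 3, 593, 1),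
  (3, 73, 1, 65, 0), (1, 0, 0, 0, 0), (0, 47, 1, 101, 1), (0, 2, 2, 1187, 1), (0, 3, 1, 1583, 1), (1, 0, 0, 0, 0),
  (0, 4751, 1, 2, 0), (3, 11, 1, 432, 0), (0, 7, 2, 97, 1), (0, 2, 1, 2377, 1), (3, 317, 1, 15, 0), (2, 0, 0, 0, 0),
  (0, 67, 1, 71, 1), (1, 0, 0, 0, 0), (0, 4759, 1, 2, 0), (4, 0, 0, 0, 0), (0, 3, 2, 23, 2), (0, 2, 1, 2381, 1),
  (0, 11, 1, 433, 1), (3, 397, 1, 12, 0), (0, 5, 1, 953, 1), (0, 2, 1, 2383, 1), (3, 227, 1, 21, 0), (0, 2, 5, 149, 1),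
  (0, 19, 1, 251, 1), (1, 0, 0, 0, 0), (0, 13, 1, 367, 1), (0, 2, 2, 1193, 1), (3, 43, 1, 111, 0), (1, 0, 0, 0, 0),
  (0, 5, 2, 191, 1), (3, 199, 1, 24, 0), (0, 17, 1, 281, 1), (0, 2, 1, 2389, 1), (0, 3, 4, 59, 1), (2, 0, 0, 0, 0),
  (0, 7, 1, 683, 1), (1, 0, 0, 0, 0), (0, 4783, 1, 2, 0), (3, 23, 1, 208, 0), (3, 29, 1, 165, 0), (0, 2, 1, 2393, 1),
  (0, 4787, 1, 2, 0), (3, 19, 1, 252, 0), (0, 4789, 1, 2, 0), (1, 0, 0, 0, 0), (0, 3, 1, 1597, 1), (0, 2, 3, 599, 1),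
  (0, 4793, 1, 2, 0), (1, 0, 0, 0, 0), (3, 137, 1, 35, 0), (2, 0, 0, 0, 0), (3, 41, 1, 117, 0), (0, 2, 1, 2399, 1),
  (0, 4799, 1, 2, 0), (4, 0, 0, 0, 0), (0, 4801, 1, 2, 0), (0, 2, 1, 7, 4), (0, 3, 1, 1601, 1), (0, 2, 2, 1201, 1),
  (0, 5, 1, 31, 2), (1, 0, 0, 0, 0), (3, 23, 1, 209, 0), (0, 2, 3, 601, 1), (3, 229, 1, 21, 0), (1, 0, 0, 0, 0),
  (0, 17, 1, 283, 1), (3, 401, 1, 12, 0), (0, 4813, 1, 2, 0), (1, 0, 0, 0, 0), (3, 107, 1, 45, 0), (3, 43, 1, 112, 0),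
  (0, 4817, 1, 2, 0), (1, 0, 0, 0, 0), (0, 61, 1, 79, 1), (2, 0, 0, 0, 0), (0, 3, 1, 1607, 1), (0, 2, 1, 2411, 1),
  (3, 53, 1, 91, 0), (3, 67, 1, 72, 0), (0, 5, 2, 193, 1), (1, 0, 0, 0, 0), (0, 3, 1, 1609, 1), (2, 0, 0, 0, 0)]

theorem tbl10_length : tbl10.length = 108 := by decide +kernel

set_option maxRecDepth 100000 in
/-- every certificate of the chunk is valid (kernel computation) -/
theorem tbl10_ok : chunkOk 4721 tbl10 = true := by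
  decide +kernel

end Cfsg.Agent.Lib.Helper67.Range6232
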