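import Mathlib
import Cfsg.Agent.Lib.Helper67.Range6232SieveDefs
import Cfsg.Agent.Lib.Helper67.Range6232SieveT10

/-!
# helper72's S0983 project, module [SIEVE]: certificate table, chunk 11 (orders 4829..4936), generated by a script

(The import of the previous chunk only serializes the memory-hungry kernel computations.)
-/

set_option autoImplicit false

namespace Cfsg.Agent.Lib.Helper67.Range6232

/-- certificates for the orders `4829, ..., 4936` -/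
def tbl11 : List (ℕ × ℕ × ℕ × ℕ × ℕ) := [
  (0, 11, 1, 439, 1), (1, 0, 0, 0, 0), (0, 4831, 1, 2, 0), (0, 2, 5, 151, 1), (0, 3, 3, 179, 1), (0, 2, 1, 2417, 1),
  (0, 5, 1, 967, 1), (3, 31, 1, 156, 0), (0, 7, 1, 691, 1), (1, 0, 0, 0, 0), (0, 3, 1, 1613, 1), (3, 11, 2, 40, 0),
  (0, 47, 1, 103, 1), (1, 0, 0, 0, 0), (0, 29, 1, 167, 1), (2, 0, 0, 0, 0), (3, 19, 1, 255, 0), (0, 2, 1, 2423, 1),
  (0, 37, 1, 131, 1), (3, 101, 1, 48, 0), (0, 13, 1, 373, 1), (1, 0, 0, 0, 0), (3, 11, 1, 441, 0), (0, 2, 2, 1213, 1),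
  (0, 23, 1, 211, 1), (1, 0, 0, 0, 0), (0, 5, 1, 971, 1), (0, 2, 3, 607, 1), (0, 3, 1, 1619, 1), (1, 0, 0, 0, 0),
  (0, 43, 1, 113, 1), (3, 3, 5, 20, 0), (0, 4861, 1, 2, 0), (1, 0, 0, 0, 0), (0, 3, 1, 1621, 1), (0, 2, 8, 19, 1),
  (3, 139, 1, 35, 0), (1, 0, 0, 0, 0), (0, 31, 1, 157, 1), (0, 2, 2, 1217, 1), (0, 3, 2, 541, 1), (1, 0, 0, 0, 0),
  (0, 4871, 1, 2, 0), (3, 29, 1, 168, 0), (0, 11, 1, 443, 1), (0, 2, 1, 2437, 1), (3, 13, 1, 375, 0), (2, 0, 0, 0, 0),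
  (0, 4877, 1, 2, 0), (1, 0, 0, 0, 0), (3, 41, 1, 119, 0), (3, 61, 1, 80, 0), (0, 3, 1, 1627, 1), (0, 2, 1, 2441, 1),
  (0, 19, 1, 257, 1), (3, 37, 1, 132, 0), (0, 5, 1, 977, 1), (1, 0, 0, 0, 0), (0, 3, 3, 181, 1), (3, 47, 1, 104, 0),
  (0, 4889, 1, 2, 0), (1, 0, 0, 0, 0), (0, 67, 1, 73, 1), (0, 2, 2, 1223, 1), (3, 233, 1, 21, 0), (0, 2, 1, 2447, 1),
  (3, 89, 1, 55, 0), (3, 17, 1, 288, 0), (0, 59, 1, 83, 1), (1, 0, 0, 0, 0), (3, 71, 1, 69, 0), (2, 0, 0, 0, 0),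
  (0, 13, 2, 29, 1), (1, 0, 0, 0, 0), (0, 4903, 1, 2, 0), (0, 2, 3, 613, 1), (3, 109, 1, 45, 0), (1, 0, 0, 0, 0),
  (0, 7, 1, 701, 1), (3, 409, 1, 12, 0), (0, 4909, 1, 2, 0), (1, 0, 0, 0, 0), (0, 3, 1, 1637, 1), (0, 2, 4, 307, 1),
  (0, 17, 3, 2, 0), (1, 0, 0, 0, 0), (0, 5, 1, 983, 1), (0, 2, 2, 1229, 1), (3, 149, 1, 33, 0), (0, 2, 1, 2459, 1),
  (0, 4919, 1, 2, 0), (3, 41, 1, 120, 0), (3, 37, 1, 133, 0), (1, 0, 0, 0, 0), (0, 3, 2, 547, 1), (0, 2, 2, 1231, 1),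
  (0, 5, 2, 197, 1), (1, 0, 0, 0, 0), (0, 13, 1, 379, 1), (4, 0, 0, 0, 0), (3, 53, 1, 93, 0), (1, 0, 0, 0, 0),
  (0, 4931, 1, 2, 0), (3, 137, 1, 36, 0), (0, 4933, 1, 2, 0), (0, 2, 1, 2467, 1), (3, 47, 1, 105, 0), (0, 2, 3, 617, 1)]

theorem tbl11_length : tbl11.length = 108 := by decide +kernel

set_option maxRecDepth 100000 in
/-- every certificate of the chunk is valid (kernel computation) -/
theorem tbl11_ok : chunkOk 4829 tbl11 = true := by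
  decide +kernel

end Cfsg.Agent.Lib.Helper67.Range6232
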