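import Mathlib
import Cfsg.Agent.Lib.Helper67.Range6232SieveDefs

/-!
# helper72's S0983 project, module [SIEVE]: certificate table, chunk 12 (orders 4937..5044), generated by a script
-/

set_option autoImplicit false

namespace Cfsg.Agent.Lib.Helper67.Range6232

/-- certificates for the orders `4937, ..., 5044` -/
def tbl12 : List (ℕ × ℕ × ℕ × ℕ × ℕ) := [
  (0, 4937, 1, 2, 0), (1, 0, 0, 0, 0), (0, 11, 1, 449, 1), (2, 0, 0, 0, 0), (0, 3, 4, 61, 1), (1, 0, 0, 0, 0),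
  (0, 4943, 1, 2, 0), (3, 103, 1, 48, 0), (3, 43, 1, 115, 0), (0, 2, 1, 2473, 1), (3, 97, 1, 51, 0), (0, 2, 2, 1237, 1),
  (0, 7, 2, 101, 1), (1, 0, 0, 0, 0), (0, 4951, 1, 2, 0), (0, 2, 3, 619, 1), (3, 127, 1, 39, 0), (0, 2, 1, 2477, 1),
  (0, 5, 1, 991, 1), (3, 59, 1, 84, 0), (0, 4957, 1, 2, 0), (1, 0, 0, 0, 0), (3, 29, 1, 171, 0), (4, 0, 0, 0, 0),
  (0, 11, 2, 41, 1), (1, 0, 0, 0, 0), (0, 7, 1, 709, 1), (2, 0, 0, 0, 0), (3, 331, 1, 15, 0), (1, 0, 0, 0, 0),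
  (0, 4967, 1, 2, 0), (3, 23, 1, 216, 0), (0, 4969, 1, 2, 0), (1, 0, 0, 0, 0), (0, 3, 1, 1657, 1), (2, 0, 0, 0, 0),
  (0, 4973, 1, 2, 0), (1, 0, 0, 0, 0), (0, 5, 2, 199, 1), (0, 2, 4, 311, 1), (3, 79, 1, 63, 0), (1, 0, 0, 0, 0),
  (0, 13, 1, 383, 1), (3, 83, 1, 60, 0), (0, 17, 1, 293, 1), (1, 0, 0, 0, 0), (3, 151, 1, 33, 0), (3, 89, 1, 56, 0),
  (0, 5, 1, 997, 1), (1, 0, 0, 0, 0), (0, 4987, 1, 2, 0), (2, 0, 0, 0, 0), (0, 3, 1, 1663, 1), (1, 0, 0, 0, 0),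
  (3, 31, 1, 161, 0), (3, 13, 1, 384, 0), (0, 4993, 1, 2, 0), (1, 0, 0, 0, 0), (3, 37, 1, 135, 0), (0, 2, 2, 1249, 1),
  (0, 19, 1, 263, 1), (1, 0, 0, 0, 0), (0, 4999, 1, 2, 0), (0, 2, 3, 5, 4), (0, 3, 1, 1667, 1), (1, 0, 0, 0, 0),
  (0, 5003, 1, 2, 0), (3, 139, 1, 36, 0), (3, 13, 1, 385, 0), (0, 2, 1, 2503, 1), (0, 3, 1, 1669, 1), (0, 2, 4, 313, 1),
  (0, 5009, 1, 2, 0), (1, 0, 0, 0, 0), (0, 5011, 1, 2, 0), (2, 0, 0, 0, 0), (0, 3, 2, 557, 1), (1, 0, 0, 0, 0),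
  (3, 59, 1, 85, 0), (3, 19, 1, 264, 0), (0, 29, 1, 173, 1), (1, 0, 0, 0, 0), (3, 239, 1, 21, 0), (2, 0, 0, 0, 0),
  (0, 5021, 1, 2, 0), (1, 0, 0, 0, 0), (0, 5023, 1, 2, 0), (0, 2, 5, 157, 1), (3, 67, 1, 75, 0), (1, 0, 0, 0, 0),
  (0, 11, 1, 457, 1), (3, 419, 1, 12, 0), (0, 47, 1, 107, 1), (1, 0, 0, 0, 0), (3, 43, 1, 117, 0), (3, 37, 1, 136, 0),
  (0, 7, 1, 719, 1), (1, 0, 0, 0, 0), (3, 53, 1, 95, 0), (0, 2, 2, 1259, 1), (3, 73, 1, 69, 0), (1, 0, 0, 0, 0),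
  (0, 5039, 1, 2, 0), (4, 0, 0, 0, 0), (0, 71, 2, 2, 0), (0, 2, 1, 2521, 1), (0, 3, 1, 41, 2), (2, 0, 0, 0, 0)]

theorem tbl12_length : tbl12.length = 108 := by decide +kernel

set_option maxRecDepth 100000 in
/-- every certificate of the chunk is valid (kernel computation) -/
theorem tbl12_ok : chunkOk 4937 tbl12 = true := by
  decide +kernel

end Cfsg.Agent.Lib.Helper67.Range6232
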