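import Mathlib
import Cfsg.Agent.Lib.Helper67.Range6232SieveDefs
import Cfsg.Agent.Lib.Helper67.Range6232SieveT12

/-!
# helper72's S0983 project, module [SIEVE]: certificate table, chunk 13 (orders 5045..5152), generated by a script

(The import of the previous chunk only serializes the memory-hungry kernel computations.)
-/

set_option autoImplicit false

namespace Cfsg.Agent.Lib.Helper67.Range6232

/-- certificates for the orders `5045, ..., 5152` -/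
def tbl13 : List (ℕ × ℕ × ℕ × ℕ × ℕ) := [
  (0, 5, 1, 1009, 1), (1, 0, 0, 0, 0), (0, 7, 2, 103, 1), (0, 2, 3, 631, 1), (3, 17, 1, 297, 0), (1, 0, 0, 0, 0),
  (0, 5051, 1, 2, 0), (3, 421, 1, 12, 0), (0, 31, 1, 163, 1), (1, 0, 0, 0, 0), (3, 337, 1, 15, 0), (0, 2, 6, 79, 1),
  (0, 13, 1, 389, 1), (1, 0, 0, 0, 0), (0, 5059, 1, 2, 0), (2, 0, 0, 0, 0), (3, 241, 1, 21, 0), (0, 2, 1, 2531, 1),
  (0, 61, 1, 83, 1), (3, 211, 1, 24, 0), (0, 5, 1, 1013, 1), (1, 0, 0, 0, 0), (0, 3, 2, 563, 1), (2, 0, 0, 0, 0),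
  (0, 37, 1, 137, 1), (1, 0, 0, 0, 0), (0, 11, 1, 461, 1), (0, 2, 4, 317, 1), (3, 89, 1, 57, 0), (1, 0, 0, 0, 0),
  (3, 29, 1, 175, 0), (3, 47, 1, 108, 0), (0, 5077, 1, 2, 0), (0, 2, 1, 2539, 1), (0, 3, 1, 1693, 1), (3, 127, 1, 40, 0),
  (0, 5081, 1, 2, 0), (1, 0, 0, 0, 0), (3, 23, 1, 221, 0), (2, 0, 0, 0, 0), (3, 113, 1, 45, 0), (0, 2, 1, 2543, 1),
  (0, 5087, 1, 2, 0), (3, 53, 1, 96, 0), (0, 7, 1, 727, 1), (1, 0, 0, 0, 0), (0, 3, 1, 1697, 1), (2, 0, 0, 0, 0),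
  (0, 11, 1, 463, 1), (1, 0, 0, 0, 0), (0, 5, 1, 1019, 1), (3, 7, 2, 104, 0), (0, 3, 1, 1699, 1), (0, 2, 1, 2549, 1),
  (0, 5099, 1, 2, 0), (3, 17, 1, 300, 0), (0, 5101, 1, 2, 0), (0, 2, 1, 2551, 1), (0, 3, 6, 7, 1), (4, 0, 0, 0, 0),
  (0, 5, 1, 1021, 1), (1, 0, 0, 0, 0), (0, 5107, 1, 2, 0), (0, 2, 2, 1277, 1), (3, 131, 1, 39, 0), (1, 0, 0, 0, 0),
  (0, 19, 1, 269, 1), (3, 71, 1, 72, 0), (0, 5113, 1, 2, 0), (0, 2, 1, 2557, 1), (3, 31, 1, 165, 0), (0, 2, 2, 1279, 1),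
  (3, 43, 1, 119, 0), (1, 0, 0, 0, 0), (0, 5119, 1, 2, 0), (0, 2, 10, 5, 1), (0, 3, 2, 569, 1), (1, 0, 0, 0, 0),
  (0, 47, 1, 109, 1), (3, 61, 1, 84, 0), (0, 5, 3, 41, 1), (1, 0, 0, 0, 0), (0, 3, 1, 1709, 1), (0, 2, 3, 641, 1),
  (0, 23, 1, 223, 1), (1, 0, 0, 0, 0), (0, 7, 1, 733, 1), (0, 2, 2, 1283, 1), (3, 59, 1, 87, 0), (1, 0, 0, 0, 0),
  (3, 79, 1, 65, 0), (3, 107, 1, 48, 0), (0, 11, 1, 467, 1), (1, 0, 0, 0, 0), (0, 3, 2, 571, 1), (2, 0, 0, 0, 0),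
  (0, 53, 1, 97, 1), (1, 0, 0, 0, 0), (0, 37, 1, 139, 1), (0, 2, 3, 643, 1), (3, 7, 3, 15, 0), (1, 0, 0, 0, 0),
  (0, 5147, 1, 2, 0), (4, 0, 0, 0, 0), (0, 19, 1, 271, 1), (1, 0, 0, 0, 0), (3, 101, 1, 51, 0), (3, 23, 1, 224, 0)]

theorem tbl13_length : tbl13.length = 108 := by decide +kernel

set_option maxRecDepth 100000 in
/-- every certificate of the chunk is valid (kernel computation) -/
theorem tbl13_ok : chunkOk 5045 tbl13 = true := by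
  decide +kernel

end Cfsg.Agent.Lib.Helper67.Range6232
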