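import Mathlib
import Cfsg.Agent.Lib.Helper67.Range6232SieveDefs
import Cfsg.Agent.Lib.Helper67.Range6232SieveT13

/-!
# helper72's S0983 project, module [SIEVE]: certificate table, chunk 14 (orders 5153..5260), generated by a script

(The import of the previous chunk only serializes the memory-hungry kernel computations.)
-/

set_option autoImplicit false

namespace Cfsg.Agent.Lib.Helper67.Range6232

/-- certificates for the orders `5153, ..., 5260` -/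
def tbl14 : List (ℕ × ℕ × ℕ × ℕ × ℕ) := [
  (0, 5153, 1, 2, 0), (1, 0, 0, 0, 0), (0, 5, 1, 1031, 1), (0, 2, 2, 1289, 1), (0, 3, 3, 191, 1), (0, 2, 1, 2579, 1),
  (3, 67, 1, 77, 0), (3, 43, 1, 120, 0), (0, 13, 1, 397, 1), (1, 0, 0, 0, 0), (0, 3, 1, 1721, 1), (0, 2, 2, 1291, 1),
  (0, 5, 1, 1033, 1), (1, 0, 0, 0, 0), (0, 5167, 1, 2, 0), (3, 19, 1, 272, 0), (0, 3, 1, 1723, 1), (1, 0, 0, 0, 0),
  (0, 5171, 1, 2, 0), (3, 431, 1, 12, 0), (0, 7, 1, 739, 1), (1, 0, 0, 0, 0), (3, 23, 1, 225, 0), (0, 2, 3, 647, 1),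
  (0, 31, 1, 167, 1), (1, 0, 0, 0, 0), (0, 5179, 1, 2, 0), (2, 0, 0, 0, 0), (3, 157, 1, 33, 0), (0, 2, 1, 2591, 1),
  (0, 71, 1, 73, 1), (0, 2, 6, 3, 4), (3, 61, 1, 85, 0), (0, 2, 1, 2593, 1), (3, 19, 1, 273, 0), (0, 2, 2, 1297, 1),
  (0, 5189, 1, 2, 0), (1, 0, 0, 0, 0), (0, 29, 1, 179, 1), (3, 59, 1, 88, 0), (0, 3, 2, 577, 1), (1, 0, 0, 0, 0),
  (0, 5, 1, 1039, 1), (3, 433, 1, 12, 0), (0, 5197, 1, 2, 0), (1, 0, 0, 0, 0), (0, 3, 1, 1733, 1), (4, 0, 0, 0, 0),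
  (0, 7, 1, 743, 1), (1, 0, 0, 0, 0), (0, 11, 2, 43, 1), (0, 2, 2, 1301, 1), (3, 347, 1, 15, 0), (1, 0, 0, 0, 0),
  (0, 41, 1, 127, 1), (3, 31, 1, 168, 0), (0, 5209, 1, 2, 0), (1, 0, 0, 0, 0), (0, 3, 3, 193, 1), (0, 2, 2, 1303, 1),
  (0, 13, 1, 401, 1), (1, 0, 0, 0, 0), (3, 149, 1, 35, 0), (0, 2, 5, 163, 1), (3, 47, 1, 111, 0), (0, 2, 1, 2609, 1),
  (0, 17, 1, 307, 1), (3, 29, 1, 180, 0), (0, 23, 1, 227, 1), (1, 0, 0, 0, 0), (0, 3, 1, 1741, 1), (0, 2, 3, 653, 1),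
  (3, 19, 1, 275, 0), (1, 0, 0, 0, 0), (0, 5227, 1, 2, 0), (0, 2, 2, 1307, 1), (3, 83, 1, 63, 0), (1, 0, 0, 0, 0),
  (0, 5231, 1, 2, 0), (3, 109, 1, 48, 0), (0, 5233, 1, 2, 0), (0, 2, 1, 2617, 1), (3, 349, 1, 15, 0), (2, 0, 0, 0, 0),
  (0, 5237, 1, 2, 0), (1, 0, 0, 0, 0), (0, 13, 2, 31, 1), (3, 131, 1, 40, 0), (0, 3, 1, 1747, 1), (0, 2, 1, 2621, 1),
  (0, 7, 2, 107, 1), (3, 23, 1, 228, 0), (0, 5, 1, 1049, 1), (1, 0, 0, 0, 0), (3, 53, 1, 99, 0), (0, 2, 7, 41, 1),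
  (0, 29, 1, 181, 1), (1, 0, 0, 0, 0), (0, 59, 1, 89, 1), (2, 0, 0, 0, 0), (3, 103, 1, 51, 0), (1, 0, 0, 0, 0),
  (0, 5, 1, 1051, 1), (3, 73, 1, 72, 0), (0, 7, 1, 751, 1), (1, 0, 0, 0, 0), (0, 3, 1, 1753, 1), (2, 0, 0, 0, 0)]

theorem tbl14_length : tbl14.length = 108 := by decide +kernel

set_option maxRecDepth 100000 in
/-- every certificate of the chunk is valid (kernel computation) -/
theorem tbl14_ok : chunkOk 5153 tbl14 = true := by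
  decide +kernel

end Cfsg.Agent.Lib.Helper67.Range6232
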