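import Mathlib
import Cfsg.Agent.Lib.Helper67.Range6232SieveDefs
import Cfsg.Agent.Lib.Helper67.Range6232SieveT14

/-!
# helper72's S0983 project, module [SIEVE]: certificate table, chunk 15 (orders 5261..5368), generated by a script

(The import of the previous chunk only serializes the memory-hungry kernel computations.)
-/

set_option autoImplicit false

namespace Cfsg.Agent.Lib.Helper67.Range6232

/-- certificates for the orders `5261, ..., 5368` -/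
def tbl15 : List (ℕ × ℕ × ℕ × ℕ × ℕ) := [
  (0, 5261, 1, 2, 0), (1, 0, 0, 0, 0), (0, 19, 1, 277, 1), (3, 47, 1, 112, 0), (3, 5, 1, 1053, 0), (0, 2, 1, 2633, 1),
  (0, 23, 1, 229, 1), (3, 439, 1, 12, 0), (0, 11, 1, 479, 1), (1, 0, 0, 0, 0), (3, 251, 1, 21, 0), (0, 2, 3, 659, 1),
  (0, 5273, 1, 2, 0), (1, 0, 0, 0, 0), (0, 5, 2, 211, 1), (0, 2, 2, 1319, 1), (0, 3, 1, 1759, 1), (1, 0, 0, 0, 0),
  (0, 5279, 1, 2, 0), (3, 11, 1, 480, 0), (0, 5281, 1, 2, 0), (1, 0, 0, 0, 0), (0, 3, 2, 587, 1), (0, 2, 2, 1321, 1),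
  (3, 151, 1, 35, 0), (1, 0, 0, 0, 0), (0, 17, 1, 311, 1), (0, 2, 3, 661, 1), (3, 43, 1, 123, 0), (1, 0, 0, 0, 0),
  (3, 37, 1, 143, 0), (3, 7, 2, 108, 0), (0, 67, 1, 79, 1), (0, 2, 1, 2647, 1), (3, 353, 1, 15, 0), (0, 2, 4, 331, 1),
  (0, 5297, 1, 2, 0), (1, 0, 0, 0, 0), (0, 7, 1, 757, 1), (2, 0, 0, 0, 0), (3, 31, 1, 171, 0), (1, 0, 0, 0, 0),
  (0, 5303, 1, 2, 0), (3, 13, 1, 408, 0), (0, 5, 1, 1061, 1), (1, 0, 0, 0, 0), (3, 61, 1, 87, 0), (0, 2, 2, 1327, 1),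
  (0, 5309, 1, 2, 0), (1, 0, 0, 0, 0), (0, 47, 1, 113, 1), (0, 2, 6, 83, 1), (3, 23, 1, 231, 0), (0, 2, 1, 2657, 1),
  (0, 5, 1, 1063, 1), (3, 443, 1, 12, 0), (0, 13, 1, 409, 1), (0, 2, 1, 2659, 1), (0, 3, 3, 197, 1), (3, 19, 1, 280, 0),
  (0, 17, 1, 313, 1), (1, 0, 0, 0, 0), (0, 5323, 1, 2, 0), (0, 2, 2, 11, 3), (3, 71, 1, 75, 0), (0, 2, 1, 2663, 1),
  (0, 7, 1, 761, 1), (3, 37, 1, 144, 0), (0, 73, 2, 2, 0), (1, 0, 0, 0, 0), (0, 3, 1, 1777, 1), (2, 0, 0, 0, 0),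
  (0, 5333, 1, 2, 0), (1, 0, 0, 0, 0), (3, 97, 1, 55, 0), (3, 29, 1, 184, 0), (0, 3, 2, 593, 1), (1, 0, 0, 0, 0),
  (0, 19, 1, 281, 1), (3, 89, 1, 60, 0), (0, 7, 2, 109, 1), (0, 2, 1, 2671, 1), (3, 137, 1, 39, 0), (0, 2, 5, 167, 1),
  (0, 5, 1, 1069, 1), (1, 0, 0, 0, 0), (0, 5347, 1, 2, 0), (2, 0, 0, 0, 0), (0, 3, 1, 1783, 1), (1, 0, 0, 0, 0),
  (0, 5351, 1, 2, 0), (3, 223, 1, 24, 0), (0, 53, 1, 101, 1), (0, 2, 1, 2677, 1), (3, 17, 1, 315, 0), (2, 0, 0, 0, 0),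
  (0, 11, 1, 487, 1), (1, 0, 0, 0, 0), (0, 23, 1, 233, 1), (3, 67, 1, 80, 0), (0, 3, 1, 1787, 1), (1, 0, 0, 0, 0),
  (0, 31, 1, 173, 1), (3, 149, 1, 36, 0), (3, 37, 1, 145, 0), (0, 2, 1, 2683, 1), (0, 3, 1, 1789, 1), (3, 61, 1, 88, 0)]

theorem tbl15_length : tbl15.length = 108 := by decide +kernel

set_option maxRecDepth 100000 in
/-- every certificate of the chunk is valid (kernel computation) -/
theorem tbl15_ok : chunkOk 5261 tbl15 = true := by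
  decide +kernel

end Cfsg.Agent.Lib.Helper67.Range6232
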