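import Mathlib
import Cfsg.Agent.Lib.Helper67.Range6232SieveDefs

/-!
# helper72's S0983 project, module [SIEVE]: certificate table, chunk 16 (orders 5369..5476), generated by a script
-/

set_option autoImplicit false

namespace Cfsg.Agent.Lib.Helper67.Range6232

/-- certificates for the orders `5369, ..., 5476` -/
def tbl16 : List (ℕ × ℕ × ℕ × ℕ × ℕ) := [
  (3, 59, 1, 91, 0), (1, 0, 0, 0, 0), (0, 41, 1, 131, 1), (2, 0, 0, 0, 0), (0, 3, 3, 199, 1), (0, 2, 1, 2687, 1),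
  (0, 5, 3, 43, 1), (4, 0, 0, 0, 0), (0, 19, 1, 283, 1), (0, 2, 1, 2689, 1), (3, 163, 1, 33, 0), (2, 0, 0, 0, 0),
  (0, 5381, 1, 2, 0), (1, 0, 0, 0, 0), (0, 7, 1, 769, 1), (0, 2, 3, 673, 1), (3, 359, 1, 15, 0), (0, 2, 1, 2693, 1),
  (0, 5387, 1, 2, 0), (3, 449, 1, 12, 0), (0, 17, 1, 317, 1), (1, 0, 0, 0, 0), (0, 3, 2, 599, 1), (0, 2, 4, 337, 1),
  (0, 5393, 1, 2, 0), (1, 0, 0, 0, 0), (3, 83, 1, 65, 0), (2, 0, 0, 0, 0), (3, 257, 1, 21, 0), (0, 2, 1, 2699, 1),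
  (0, 5399, 1, 2, 0), (4, 0, 0, 0, 0), (0, 11, 1, 491, 1), (1, 0, 0, 0, 0), (0, 3, 1, 1801, 1), (2, 0, 0, 0, 0),
  (3, 47, 1, 115, 0), (1, 0, 0, 0, 0), (0, 5407, 1, 2, 0), (0, 2, 5, 13, 2), (0, 3, 2, 601, 1), (1, 0, 0, 0, 0),
  (0, 7, 1, 773, 1), (3, 41, 1, 132, 0), (0, 5413, 1, 2, 0), (0, 2, 1, 2707, 1), (3, 19, 2, 15, 0), (0, 2, 3, 677, 1),
  (0, 5417, 1, 2, 0), (1, 0, 0, 0, 0), (0, 5419, 1, 2, 0), (2, 0, 0, 0, 0), (3, 139, 1, 39, 0), (0, 2, 1, 2711, 1),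
  (3, 29, 1, 187, 0), (3, 113, 1, 48, 0), (3, 31, 1, 175, 0), (0, 2, 1, 2713, 1), (0, 3, 4, 67, 1), (2, 0, 0, 0, 0),
  (0, 61, 1, 89, 1), (1, 0, 0, 0, 0), (0, 5431, 1, 2, 0), (3, 97, 1, 56, 0), (0, 3, 1, 1811, 1), (1, 0, 0, 0, 0),
  (0, 5, 1, 1087, 1), (3, 151, 1, 36, 0), (0, 5437, 1, 2, 0), (0, 2, 1, 2719, 1), (3, 37, 1, 147, 0), (3, 17, 1, 320, 0),
  (0, 5441, 1, 2, 0), (1, 0, 0, 0, 0), (0, 5443, 1, 2, 0), (0, 2, 2, 1361, 1), (3, 11, 2, 45, 0), (1, 0, 0, 0, 0),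
  (0, 13, 1, 419, 1), (3, 227, 1, 24, 0), (0, 5449, 1, 2, 0), (1, 0, 0, 0, 0), (3, 79, 1, 69, 0), (2, 0, 0, 0, 0),
  (3, 41, 1, 133, 0), (1, 0, 0, 0, 0), (0, 5, 1, 1091, 1), (3, 31, 1, 176, 0), (3, 107, 1, 51, 0), (0, 2, 1, 2729, 1),
  (0, 53, 1, 103, 1), (4, 0, 0, 0, 0), (0, 43, 1, 127, 1), (0, 2, 1, 2731, 1), (0, 3, 2, 607, 1), (0, 2, 3, 683, 1),
  (0, 5, 1, 1093, 1), (1, 0, 0, 0, 0), (3, 71, 1, 77, 0), (0, 2, 2, 1367, 1), (0, 3, 1, 1823, 1), (1, 0, 0, 0, 0),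
  (0, 5471, 1, 2, 0), (4, 0, 0, 0, 0), (0, 13, 1, 421, 1), (1, 0, 0, 0, 0), (3, 73, 1, 75, 0), (0, 2, 2, 37, 2)]

theorem tbl16_length : tbl16.length = 108 := by decide +kernel

set_option maxRecDepth 100000 in
/-- every certificate of the chunk is valid (kernel computation) -/
theorem tbl16_ok : chunkOk 5369 tbl16 = true := by
  decide +kernel

end Cfsg.Agent.Lib.Helper67.Range6232
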