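import Mathlib
import Cfsg.Agent.Lib.Helper67.Range6232SieveDefs
import Cfsg.Agent.Lib.Helper67.Range6232SieveT16

/-!
# helper72's S0983 project, module [SIEVE]: certificate table, chunk 17 (orders 5477..5584), generated by a script

(The import of the previous chunk only serializes the memory-hungry kernel computations.)
-/

set_option autoImplicit false

namespace Cfsg.Agent.Lib.Helper67.Range6232

/-- certificates for the orders `5477, ..., 5584` -/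
def tbl17 : List (ℕ × ℕ × ℕ × ℕ × ℕ) := [
  (0, 5477, 1, 2, 0), (1, 0, 0, 0, 0), (0, 5479, 1, 2, 0), (3, 137, 1, 40, 0), (3, 29, 1, 189, 0), (0, 2, 1, 2741, 1),
  (0, 5483, 1, 2, 0), (3, 457, 1, 12, 0), (0, 5, 1, 1097, 1), (1, 0, 0, 0, 0), (3, 59, 1, 93, 0), (0, 2, 4, 7, 3),
  (0, 11, 1, 499, 1), (1, 0, 0, 0, 0), (0, 17, 2, 19, 1), (0, 2, 2, 1373, 1), (0, 3, 1, 1831, 1), (1, 0, 0, 0, 0),
  (3, 157, 1, 35, 0), (3, 229, 1, 24, 0), (0, 23, 1, 239, 1), (0, 2, 1, 2749, 1), (3, 47, 1, 117, 0), (2, 0, 0, 0, 0),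
  (0, 5501, 1, 2, 0), (1, 0, 0, 0, 0), (0, 5503, 1, 2, 0), (0, 2, 7, 43, 1), (3, 367, 1, 15, 0), (0, 2, 1, 2753, 1),
  (0, 5507, 1, 2, 0), (3, 17, 1, 324, 0), (0, 7, 1, 787, 1), (1, 0, 0, 0, 0), (3, 167, 1, 33, 0), (3, 53, 1, 104, 0),
  (0, 37, 1, 149, 1), (1, 0, 0, 0, 0), (0, 5, 1, 1103, 1), (2, 0, 0, 0, 0), (0, 3, 2, 613, 1), (1, 0, 0, 0, 0),
  (0, 5519, 1, 2, 0), (3, 23, 1, 240, 0), (0, 5521, 1, 2, 0), (1, 0, 0, 0, 0), (3, 263, 1, 21, 0), (0, 2, 2, 1381, 1),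
  (3, 17, 1, 325, 0), (1, 0, 0, 0, 0), (0, 5527, 1, 2, 0), (0, 2, 3, 691, 1), (3, 97, 1, 57, 0), (1, 0, 0, 0, 0),
  (0, 5531, 1, 2, 0), (3, 461, 1, 12, 0), (0, 11, 1, 503, 1), (0, 2, 1, 2767, 1), (3, 41, 1, 135, 0), (0, 2, 5, 173, 1),
  (0, 7, 2, 113, 1), (1, 0, 0, 0, 0), (0, 29, 1, 191, 1), (2, 0, 0, 0, 0), (0, 3, 1, 1847, 1), (1, 0, 0, 0, 0),
  (0, 23, 1, 241, 1), (3, 11, 1, 504, 0), (0, 5, 1, 1109, 1), (1, 0, 0, 0, 0), (0, 3, 1, 43, 2), (2, 0, 0, 0, 0),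
  (0, 31, 1, 179, 1), (1, 0, 0, 0, 0), (3, 61, 1, 91, 0), (0, 2, 4, 347, 1), (0, 3, 2, 617, 1), (0, 2, 1, 2777, 1),
  (3, 101, 1, 55, 0), (3, 463, 1, 12, 0), (0, 5557, 1, 2, 0), (1, 0, 0, 0, 0), (3, 109, 1, 51, 0), (3, 139, 1, 40, 0),
  (0, 67, 1, 83, 1), (1, 0, 0, 0, 0), (0, 5563, 1, 2, 0), (2, 0, 0, 0, 0), (3, 53, 1, 105, 0), (1, 0, 0, 0, 0),
  (0, 19, 1, 293, 1), (3, 29, 1, 192, 0), (0, 5569, 1, 2, 0), (1, 0, 0, 0, 0), (0, 3, 2, 619, 1), (2, 0, 0, 0, 0),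
  (0, 5573, 1, 2, 0), (1, 0, 0, 0, 0), (0, 5, 2, 223, 1), (3, 41, 1, 136, 0), (3, 13, 2, 33, 0), (0, 2, 1, 2789, 1),
  (0, 7, 1, 797, 1), (3, 31, 1, 180, 0), (0, 5581, 1, 2, 0), (0, 2, 1, 2791, 1), (0, 3, 1, 1861, 1), (0, 2, 4, 349, 1)]

theorem tbl17_length : tbl17.length = 108 := by decide +kernel

set_option maxRecDepth 100000 in
/-- every certificate of the chunk is valid (kernel computation) -/
theorem tbl17_ok : chunkOk 5477 tbl17 = true := by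
  decide +kernel

end Cfsg.Agent.Lib.Helper67.Range6232
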