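import Mathlib
import Cfsg.Agent.Lib.Helper67.Range6232SieveDefs
import Cfsg.Agent.Lib.Helper67.Range6232SieveT17

/-!
# helper72's S0983 project, module [SIEVE]: certificate table, chunk 18 (orders 5585..5692), generated by a script

(The import of the previous chunk only serializes the memory-hungry kernel computations.)
-/

set_option autoImplicit false

namespace Cfsg.Agent.Lib.Helper67.Range6232

/-- certificates for the orders `5585, ..., 5692` -/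
def tbl18 : List (ℕ × ℕ × ℕ × ℕ × ℕ) := [
  (0, 5, 1, 1117, 1), (1, 0, 0, 0, 0), (0, 37, 1, 151, 1), (2, 0, 0, 0, 0), (0, 3, 5, 23, 1), (1, 0, 0, 0, 0),
  (0, 5591, 1, 2, 0), (3, 233, 1, 24, 0), (3, 47, 1, 119, 0), (0, 2, 1, 2797, 1), (3, 373, 1, 15, 0), (0, 2, 2, 1399, 1),
  (0, 29, 1, 193, 1), (1, 0, 0, 0, 0), (0, 11, 1, 509, 1), (4, 0, 0, 0, 0), (0, 3, 1, 1867, 1), (0, 2, 1, 2801, 1),
  (0, 13, 1, 431, 1), (3, 467, 1, 12, 0), (3, 59, 1, 95, 0), (0, 2, 1, 2803, 1), (3, 89, 1, 63, 0), (0, 2, 3, 701, 1),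
  (0, 71, 1, 79, 1), (1, 0, 0, 0, 0), (0, 31, 1, 181, 1), (2, 0, 0, 0, 0), (0, 3, 1, 1871, 1), (1, 0, 0, 0, 0),
  (0, 5, 1, 1123, 1), (4, 0, 0, 0, 0), (0, 41, 1, 137, 1), (0, 2, 1, 53, 2), (0, 3, 1, 1873, 1), (2, 0, 0, 0, 0),
  (3, 73, 1, 77, 0), (1, 0, 0, 0, 0), (0, 5623, 1, 2, 0), (3, 37, 1, 152, 0), (0, 3, 2, 5, 4), (1, 0, 0, 0, 0),
  (0, 17, 1, 331, 1), (3, 67, 1, 84, 0), (0, 13, 1, 433, 1), (1, 0, 0, 0, 0), (0, 3, 1, 1877, 1), (0, 2, 9, 11, 1),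
  (0, 43, 1, 131, 1), (1, 0, 0, 0, 0), (3, 23, 1, 245, 0), (0, 2, 2, 1409, 1), (0, 3, 1, 1879, 1), (0, 2, 1, 2819, 1),
  (0, 5639, 1, 2, 0), (3, 47, 1, 120, 0), (0, 5641, 1, 2, 0), (1, 0, 0, 0, 0), (3, 19, 1, 297, 0), (2, 0, 0, 0, 0),
  (0, 5, 1, 1129, 1), (1, 0, 0, 0, 0), (0, 5647, 1, 2, 0), (0, 2, 4, 353, 1), (3, 269, 1, 21, 0), (1, 0, 0, 0, 0),
  (0, 5651, 1, 2, 0), (3, 157, 1, 36, 0), (0, 5653, 1, 2, 0), (1, 0, 0, 0, 0), (3, 29, 1, 195, 0), (3, 101, 1, 56, 0),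
  (0, 5657, 1, 2, 0), (1, 0, 0, 0, 0), (0, 5659, 1, 2, 0), (2, 0, 0, 0, 0), (3, 37, 1, 153, 0), (1, 0, 0, 0, 0),
  (0, 7, 1, 809, 1), (3, 59, 1, 96, 0), (3, 103, 1, 55, 0), (0, 2, 1, 2833, 1), (0, 3, 1, 1889, 1), (2, 0, 0, 0, 0),
  (0, 5669, 1, 2, 0), (1, 0, 0, 0, 0), (0, 53, 1, 107, 1), (0, 2, 3, 709, 1), (3, 61, 1, 93, 0), (0, 2, 1, 2837, 1),
  (0, 5, 2, 227, 1), (3, 11, 1, 516, 0), (0, 7, 1, 811, 1), (1, 0, 0, 0, 0), (0, 3, 2, 631, 1), (3, 71, 1, 80, 0),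
  (3, 23, 1, 247, 0), (1, 0, 0, 0, 0), (0, 5683, 1, 2, 0), (2, 0, 0, 0, 0), (3, 379, 1, 15, 0), (0, 2, 1, 2843, 1),
  (0, 11, 2, 47, 1), (3, 79, 1, 72, 0), (0, 5689, 1, 2, 0), (1, 0, 0, 0, 0), (3, 271, 1, 21, 0), (0, 2, 2, 1423, 1)]

theorem tbl18_length : tbl18.length = 108 := by decide +kernel

set_option maxRecDepth 100000 in
/-- every certificate of the chunk is valid (kernel computation) -/
theorem tbl18_ok : chunkOk 5585 tbl18 = true := by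
  decide +kernel

end Cfsg.Agent.Lib.Helper67.Range6232
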