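import Mathlib
import Cfsg.Agent.Lib.Helper67.Range6232SieveDefs
import Cfsg.Agent.Lib.Helper67.Range6232SieveT18

/-!
# helper72's S0983 project, module [SIEVE]: certificate table, chunk 19 (orders 5693..5800), generated by a script

(The import of the previous chunk only serializes the memory-hungry kernel computations.)
-/

set_option autoImplicit false

namespace Cfsg.Agent.Lib.Helper67.Range6232

/-- certificates for the orders `5693, ..., 5800` -/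
def tbl19 : List (ℕ × ℕ × ℕ × ℕ × ℕ) := [
  (0, 5693, 1, 2, 0), (1, 0, 0, 0, 0), (3, 67, 1, 85, 0), (0, 2, 6, 89, 1), (0, 3, 3, 211, 1), (1, 0, 0, 0, 0),
  (0, 41, 1, 139, 1), (3, 19, 1, 300, 0), (0, 5701, 1, 2, 0), (0, 2, 1, 2851, 1), (0, 3, 1, 1901, 1), (3, 31, 1, 184, 0),
  (3, 163, 1, 35, 0), (1, 0, 0, 0, 0), (0, 13, 1, 439, 1), (0, 2, 2, 1427, 1), (3, 173, 1, 33, 0), (1, 0, 0, 0, 0),
  (0, 5711, 1, 2, 0), (3, 17, 1, 336, 0), (0, 29, 1, 197, 1), (0, 2, 1, 2857, 1), (3, 127, 1, 45, 0), (0, 2, 2, 1429, 1),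
  (0, 5717, 1, 2, 0), (1, 0, 0, 0, 0), (3, 43, 1, 133, 0), (3, 13, 1, 440, 0), (0, 3, 1, 1907, 1), (0, 2, 1, 2861, 1),
  (0, 59, 1, 97, 1), (4, 0, 0, 0, 0), (0, 5, 2, 229, 1), (1, 0, 0, 0, 0), (3, 83, 1, 69, 0), (0, 2, 5, 179, 1),
  (0, 17, 1, 337, 1), (1, 0, 0, 0, 0), (0, 11, 1, 521, 1), (0, 2, 2, 1433, 1), (3, 13, 1, 441, 0), (1, 0, 0, 0, 0),
  (3, 37, 1, 155, 0), (3, 239, 1, 24, 0), (0, 5737, 1, 2, 0), (1, 0, 0, 0, 0), (0, 3, 1, 1913, 1), (2, 0, 0, 0, 0),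
  (0, 5741, 1, 2, 0), (1, 0, 0, 0, 0), (0, 5743, 1, 2, 0), (0, 2, 4, 359, 1), (3, 383, 1, 15, 0), (1, 0, 0, 0, 0),
  (0, 7, 1, 821, 1), (3, 479, 1, 12, 0), (0, 5749, 1, 2, 0), (1, 0, 0, 0, 0), (0, 3, 4, 71, 1), (0, 2, 3, 719, 1),
  (0, 11, 1, 523, 1), (1, 0, 0, 0, 0), (0, 5, 1, 1151, 1), (0, 2, 2, 1439, 1), (3, 101, 1, 57, 0), (0, 2, 1, 2879, 1),
  (0, 13, 1, 443, 1), (4, 0, 0, 0, 0), (0, 7, 1, 823, 1), (1, 0, 0, 0, 0), (3, 113, 1, 51, 0), (2, 0, 0, 0, 0),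
  (0, 5, 1, 1153, 1), (1, 0, 0, 0, 0), (0, 73, 1, 79, 1), (3, 103, 1, 56, 0), (0, 3, 2, 641, 1), (1, 0, 0, 0, 0),
  (0, 29, 1, 199, 1), (3, 37, 1, 156, 0), (0, 23, 1, 251, 1), (0, 2, 1, 2887, 1), (3, 11, 1, 525, 0), (0, 2, 4, 19, 2),
  (0, 53, 1, 109, 1), (1, 0, 0, 0, 0), (0, 5779, 1, 2, 0), (2, 0, 0, 0, 0), (3, 47, 1, 123, 0), (1, 0, 0, 0, 0),
  (0, 5783, 1, 2, 0), (3, 241, 1, 24, 0), (3, 89, 1, 65, 0), (1, 0, 0, 0, 0), (0, 3, 2, 643, 1), (0, 2, 2, 1447, 1),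
  (0, 7, 1, 827, 1), (1, 0, 0, 0, 0), (0, 5791, 1, 2, 0), (0, 2, 5, 181, 1), (0, 3, 1, 1931, 1), (0, 2, 1, 2897, 1),
  (3, 61, 1, 95, 0), (3, 23, 1, 252, 0), (3, 31, 1, 187, 0), (1, 0, 0, 0, 0), (0, 3, 1, 1933, 1), (3, 29, 1, 200, 0)]

theorem tbl19_length : tbl19.length = 108 := by decide +kernel

set_option maxRecDepth 100000 in
/-- every certificate of the chunk is valid (kernel computation) -/
theorem tbl19_ok : chunkOk 5693 tbl19 = true := by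
  decide +kernel

end Cfsg.Agent.Lib.Helper67.Range6232
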