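import Mathlib
import Cfsg.Agent.Lib.Helper67.Range6232SieveDefs
import Cfsg.Agent.Lib.Helper67.Range6232SieveT1

/-!
# helper72's S0983 project, module [SIEVE]: certificate table, chunk 2 (orders 3857..3964), generated by a script

(The import of the previous chunk only serializes the memory-hungry kernel computations.)
-/

set_option autoImplicit false

namespace Cfsg.Agent.Lib.Helper67.Range6232

/-- certificates for the orders `3857, ..., 3964` -/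
def tbl2 : List (ℕ × ℕ × ℕ × ℕ × ℕ) := [
  (3, 29, 1, 133, 0), (1, 0, 0, 0, 0), (0, 17, 1, 227, 1), (2, 0, 0, 0, 0), (3, 13, 1, 297, 0), (0, 2, 1, 1931, 1),
  (0, 3863, 1, 2, 0), (3, 23, 1, 168, 0), (0, 5, 1, 773, 1), (0, 2, 1, 1933, 1), (0, 3, 1, 1289, 1), (0, 2, 2, 967, 1),
  (0, 53, 1, 73, 1), (1, 0, 0, 0, 0), (0, 7, 2, 79, 1), (0, 2, 5, 11, 2), (0, 3, 1, 1291, 1), (1, 0, 0, 0, 0),
  (0, 5, 3, 31, 1), (3, 19, 1, 204, 0), (0, 3877, 1, 2, 0), (1, 0, 0, 0, 0), (0, 3, 2, 431, 1), (3, 97, 1, 40, 0),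
  (0, 3881, 1, 2, 0), (1, 0, 0, 0, 0), (0, 11, 1, 353, 1), (0, 2, 2, 971, 1), (3, 37, 1, 105, 0), (1, 0, 0, 0, 0),
  (0, 13, 2, 23, 1), (0, 2, 4, 3, 5), (0, 3889, 1, 2, 0), (1, 0, 0, 0, 0), (0, 3, 1, 1297, 1), (2, 0, 0, 0, 0),
  (0, 17, 1, 229, 1), (1, 0, 0, 0, 0), (3, 41, 1, 95, 0), (0, 2, 3, 487, 1), (0, 3, 2, 433, 1), (0, 2, 1, 1949, 1),
  (0, 7, 1, 557, 1), (3, 13, 1, 300, 0), (0, 47, 1, 83, 1), (0, 2, 1, 1951, 1), (0, 3, 1, 1301, 1), (0, 2, 6, 61, 1),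
  (3, 71, 1, 55, 0), (1, 0, 0, 0, 0), (0, 3907, 1, 2, 0), (0, 2, 2, 977, 1), (0, 3, 1, 1303, 1), (1, 0, 0, 0, 0),
  (0, 3911, 1, 2, 0), (3, 163, 1, 24, 0), (3, 43, 1, 91, 0), (1, 0, 0, 0, 0), (3, 29, 1, 135, 0), (2, 0, 0, 0, 0),
  (0, 3917, 1, 2, 0), (1, 0, 0, 0, 0), (0, 3919, 1, 2, 0), (3, 7, 2, 80, 0), (0, 3, 1, 1307, 1), (1, 0, 0, 0, 0),
  (0, 3923, 1, 2, 0), (3, 109, 1, 36, 0), (0, 5, 2, 157, 1), (1, 0, 0, 0, 0), (3, 17, 1, 231, 0), (0, 2, 3, 491, 1),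
  (0, 3929, 1, 2, 0), (1, 0, 0, 0, 0), (0, 3931, 1, 2, 0), (0, 2, 2, 983, 1), (3, 23, 1, 171, 0), (1, 0, 0, 0, 0),
  (0, 5, 1, 787, 1), (3, 41, 1, 96, 0), (0, 31, 1, 127, 1), (1, 0, 0, 0, 0), (3, 101, 1, 39, 0), (2, 0, 0, 0, 0),
  (0, 7, 1, 563, 1), (1, 0, 0, 0, 0), (0, 3943, 1, 2, 0), (3, 29, 1, 136, 0), (3, 263, 1, 15, 0), (0, 2, 1, 1973, 1),
  (0, 3947, 1, 2, 0), (3, 47, 1, 84, 0), (0, 11, 1, 359, 1), (1, 0, 0, 0, 0), (0, 3, 2, 439, 1), (3, 19, 1, 208, 0),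
  (0, 59, 1, 67, 1), (1, 0, 0, 0, 0), (3, 113, 1, 35, 0), (2, 0, 0, 0, 0), (0, 3, 1, 1319, 1), (0, 2, 1, 1979, 1),
  (0, 37, 1, 107, 1), (4, 0, 0, 0, 0), (0, 17, 1, 233, 1), (1, 0, 0, 0, 0), (0, 3, 1, 1321, 1), (0, 2, 2, 991, 1)]

theorem tbl2_length : tbl2.length = 108 := by decide +kernel

set_option maxRecDepth 100000 in
/-- every certificate of the chunk is valid (kernel computation) -/
theorem tbl2_ok : chunkOk 3857 tbl2 = true := by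
  decide +kernel

end Cfsg.Agent.Lib.Helper67.Range6232
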