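import Mathlib
import Cfsg.Agent.Lib.Helper67.Range6232SieveDefs

/-!
# helper72's S0983 project, module [SIEVE]: certificate table, chunk 20 (orders 5801..5908), generated by a script
-/

set_option autoImplicit false

namespace Cfsg.Agent.Lib.Helper67.Range6232

/-- certificates for the orders `5801, ..., 5908` -/
def tbl20 : List (ℕ × ℕ × ℕ × ℕ × ℕ) := [
  (0, 5801, 1, 2, 0), (1, 0, 0, 0, 0), (0, 7, 1, 829, 1), (0, 2, 2, 1451, 1), (3, 43, 1, 135, 0), (0, 2, 1, 2903, 1),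
  (0, 5807, 1, 2, 0), (3, 11, 2, 48, 0), (0, 37, 1, 157, 1), (1, 0, 0, 0, 0), (3, 149, 1, 39, 0), (0, 2, 2, 1453, 1),
  (0, 5813, 1, 2, 0), (1, 0, 0, 0, 0), (0, 5, 1, 1163, 1), (0, 2, 3, 727, 1), (3, 277, 1, 21, 0), (0, 2, 1, 2909, 1),
  (0, 11, 1, 23, 2), (3, 97, 1, 60, 0), (0, 5821, 1, 2, 0), (1, 0, 0, 0, 0), (0, 3, 2, 647, 1), (3, 13, 1, 448, 0),
  (0, 5, 2, 233, 1), (1, 0, 0, 0, 0), (0, 5827, 1, 2, 0), (2, 0, 0, 0, 0), (3, 67, 1, 87, 0), (1, 0, 0, 0, 0),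
  (0, 7, 3, 17, 1), (0, 2, 3, 3, 6), (0, 19, 1, 307, 1), (0, 2, 1, 2917, 1), (3, 389, 1, 15, 0), (0, 2, 2, 1459, 1),
  (0, 13, 1, 449, 1), (1, 0, 0, 0, 0), (0, 5839, 1, 2, 0), (3, 73, 1, 80, 0), (3, 59, 1, 99, 0), (1, 0, 0, 0, 0),
  (0, 5843, 1, 2, 0), (3, 487, 1, 12, 0), (3, 167, 1, 35, 0), (1, 0, 0, 0, 0), (0, 3, 1, 1949, 1), (3, 43, 1, 136, 0),
  (0, 5849, 1, 2, 0), (1, 0, 0, 0, 0), (0, 5851, 1, 2, 0), (2, 0, 0, 0, 0), (0, 3, 1, 1951, 1), (0, 2, 1, 2927, 1),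
  (0, 5, 1, 1171, 1), (3, 61, 1, 96, 0), (0, 5857, 1, 2, 0), (1, 0, 0, 0, 0), (3, 7, 1, 837, 0), (2, 0, 0, 0, 0),
  (0, 5861, 1, 2, 0), (1, 0, 0, 0, 0), (3, 41, 1, 143, 0), (0, 2, 3, 733, 1), (3, 23, 1, 255, 0), (1, 0, 0, 0, 0),
  (0, 5867, 1, 2, 0), (3, 163, 1, 36, 0), (0, 5869, 1, 2, 0), (1, 0, 0, 0, 0), (3, 103, 1, 57, 0), (0, 2, 4, 367, 1),
  (0, 7, 1, 839, 1), (1, 0, 0, 0, 0), (0, 5, 3, 47, 1), (2, 0, 0, 0, 0), (0, 3, 2, 653, 1), (0, 2, 1, 2939, 1),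
  (0, 5879, 1, 2, 0), (4, 0, 0, 0, 0), (0, 5881, 1, 2, 0), (1, 0, 0, 0, 0), (3, 53, 1, 111, 0), (0, 2, 2, 1471, 1),
  (3, 107, 1, 55, 0), (1, 0, 0, 0, 0), (0, 7, 1, 29, 2), (0, 2, 8, 23, 1), (3, 151, 1, 39, 0), (1, 0, 0, 0, 0),
  (0, 43, 1, 137, 1), (3, 491, 1, 12, 0), (0, 71, 1, 83, 1), (1, 0, 0, 0, 0), (3, 131, 1, 45, 0), (3, 67, 1, 88, 0),
  (0, 5897, 1, 2, 0), (1, 0, 0, 0, 0), (0, 17, 1, 347, 1), (2, 0, 0, 0, 0), (3, 281, 1, 21, 0), (1, 0, 0, 0, 0),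
  (0, 5903, 1, 2, 0), (3, 41, 1, 144, 0), (0, 5, 1, 1181, 1), (0, 2, 1, 2953, 1), (3, 179, 1, 33, 0), (2, 0, 0, 0, 0)]

theorem tbl20_length : tbl20.length = 108 := by decide +kernel

set_option maxRecDepth 100000 in
/-- every certificate of the chunk is valid (kernel computation) -/
theorem tbl20_ok : chunkOk 5801 tbl20 = true := by
  decide +kernel

end Cfsg.Agent.Lib.Helper67.Range6232
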