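import Mathlib
import Cfsg.Agent.Lib.Helper67.Range6232SieveDefs
import Cfsg.Agent.Lib.Helper67.Range6232SieveT20

/-!
# helper72's S0983 project, module [SIEVE]: certificate table, chunk 21 (orders 5909..6016), generated by a script

(The import of the previous chunk only serializes the memory-hungry kernel computations.)
-/

set_option autoImplicit false

namespace Cfsg.Agent.Lib.Helper67.Range6232

/-- certificates for the orders `5909, ..., 6016` -/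
def tbl21 : List (ℕ × ℕ × ℕ × ℕ × ℕ) := [
  (0, 19, 1, 311, 1), (1, 0, 0, 0, 0), (0, 23, 1, 257, 1), (0, 2, 3, 739, 1), (0, 3, 4, 73, 1), (0, 2, 1, 2957, 1),
  (3, 13, 2, 35, 0), (3, 29, 1, 204, 0), (0, 61, 1, 97, 1), (1, 0, 0, 0, 0), (0, 3, 1, 1973, 1), (3, 37, 1, 160, 0),
  (0, 31, 1, 191, 1), (1, 0, 0, 0, 0), (0, 5923, 1, 2, 0), (0, 2, 2, 1481, 1), (3, 79, 1, 75, 0), (0, 2, 1, 2963, 1),
  (0, 5927, 1, 2, 0), (3, 19, 1, 312, 0), (0, 7, 2, 11, 2), (1, 0, 0, 0, 0), (0, 3, 2, 659, 1), (0, 2, 2, 1483, 1),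
  (0, 17, 1, 349, 1), (1, 0, 0, 0, 0), (0, 5, 1, 1187, 1), (3, 53, 1, 112, 0), (0, 3, 1, 1979, 1), (0, 2, 1, 2969, 1),
  (0, 5939, 1, 2, 0), (4, 0, 0, 0, 0), (0, 13, 1, 457, 1), (0, 2, 1, 2971, 1), (3, 283, 1, 21, 0), (0, 2, 3, 743, 1),
  (3, 41, 1, 145, 0), (1, 0, 0, 0, 0), (0, 19, 1, 313, 1), (0, 2, 2, 1487, 1), (0, 3, 2, 661, 1), (1, 0, 0, 0, 0),
  (0, 11, 1, 541, 1), (3, 31, 1, 192, 0), (0, 5953, 1, 2, 0), (1, 0, 0, 0, 0), (3, 397, 1, 15, 0), (0, 2, 2, 1489, 1),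
  (3, 37, 1, 161, 0), (1, 0, 0, 0, 0), (0, 59, 1, 101, 1), (3, 149, 1, 40, 0), (0, 3, 1, 1987, 1), (1, 0, 0, 0, 0),
  (0, 67, 1, 89, 1), (3, 71, 1, 84, 0), (0, 5, 1, 1193, 1), (1, 0, 0, 0, 0), (3, 17, 1, 351, 0), (0, 2, 4, 373, 1),
  (0, 47, 1, 127, 1), (1, 0, 0, 0, 0), (0, 7, 1, 853, 1), (0, 2, 2, 1493, 1), (3, 181, 1, 33, 0), (1, 0, 0, 0, 0),
  (0, 5, 2, 239, 1), (3, 83, 1, 72, 0), (0, 43, 1, 139, 1), (1, 0, 0, 0, 0), (0, 3, 1, 1993, 1), (2, 0, 0, 0, 0),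
  (0, 5981, 1, 2, 0), (1, 0, 0, 0, 0), (0, 31, 1, 193, 1), (3, 17, 1, 352, 0), (3, 19, 1, 315, 0), (1, 0, 0, 0, 0),
  (0, 5987, 1, 2, 0), (3, 499, 1, 12, 0), (0, 53, 1, 113, 1), (1, 0, 0, 0, 0), (0, 3, 1, 1997, 1), (3, 107, 1, 56, 0),
  (0, 13, 1, 461, 1), (1, 0, 0, 0, 0), (3, 109, 1, 55, 0), (0, 2, 2, 1499, 1), (0, 3, 1, 1999, 1), (0, 2, 1, 2999, 1),
  (0, 7, 1, 857, 1), (3, 5, 3, 48, 0), (0, 17, 1, 353, 1), (0, 2, 1, 3001, 1), (3, 29, 1, 207, 0), (2, 0, 0, 0, 0),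
  (0, 5, 1, 1201, 1), (1, 0, 0, 0, 0), (0, 6007, 1, 2, 0), (0, 2, 3, 751, 1), (0, 3, 1, 2003, 1), (1, 0, 0, 0, 0),
  (0, 6011, 1, 2, 0), (3, 167, 1, 36, 0), (0, 7, 1, 859, 1), (1, 0, 0, 0, 0), (3, 401, 1, 15, 0), (0, 2, 7, 47, 1)]

theorem tbl21_length : tbl21.length = 108 := by decide +kernel

set_option maxRecDepth 100000 in
/-- every certificate of the chunk is valid (kernel computation) -/
theorem tbl21_ok : chunkOk 5909 tbl21 = true := by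
  decide +kernel

end Cfsg.Agent.Lib.Helper67.Range6232
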