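import Mathlib
import Cfsg.Agent.Lib.Helper67.Range6232SieveDefs
import Cfsg.Agent.Lib.Helper67.Range6232SieveT21

/-!
# helper72's S0983 project, module [SIEVE]: certificate table, chunk 22 (orders 6017..6124), generated by a script

(The import of the previous chunk only serializes the memory-hungry kernel computations.)
-/

set_option autoImplicit false

namespace Cfsg.Agent.Lib.Helper67.Range6232

/-- certificates for the orders `6017, ..., 6124` -/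
def tbl22 : List (ℕ × ℕ × ℕ × ℕ × ℕ) := [
  (0, 11, 1, 547, 1), (1, 0, 0, 0, 0), (0, 13, 1, 463, 1), (2, 0, 0, 0, 0), (0, 3, 3, 223, 1), (0, 2, 1, 3011, 1),
  (0, 19, 1, 317, 1), (3, 251, 1, 24, 0), (0, 5, 2, 241, 1), (1, 0, 0, 0, 0), (3, 41, 1, 147, 0), (2, 0, 0, 0, 0),
  (0, 6029, 1, 2, 0), (1, 0, 0, 0, 0), (0, 37, 1, 163, 1), (3, 29, 1, 208, 0), (0, 3, 1, 2011, 1), (1, 0, 0, 0, 0),
  (3, 71, 1, 85, 0), (3, 503, 1, 12, 0), (0, 6037, 1, 2, 0), (0, 2, 1, 3019, 1), (3, 61, 1, 99, 0), (3, 151, 1, 40, 0),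
  (0, 7, 1, 863, 1), (1, 0, 0, 0, 0), (0, 6043, 1, 2, 0), (0, 2, 2, 1511, 1), (3, 31, 1, 195, 0), (0, 2, 1, 3023, 1),
  (0, 6047, 1, 2, 0), (4, 0, 0, 0, 0), (0, 23, 1, 263, 1), (1, 0, 0, 0, 0), (0, 3, 1, 2017, 1), (2, 0, 0, 0, 0),
  (0, 6053, 1, 2, 0), (1, 0, 0, 0, 0), (3, 173, 1, 35, 0), (0, 2, 3, 757, 1), (0, 3, 2, 673, 1), (1, 0, 0, 0, 0),
  (0, 73, 1, 83, 1), (3, 101, 1, 60, 0), (3, 29, 1, 209, 0), (1, 0, 0, 0, 0), (3, 47, 1, 129, 0), (0, 2, 4, 379, 1),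
  (0, 5, 1, 1213, 1), (1, 0, 0, 0, 0), (0, 6067, 1, 2, 0), (2, 0, 0, 0, 0), (3, 17, 2, 21, 0), (1, 0, 0, 0, 0),
  (0, 13, 1, 467, 1), (4, 0, 0, 0, 0), (0, 6073, 1, 2, 0), (0, 2, 1, 3037, 1), (0, 3, 5, 5, 2), (2, 0, 0, 0, 0),
  (0, 59, 1, 103, 1), (1, 0, 0, 0, 0), (0, 6079, 1, 2, 0), (3, 19, 1, 320, 0), (0, 3, 1, 2027, 1), (0, 2, 1, 3041, 1),
  (3, 79, 1, 77, 0), (3, 13, 2, 36, 0), (0, 5, 1, 1217, 1), (1, 0, 0, 0, 0), (0, 3, 1, 2029, 1), (0, 2, 3, 761, 1),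
  (0, 6089, 1, 2, 0), (1, 0, 0, 0, 0), (0, 6091, 1, 2, 0), (0, 2, 2, 1523, 1), (0, 3, 2, 677, 1), (1, 0, 0, 0, 0),
  (3, 53, 1, 115, 0), (3, 127, 1, 48, 0), (3, 67, 1, 91, 0), (0, 2, 1, 3049, 1), (3, 107, 1, 57, 0), (2, 0, 0, 0, 0),
  (0, 6101, 1, 2, 0), (1, 0, 0, 0, 0), (0, 17, 1, 359, 1), (3, 109, 1, 56, 0), (3, 37, 1, 165, 0), (1, 0, 0, 0, 0),
  (0, 31, 1, 197, 1), (3, 509, 1, 12, 0), (0, 41, 1, 149, 1), (1, 0, 0, 0, 0), (3, 97, 1, 63, 0), (0, 2, 5, 191, 1),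
  (0, 6113, 1, 2, 0), (1, 0, 0, 0, 0), (0, 5, 1, 1223, 1), (2, 0, 0, 0, 0), (0, 3, 1, 2039, 1), (1, 0, 0, 0, 0),
  (0, 29, 1, 211, 1), (3, 17, 1, 360, 0), (0, 6121, 1, 2, 0), (0, 2, 1, 3061, 1), (3, 157, 1, 39, 0), (0, 2, 2, 1531, 1)]

theorem tbl22_length : tbl22.length = 108 := by decide +kernel

set_option maxRecDepth 100000 in
/-- every certificate of the chunk is valid (kernel computation) -/
theorem tbl22_ok : chunkOk 6017 tbl22 = true := by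
  decide +kernel

end Cfsg.Agent.Lib.Helper67.Range6232
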