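import Mathlib
import Cfsg.Agent.Lib.Helper67.Range6232SieveDefs
import Cfsg.Agent.Lib.Helper67.Range6232SieveT22

/-!
# helper72's S0983 project, module [SIEVE]: certificate table, chunk 23 (orders 6125..6232), generated by a script

(The import of the previous chunk only serializes the memory-hungry kernel computations.)
-/

set_option autoImplicit false

namespace Cfsg.Agent.Lib.Helper67.Range6232

/-- certificates for the orders `6125, ..., 6232` -/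
def tbl23 : List (ℕ × ℕ × ℕ × ℕ × ℕ) := [
  (0, 5, 3, 7, 2), (1, 0, 0, 0, 0), (0, 11, 1, 557, 1), (0, 2, 4, 383, 1), (0, 3, 3, 227, 1), (1, 0, 0, 0, 0),
  (0, 6131, 1, 2, 0), (3, 73, 1, 84, 0), (0, 6133, 1, 2, 0), (0, 2, 1, 3067, 1), (3, 409, 1, 15, 0), (3, 59, 1, 104, 0),
  (0, 17, 1, 19, 2), (1, 0, 0, 0, 0), (0, 7, 1, 877, 1), (2, 0, 0, 0, 0), (3, 89, 1, 69, 0), (1, 0, 0, 0, 0),
  (0, 6143, 1, 2, 0), (0, 2, 11, 3, 1), (0, 5, 1, 1229, 1), (1, 0, 0, 0, 0), (0, 3, 2, 683, 1), (2, 0, 0, 0, 0),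
  (3, 43, 1, 143, 0), (1, 0, 0, 0, 0), (0, 6151, 1, 2, 0), (0, 2, 3, 769, 1), (3, 293, 1, 21, 0), (1, 0, 0, 0, 0),
  (0, 5, 1, 1231, 1), (3, 19, 1, 324, 0), (0, 47, 1, 131, 1), (0, 2, 1, 3079, 1), (0, 3, 1, 2053, 1), (3, 7, 1, 880, 0),
  (0, 61, 1, 101, 1), (1, 0, 0, 0, 0), (0, 6163, 1, 2, 0), (2, 0, 0, 0, 0), (3, 137, 1, 45, 0), (0, 2, 1, 3083, 1),
  (0, 7, 1, 881, 1), (3, 257, 1, 24, 0), (0, 31, 1, 199, 1), (1, 0, 0, 0, 0), (3, 17, 1, 363, 0), (0, 2, 2, 1543, 1),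
  (0, 6173, 1, 2, 0), (1, 0, 0, 0, 0), (3, 19, 1, 325, 0), (0, 2, 5, 193, 1), (3, 71, 1, 87, 0), (0, 2, 1, 3089, 1),
  (0, 37, 1, 167, 1), (3, 103, 1, 60, 0), (0, 7, 1, 883, 1), (1, 0, 0, 0, 0), (0, 3, 3, 229, 1), (0, 2, 3, 773, 1),
  (0, 5, 1, 1237, 1), (1, 0, 0, 0, 0), (0, 23, 1, 269, 1), (2, 0, 0, 0, 0), (0, 3, 1, 2063, 1), (1, 0, 0, 0, 0),
  (0, 41, 1, 151, 1), (3, 43, 1, 144, 0), (0, 11, 1, 563, 1), (1, 0, 0, 0, 0), (3, 59, 1, 105, 0), (0, 2, 2, 1549, 1),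
  (0, 6197, 1, 2, 0), (1, 0, 0, 0, 0), (0, 6199, 1, 2, 0), (3, 31, 1, 200, 0), (3, 53, 1, 117, 0), (1, 0, 0, 0, 0),
  (0, 6203, 1, 2, 0), (3, 47, 1, 132, 0), (3, 73, 1, 85, 0), (1, 0, 0, 0, 0), (0, 3, 1, 2069, 1), (0, 2, 6, 97, 1),
  (0, 7, 1, 887, 1), (1, 0, 0, 0, 0), (0, 6211, 1, 2, 0), (0, 2, 2, 1553, 1), (3, 109, 1, 57, 0), (1, 0, 0, 0, 0),
  (3, 113, 1, 55, 0), (3, 37, 1, 168, 0), (0, 6217, 1, 2, 0), (0, 2, 1, 3109, 1), (0, 3, 2, 691, 1), (2, 0, 0, 0, 0),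
  (0, 6221, 1, 2, 0), (1, 0, 0, 0, 0), (0, 7, 2, 127, 1), (0, 2, 4, 389, 1), (3, 83, 1, 75, 0), (1, 0, 0, 0, 0),
  (0, 13, 1, 479, 1), (3, 173, 1, 36, 0), (0, 6229, 1, 2, 0), (1, 0, 0, 0, 0), (3, 67, 1, 93, 0), (3, 41, 1, 152, 0)]

theorem tbl23_length : tbl23.length = 108 := by decide +kernel

set_option maxRecDepth 100000 in
/-- every certificate of the chunk is valid (kernel computation) -/
theorem tbl23_ok : chunkOk 6125 tbl23 = true := by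
  decide +kernel

end Cfsg.Agent.Lib.Helper67.Range6232
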