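import Mathlib
import Cfsg.Agent.Lib.Helper67.Range6232SieveDefs
import Cfsg.Agent.Lib.Helper67.Range6232SieveT2

/-!
# helper72's S0983 project, module [SIEVE]: certificate table, chunk 3 (orders 3965..4072), generated by a script

(The import of the previous chunk only serializes the memory-hungry kernel computations.)
-/

set_option autoImplicit false

namespace Cfsg.Agent.Lib.Helper67.Range6232

/-- certificates for the orders `3965, ..., 4072` -/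
def tbl3 : List (ℕ × ℕ × ℕ × ℕ × ℕ) := [
  (3, 61, 1, 65, 0), (1, 0, 0, 0, 0), (0, 3967, 1, 2, 0), (0, 2, 7, 31, 1), (0, 3, 4, 7, 2), (1, 0, 0, 0, 0),
  (0, 11, 1, 19, 2), (3, 331, 1, 12, 0), (0, 29, 1, 137, 1), (0, 2, 1, 1987, 1), (3, 53, 1, 75, 0), (3, 71, 1, 56, 0),
  (0, 41, 1, 97, 1), (1, 0, 0, 0, 0), (0, 23, 1, 173, 1), (2, 0, 0, 0, 0), (0, 3, 1, 1327, 1), (1, 0, 0, 0, 0),
  (0, 7, 1, 569, 1), (3, 83, 1, 48, 0), (0, 5, 1, 797, 1), (0, 2, 1, 1993, 1), (0, 3, 2, 443, 1), (0, 2, 2, 997, 1),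
  (0, 3989, 1, 2, 0), (1, 0, 0, 0, 0), (0, 13, 1, 307, 1), (0, 2, 3, 499, 1), (0, 3, 1, 11, 3), (0, 2, 1, 1997, 1),
  (3, 47, 1, 85, 0), (3, 37, 1, 108, 0), (0, 7, 1, 571, 1), (0, 2, 1, 1999, 1), (3, 43, 1, 93, 0), (0, 2, 5, 5, 3),
  (0, 4001, 1, 2, 0), (1, 0, 0, 0, 0), (0, 4003, 1, 2, 0), (2, 0, 0, 0, 0), (3, 89, 1, 45, 0), (0, 2, 1, 2003, 1),
  (0, 4007, 1, 2, 0), (3, 167, 1, 24, 0), (0, 19, 1, 211, 1), (1, 0, 0, 0, 0), (3, 191, 1, 21, 0), (2, 0, 0, 0, 0),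
  (0, 4013, 1, 2, 0), (1, 0, 0, 0, 0), (3, 73, 1, 55, 0), (0, 2, 4, 251, 1), (3, 103, 1, 39, 0), (1, 0, 0, 0, 0),
  (0, 4019, 1, 2, 0), (3, 67, 1, 60, 0), (0, 4021, 1, 2, 0), (0, 2, 1, 2011, 1), (0, 3, 3, 149, 1), (0, 2, 3, 503, 1),
  (3, 23, 1, 175, 0), (1, 0, 0, 0, 0), (0, 4027, 1, 2, 0), (2, 0, 0, 0, 0), (3, 79, 1, 51, 0), (1, 0, 0, 0, 0),
  (0, 29, 1, 139, 1), (4, 0, 0, 0, 0), (0, 37, 1, 109, 1), (0, 2, 1, 2017, 1), (3, 269, 1, 15, 0), (0, 2, 2, 1009, 1),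
  (0, 11, 1, 367, 1), (1, 0, 0, 0, 0), (0, 7, 1, 577, 1), (3, 101, 1, 40, 0), (0, 3, 2, 449, 1), (1, 0, 0, 0, 0),
  (0, 13, 1, 311, 1), (3, 337, 1, 12, 0), (0, 5, 1, 809, 1), (1, 0, 0, 0, 0), (3, 71, 1, 57, 0), (3, 23, 1, 176, 0),
  (0, 4049, 1, 2, 0), (1, 0, 0, 0, 0), (0, 4051, 1, 2, 0), (0, 2, 2, 1013, 1), (3, 193, 1, 21, 0), (0, 2, 1, 2027, 1),
  (0, 5, 1, 811, 1), (3, 13, 2, 24, 0), (0, 4057, 1, 2, 0), (0, 2, 1, 2029, 1), (3, 41, 1, 99, 0), (2, 0, 0, 0, 0),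
  (0, 31, 1, 131, 1), (1, 0, 0, 0, 0), (0, 17, 1, 239, 1), (0, 2, 5, 127, 1), (3, 271, 1, 15, 0), (1, 0, 0, 0, 0),
  (0, 7, 2, 83, 1), (3, 113, 1, 36, 0), (0, 13, 1, 313, 1), (1, 0, 0, 0, 0), (3, 59, 1, 69, 0), (0, 2, 3, 509, 1)]

theorem tbl3_length : tbl3.length = 108 := by decide +kernel

set_option maxRecDepth 100000 in
/-- every certificate of the chunk is valid (kernel computation) -/
theorem tbl3_ok : chunkOk 3965 tbl3 = true := by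
  decide +kernel

end Cfsg.Agent.Lib.Helper67.Range6232
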