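import Mathlib
import Cfsg.Agent.Lib.Helper67.Range6232SieveDefs

/-!
# helper72's S0983 project, module [SIEVE]: certificate table, chunk 4 (orders 4073..4180), generated by a script
-/

set_option autoImplicit false

namespace Cfsg.Agent.Lib.Helper67.Range6232

/-- certificates for the orders `4073, ..., 4180` -/
def tbl4 : List (ℕ × ℕ × ℕ × ℕ × ℕ) := [
  (0, 4073, 1, 2, 0), (1, 0, 0, 0, 0), (0, 5, 2, 163, 1), (0, 2, 2, 1019, 1), (0, 3, 3, 151, 1), (0, 2, 1, 2039, 1),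
  (0, 4079, 1, 2, 0), (4, 0, 0, 0, 0), (3, 53, 1, 77, 0), (1, 0, 0, 0, 0), (0, 3, 1, 1361, 1), (0, 2, 2, 1021, 1),
  (3, 43, 1, 95, 0), (1, 0, 0, 0, 0), (0, 61, 1, 67, 1), (3, 73, 1, 56, 0), (3, 47, 1, 87, 0), (1, 0, 0, 0, 0),
  (0, 4091, 1, 2, 0), (3, 31, 1, 132, 0), (0, 4093, 1, 2, 0), (1, 0, 0, 0, 0), (3, 5, 1, 819, 0), (0, 2, 12, 2, 0),
  (0, 17, 1, 241, 1), (1, 0, 0, 0, 0), (0, 4099, 1, 2, 0), (2, 0, 0, 0, 0), (0, 3, 1, 1367, 1), (1, 0, 0, 0, 0),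
  (0, 11, 1, 373, 1), (3, 19, 1, 216, 0), (0, 5, 1, 821, 1), (0, 2, 1, 2053, 1), (0, 3, 1, 37, 2), (2, 0, 0, 0, 0),
  (0, 7, 1, 587, 1), (1, 0, 0, 0, 0), (0, 4111, 1, 2, 0), (0, 2, 4, 257, 1), (0, 3, 2, 457, 1), (1, 0, 0, 0, 0),
  (0, 5, 1, 823, 1), (3, 7, 3, 12, 0), (0, 23, 1, 179, 1), (1, 0, 0, 0, 0), (0, 3, 1, 1373, 1), (3, 103, 1, 40, 0),
  (0, 13, 1, 317, 1), (1, 0, 0, 0, 0), (3, 31, 1, 133, 0), (0, 2, 2, 1031, 1), (3, 11, 1, 375, 0), (0, 2, 1, 2063, 1),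
  (0, 4127, 1, 2, 0), (3, 43, 1, 96, 0), (0, 4129, 1, 2, 0), (1, 0, 0, 0, 0), (0, 3, 5, 17, 1), (0, 2, 2, 1033, 1),
  (0, 4133, 1, 2, 0), (1, 0, 0, 0, 0), (0, 5, 1, 827, 1), (3, 47, 1, 88, 0), (3, 197, 1, 21, 0), (0, 2, 1, 2069, 1),
  (0, 4139, 1, 2, 0), (3, 23, 1, 180, 0), (0, 41, 1, 101, 1), (1, 0, 0, 0, 0), (0, 3, 1, 1381, 1), (3, 37, 1, 112, 0),
  (0, 5, 1, 829, 1), (1, 0, 0, 0, 0), (3, 29, 1, 143, 0), (2, 0, 0, 0, 0), (0, 3, 2, 461, 1), (1, 0, 0, 0, 0),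
  (0, 7, 1, 593, 1), (3, 173, 1, 24, 0), (0, 4153, 1, 2, 0), (1, 0, 0, 0, 0), (3, 277, 1, 15, 0), (0, 2, 2, 1039, 1),
  (0, 4157, 1, 2, 0), (1, 0, 0, 0, 0), (0, 4159, 1, 2, 0), (3, 13, 1, 320, 0), (3, 73, 1, 57, 0), (0, 2, 1, 2081, 1),
  (0, 23, 1, 181, 1), (3, 347, 1, 12, 0), (3, 17, 1, 245, 0), (0, 2, 1, 2083, 1), (0, 3, 2, 463, 1), (0, 2, 3, 521, 1),
  (0, 11, 1, 379, 1), (1, 0, 0, 0, 0), (0, 43, 1, 97, 1), (2, 0, 0, 0, 0), (3, 107, 1, 39, 0), (0, 2, 1, 2087, 1),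
  (0, 5, 2, 167, 1), (3, 29, 1, 144, 0), (0, 4177, 1, 2, 0), (0, 2, 1, 2089, 1), (3, 199, 1, 21, 0), (2, 0, 0, 0, 0)]

theorem tbl4_length : tbl4.length = 108 := by decide +kernel

set_option maxRecDepth 100000 in
/-- every certificate of the chunk is valid (kernel computation) -/
theorem tbl4_ok : chunkOk 4073 tbl4 = true := by
  decide +kernel

end Cfsg.Agent.Lib.Helper67.Range6232
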