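import Mathlib
import Cfsg.Agent.Lib.Helper67.Range6232SieveDefs
import Cfsg.Agent.Lib.Helper67.Range6232SieveT4

/-!
# helper72's S0983 project, module [SIEVE]: certificate table, chunk 5 (orders 4181..4288), generated by a script

(The import of the previous chunk only serializes the memory-hungry kernel computations.)
-/

set_option autoImplicit false

namespace Cfsg.Agent.Lib.Helper67.Range6232

/-- certificates for the orders `4181, ..., 4288` -/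
def tbl5 : List (ℕ × ℕ × ℕ × ℕ × ℕ) := [
  (0, 37, 1, 113, 1), (1, 0, 0, 0, 0), (0, 47, 1, 89, 1), (0, 2, 3, 523, 1), (3, 31, 1, 135, 0), (1, 0, 0, 0, 0),
  (0, 53, 1, 79, 1), (3, 349, 1, 12, 0), (0, 59, 1, 71, 1), (1, 0, 0, 0, 0), (3, 127, 1, 33, 0), (0, 2, 5, 131, 1),
  (0, 7, 1, 599, 1), (1, 0, 0, 0, 0), (0, 5, 1, 839, 1), (0, 2, 2, 1049, 1), (0, 3, 1, 1399, 1), (0, 2, 1, 2099, 1),
  (3, 19, 1, 221, 0), (4, 0, 0, 0, 0), (0, 4201, 1, 2, 0), (1, 0, 0, 0, 0), (0, 3, 2, 467, 1), (0, 2, 2, 1051, 1),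
  (0, 5, 1, 29, 2), (1, 0, 0, 0, 0), (0, 7, 1, 601, 1), (0, 2, 4, 263, 1), (3, 61, 1, 69, 0), (1, 0, 0, 0, 0),
  (0, 4211, 1, 2, 0), (4, 0, 0, 0, 0), (0, 11, 1, 383, 1), (1, 0, 0, 0, 0), (3, 281, 1, 15, 0), (3, 31, 1, 136, 0),
  (0, 4217, 1, 2, 0), (1, 0, 0, 0, 0), (0, 4219, 1, 2, 0), (2, 0, 0, 0, 0), (3, 67, 1, 63, 0), (0, 2, 1, 2111, 1),
  (0, 41, 1, 103, 1), (3, 11, 1, 384, 0), (0, 5, 2, 13, 2), (0, 2, 1, 2113, 1), (0, 3, 1, 1409, 1), (2, 0, 0, 0, 0),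
  (0, 4229, 1, 2, 0), (1, 0, 0, 0, 0), (0, 4231, 1, 2, 0), (0, 2, 3, 23, 2), (3, 83, 1, 51, 0), (1, 0, 0, 0, 0),
  (3, 11, 2, 35, 0), (3, 353, 1, 12, 0), (0, 19, 1, 223, 1), (1, 0, 0, 0, 0), (0, 3, 3, 157, 1), (3, 53, 1, 80, 0),
  (0, 4241, 1, 2, 0), (1, 0, 0, 0, 0), (0, 4243, 1, 2, 0), (0, 2, 2, 1061, 1), (3, 283, 1, 15, 0), (1, 0, 0, 0, 0),
  (0, 31, 1, 137, 1), (3, 59, 1, 72, 0), (0, 7, 1, 607, 1), (1, 0, 0, 0, 0), (3, 109, 1, 39, 0), (0, 2, 2, 1063, 1),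
  (0, 4253, 1, 2, 0), (1, 0, 0, 0, 0), (3, 37, 1, 115, 0), (3, 19, 1, 224, 0), (3, 43, 1, 99, 0), (0, 2, 1, 2129, 1),
  (0, 4259, 1, 2, 0), (3, 71, 1, 60, 0), (0, 4261, 1, 2, 0), (0, 2, 1, 2131, 1), (3, 29, 1, 147, 0), (3, 41, 1, 104, 0),
  (0, 5, 1, 853, 1), (1, 0, 0, 0, 0), (0, 17, 1, 251, 1), (2, 0, 0, 0, 0), (0, 3, 1, 1423, 1), (1, 0, 0, 0, 0),
  (0, 4271, 1, 2, 0), (3, 89, 1, 48, 0), (0, 4273, 1, 2, 0), (0, 2, 1, 2137, 1), (3, 19, 1, 225, 0), (0, 2, 2, 1069, 1),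
  (3, 47, 1, 91, 0), (1, 0, 0, 0, 0), (0, 11, 1, 389, 1), (3, 107, 1, 40, 0), (0, 3, 1, 1427, 1), (0, 2, 1, 2141, 1),
  (0, 4283, 1, 2, 0), (3, 17, 1, 252, 0), (0, 5, 1, 857, 1), (0, 2, 1, 2143, 1), (0, 3, 1, 1429, 1), (0, 2, 6, 67, 1)]

theorem tbl5_length : tbl5.length = 108 := by decide +kernel

set_option maxRecDepth 100000 in
/-- every certificate of the chunk is valid (kernel computation) -/
theorem tbl5_ok : chunkOk 4181 tbl5 = true := by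
  decide +kernel

end Cfsg.Agent.Lib.Helper67.Range6232
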