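import Mathlib
import Cfsg.Agent.Lib.Helper67.Range6232SieveDefs
import Cfsg.Agent.Lib.Helper67.Range6232SieveT5

/-!
# helper72's S0983 project, module [SIEVE]: certificate table, chunk 6 (orders 4289..4396), generated by a script

(The import of the previous chunk only serializes the memory-hungry kernel computations.)
-/

set_option autoImplicit false

namespace Cfsg.Agent.Lib.Helper67.Range6232

/-- certificates for the orders `4289, ..., 4396` -/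
def tbl6 : List (ℕ × ℕ × ℕ × ℕ × ℕ) := [
  (0, 4289, 1, 2, 0), (1, 0, 0, 0, 0), (0, 7, 1, 613, 1), (2, 0, 0, 0, 0), (0, 3, 4, 53, 1), (1, 0, 0, 0, 0),
  (0, 5, 1, 859, 1), (3, 179, 1, 24, 0), (0, 4297, 1, 2, 0), (1, 0, 0, 0, 0), (0, 3, 1, 1433, 1), (2, 0, 0, 0, 0),
  (3, 23, 1, 187, 0), (1, 0, 0, 0, 0), (0, 13, 1, 331, 1), (0, 2, 4, 269, 1), (3, 41, 1, 105, 0), (0, 2, 1, 2153, 1),
  (0, 59, 1, 73, 1), (3, 359, 1, 12, 0), (0, 31, 1, 139, 1), (1, 0, 0, 0, 0), (0, 3, 2, 479, 1), (3, 11, 1, 392, 0),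
  (0, 19, 1, 227, 1), (1, 0, 0, 0, 0), (0, 5, 1, 863, 1), (2, 0, 0, 0, 0), (0, 3, 1, 1439, 1), (1, 0, 0, 0, 0),
  (0, 7, 1, 617, 1), (4, 0, 0, 0, 0), (0, 29, 1, 149, 1), (0, 2, 1, 2161, 1), (3, 131, 1, 33, 0), (2, 0, 0, 0, 0),
  (0, 5, 2, 173, 1), (1, 0, 0, 0, 0), (0, 4327, 1, 2, 0), (0, 2, 3, 541, 1), (3, 37, 1, 117, 0), (1, 0, 0, 0, 0),
  (0, 61, 1, 71, 1), (3, 19, 2, 12, 0), (0, 7, 1, 619, 1), (1, 0, 0, 0, 0), (3, 17, 2, 15, 0), (0, 2, 4, 271, 1),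
  (0, 4337, 1, 2, 0), (1, 0, 0, 0, 0), (0, 4339, 1, 2, 0), (2, 0, 0, 0, 0), (0, 3, 1, 1447, 1), (1, 0, 0, 0, 0),
  (0, 43, 1, 101, 1), (3, 181, 1, 24, 0), (3, 79, 1, 55, 0), (1, 0, 0, 0, 0), (3, 23, 1, 189, 0), (0, 2, 2, 1087, 1),
  (0, 4349, 1, 2, 0), (1, 0, 0, 0, 0), (0, 19, 1, 229, 1), (0, 2, 8, 17, 1), (0, 3, 1, 1451, 1), (1, 0, 0, 0, 0),
  (3, 67, 1, 65, 0), (3, 11, 2, 36, 0), (0, 4357, 1, 2, 0), (0, 2, 1, 2179, 1), (0, 3, 1, 1453, 1), (3, 109, 1, 40, 0),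
  (0, 7, 2, 89, 1), (1, 0, 0, 0, 0), (0, 4363, 1, 2, 0), (0, 2, 2, 1091, 1), (3, 97, 1, 45, 0), (1, 0, 0, 0, 0),
  (0, 11, 1, 397, 1), (3, 13, 1, 336, 0), (0, 17, 1, 257, 1), (1, 0, 0, 0, 0), (3, 47, 1, 93, 0), (0, 2, 2, 1093, 1),
  (0, 4373, 1, 2, 0), (0, 2, 1, 3, 7), (0, 5, 4, 7, 1), (0, 2, 3, 547, 1), (0, 3, 1, 1459, 1), (1, 0, 0, 0, 0),
  (0, 29, 1, 151, 1), (3, 73, 1, 60, 0), (0, 13, 1, 337, 1), (1, 0, 0, 0, 0), (0, 3, 2, 487, 1), (0, 2, 5, 137, 1),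
  (0, 5, 1, 877, 1), (1, 0, 0, 0, 0), (0, 41, 1, 107, 1), (0, 2, 2, 1097, 1), (3, 11, 1, 399, 0), (1, 0, 0, 0, 0),
  (0, 4391, 1, 2, 0), (3, 61, 1, 72, 0), (0, 23, 1, 191, 1), (0, 2, 1, 13, 3), (3, 293, 1, 15, 0), (2, 0, 0, 0, 0)]

theorem tbl6_length : tbl6.length = 108 := by decide +kernel

set_option maxRecDepth 100000 in
/-- every certificate of the chunk is valid (kernel computation) -/
theorem tbl6_ok : chunkOk 4289 tbl6 = true := by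
  decide +kernel

end Cfsg.Agent.Lib.Helper67.Range6232
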