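import Mathlib
import Cfsg.Agent.Lib.Helper67.Range6232SieveDefs
import Cfsg.Agent.Lib.Helper67.Range6232SieveT6

/-!
# helper72's S0983 project, module [SIEVE]: certificate table, chunk 7 (orders 4397..4504), generated by a script

(The import of the previous chunk only serializes the memory-hungry kernel computations.)
-/

set_option autoImplicit false

namespace Cfsg.Agent.Lib.Helper67.Range6232

/-- certificates for the orders `4397, ..., 4504` -/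
def tbl7 : List (ℕ × ℕ × ℕ × ℕ × ℕ) := [
  (0, 4397, 1, 2, 0), (1, 0, 0, 0, 0), (0, 53, 1, 83, 1), (4, 0, 0, 0, 0), (0, 3, 3, 163, 1), (1, 0, 0, 0, 0),
  (3, 37, 1, 119, 0), (3, 367, 1, 12, 0), (0, 5, 1, 881, 1), (0, 2, 1, 2203, 1), (3, 113, 1, 39, 0), (3, 29, 1, 152, 0),
  (0, 4409, 1, 2, 0), (1, 0, 0, 0, 0), (0, 11, 1, 401, 1), (0, 2, 2, 1103, 1), (0, 3, 1, 1471, 1), (0, 2, 1, 2207, 1),
  (0, 5, 1, 883, 1), (3, 23, 1, 192, 0), (0, 7, 1, 631, 1), (0, 2, 1, 47, 2), (0, 3, 2, 491, 1), (2, 0, 0, 0, 0),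
  (0, 4421, 1, 2, 0), (1, 0, 0, 0, 0), (0, 4423, 1, 2, 0), (3, 79, 1, 56, 0), (3, 59, 1, 75, 0), (0, 2, 1, 2213, 1),
  (0, 19, 1, 233, 1), (3, 41, 1, 108, 0), (0, 43, 1, 103, 1), (1, 0, 0, 0, 0), (3, 211, 1, 21, 0), (0, 2, 4, 277, 1),
  (3, 31, 1, 143, 0), (1, 0, 0, 0, 0), (0, 5, 1, 887, 1), (0, 2, 2, 1109, 1), (3, 29, 1, 153, 0), (1, 0, 0, 0, 0),
  (0, 23, 1, 193, 1), (3, 37, 1, 120, 0), (0, 4441, 1, 2, 0), (0, 2, 1, 2221, 1), (0, 3, 1, 1481, 1), (2, 0, 0, 0, 0),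
  (3, 127, 1, 35, 0), (1, 0, 0, 0, 0), (0, 4447, 1, 2, 0), (0, 2, 5, 139, 1), (0, 3, 1, 1483, 1), (1, 0, 0, 0, 0),
  (0, 4451, 1, 2, 0), (3, 53, 1, 84, 0), (0, 61, 1, 73, 1), (1, 0, 0, 0, 0), (3, 11, 1, 405, 0), (0, 2, 3, 557, 1),
  (0, 4457, 1, 2, 0), (1, 0, 0, 0, 0), (0, 7, 3, 13, 1), (2, 0, 0, 0, 0), (0, 3, 1, 1487, 1), (1, 0, 0, 0, 0),
  (0, 4463, 1, 2, 0), (3, 31, 1, 144, 0), (3, 47, 1, 95, 0), (1, 0, 0, 0, 0), (0, 3, 1, 1489, 1), (0, 2, 2, 1117, 1),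
  (0, 41, 1, 109, 1), (1, 0, 0, 0, 0), (0, 17, 1, 263, 1), (3, 43, 1, 104, 0), (3, 71, 1, 63, 0), (0, 2, 1, 2237, 1),
  (0, 5, 2, 179, 1), (3, 373, 1, 12, 0), (0, 11, 2, 37, 1), (0, 2, 1, 2239, 1), (0, 3, 1, 1493, 1), (3, 2, 7, 35, 0),
  (0, 4481, 1, 2, 0), (1, 0, 0, 0, 0), (0, 4483, 1, 2, 0), (2, 0, 0, 0, 0), (3, 23, 1, 195, 0), (0, 2, 1, 2243, 1),
  (0, 7, 1, 641, 1), (3, 17, 1, 264, 0), (0, 67, 2, 2, 0), (1, 0, 0, 0, 0), (0, 3, 2, 499, 1), (0, 2, 2, 1123, 1),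
  (0, 4493, 1, 2, 0), (1, 0, 0, 0, 0), (3, 31, 1, 145, 0), (0, 2, 4, 281, 1), (0, 3, 1, 1499, 1), (1, 0, 0, 0, 0),
  (0, 11, 1, 409, 1), (3, 5, 3, 36, 0), (0, 7, 1, 643, 1), (0, 2, 1, 2251, 1), (3, 79, 1, 57, 0), (0, 2, 3, 563, 1)]

theorem tbl7_length : tbl7.length = 108 := by decide +kernel

set_option maxRecDepth 100000 in
/-- every certificate of the chunk is valid (kernel computation) -/
theorem tbl7_ok : chunkOk 4397 tbl7 = true := by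
  decide +kernel

end Cfsg.Agent.Lib.Helper67.Range6232
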