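import Mathlib
import Cfsg.Agent.Lib.Helper67.Range6232SieveDefs
import Cfsg.Agent.Lib.Helper67.Range6232SieveT0
import Cfsg.Agent.Lib.Helper67.Range6232SieveT1
import Cfsg.Agent.Lib.Helper67.Range6232SieveT2
import Cfsg.Agent.Lib.Helper67.Range6232SieveT3
import Cfsg.Agent.Lib.Helper67.Range6232SieveT4
import Cfsg.Agent.Lib.Helper67.Range6232SieveT5
import Cfsg.Agent.Lib.Helper67.Range6232SieveT6
import Cfsg.Agent.Lib.Helper67.Range6232SieveT7
import Cfsg.Agent.Lib.Helper67.Range6232SieveT8
import Cfsg.Agent.Lib.Helper67.Range6232SieveT9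
import Cfsg.Agent.Lib.Helper67.Range6232SieveT10
import Cfsg.Agent.Lib.Helper67.Range6232SieveT11
import Cfsg.Agent.Lib.Helper67.Range6232SieveT12
import Cfsg.Agent.Lib.Helper67.Range6232SieveT13
import Cfsg.Agent.Lib.Helper67.Range6232SieveT14
import Cfsg.Agent.Lib.Helper67.Range6232SieveT15
import Cfsg.Agent.Lib.Helper67.Range6232SieveT16
import Cfsg.Agent.Lib.Helper67.Range6232SieveT17
import Cfsg.Agent.Lib.Helper67.Range6232SieveT18
import Cfsg.Agent.Lib.Helper67.Range6232SieveT19
import Cfsg.Agent.Lib.Helper67.Range6232SieveT20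
import Cfsg.Agent.Lib.Helper67.Range6232SieveT21
import Cfsg.Agent.Lib.Helper67.Range6232SieveT22
import Cfsg.Agent.Lib.Helper67.Range6232SieveT23

/-!
# helper72's S0983 project, module [SIEVE]

A non-commutative finite simple group of order in `3641..6232` has one of 34 listed orders.
-/

set_option autoImplicit false

namespace Cfsg.Agent.Lib.Helper67.Range6232

/-- MODULE S0983-[SIEVE] -/
theorem card_mem_listed {G : Type*} [Group G] [Finite G] [IsSimpleGroup G]
    (hG : ¬ IsMulCommutative G) (h1 : 3640 < Nat.card G) (h2 : Nat.card G ≤ 6232) :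
    Nat.card G ∈ listed := by
  by_cases c0 : Nat.card G < 3749
  · exact mem_listed_of_chunkOk hG tbl0_ok (by omega) (by rw [tbl0_length]; omega)
  by_cases c1 : Nat.card G < 3857
  · exact mem_listed_of_chunkOk hG tbl1_ok (by omega) (by rw [tbl1_length]; omega)
  by_cases c2 : Nat.card G < 3965
  · exact mem_listed_of_chunkOk hG tbl2_ok (by omega) (by rw [tbl2_length]; omega)
  by_cases c3 : Nat.card G < 4073
  · exact mem_listed_of_chunkOk hG tbl3_ok (by omega) (by rw [tbl3_length]; omega)
  by_cases c4 : Nat.card G < 4181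
  · exact mem_listed_of_chunkOk hG tbl4_ok (by omega) (by rw [tbl4_length]; omega)
  by_cases c5 : Nat.card G < 4289
  · exact mem_listed_of_chunkOk hG tbl5_ok (by omega) (by rw [tbl5_length]; omega)
  by_cases c6 : Nat.card G < 4397
  · exact mem_listed_of_chunkOk hG tbl6_ok (by omega) (by rw [tbl6_length]; omega)
  by_cases c7 : Nat.card G < 4505
  · exact mem_listed_of_chunkOk hG tbl7_ok (by omega) (by rw [tbl7_length]; omega)
  by_cases c8 : Nat.card G < 4613
  · exact mem_listed_of_chunkOk hG tbl8_ok (by omega) (by rw [tbl8_length]; omega)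
  by_cases c9 : Nat.card G < 4721
  · exact mem_listed_of_chunkOk hG tbl9_ok (by omega) (by rw [tbl9_length]; omega)
  by_cases c10 : Nat.card G < 4829
  · exact mem_listed_of_chunkOk hG tbl10_ok (by omega) (by rw [tbl10_length]; omega)
  by_cases c11 : Nat.card G < 4937
  · exact mem_listed_of_chunkOk hG tbl11_ok (by omega) (by rw [tbl11_length]; omega)
  by_cases c12 : Nat.card G < 5045
  · exact mem_listed_of_chunkOk hG tbl12_ok (by omega) (by rw [tbl12_length]; omega)
  by_cases c13 : Nat.card G < 5153
  · exact mem_listed_of_chunkOk hG tbl13_ok (by omega) (by rw [tbl13_length]; omega)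
  by_cases c14 : Nat.card G < 5261
  · exact mem_listed_of_chunkOk hG tbl14_ok (by omega) (by rw [tbl14_length]; omega)
  by_cases c15 : Nat.card G < 5369
  · exact mem_listed_of_chunkOk hG tbl15_ok (by omega) (by rw [tbl15_length]; omega)
  by_cases c16 : Nat.card G < 5477
  · exact mem_listed_of_chunkOk hG tbl16_ok (by omega) (by rw [tbl16_length]; omega)
  by_cases c17 : Nat.card G < 5585
  · exact mem_listed_of_chunkOk hG tbl17_ok (by omega) (by rw [tbl17_length]; omega)
  by_cases c18 : Nat.card G < 5693
  · exact mem_listed_of_chunkOk hG tbl18_ok (by omega) (by rw [tbl18_length]; omega)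
  by_cases c19 : Nat.card G < 5801
  · exact mem_listed_of_chunkOk hG tbl19_ok (by omega) (by rw [tbl19_length]; omega)
  by_cases c20 : Nat.card G < 5909
  · exact mem_listed_of_chunkOk hG tbl20_ok (by omega) (by rw [tbl20_length]; omega)
  by_cases c21 : Nat.card G < 6017
  · exact mem_listed_of_chunkOk hG tbl21_ok (by omega) (by rw [tbl21_length]; omega)
  by_cases c22 : Nat.card G < 6125
  · exact mem_listed_of_chunkOk hG tbl22_ok (by omega) (by rw [tbl22_length]; omega)
  exact mem_listed_of_chunkOk hG tbl23_ok (by omega) (by rw [tbl23_length]; omega)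

end Cfsg.Agent.Lib.Helper67.Range6232
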