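import Mathlib
import Cfsg.Prelude.Def_CaseTheorems
import Cfsg.Prelude.Def_Local
import Cfsg.Agent.S0126
import Cfsg.Agent.Lib.Helper76.PCore
import Cfsg.Agent.Lib.Helper24.Omega
import Cfsg.Agent.Lib.Helper24.ExtraSp
import Cfsg.Agent.Lib.Helper24.RankTwo
import Cfsg.Agent.Lib.Helper24.PGroupBasic
import Cfsg.Agent.Lib.Helper67.SectionFix
import Cfsg.Agent.Lib.Helper67.PCentral
import Cfsg.Agent.Lib.Helper67.ChiefSplit
import Cfsg.Agent.Lib.Helper67.PGroupSections

/-!
# `p`-chief factors of `p`-solvable groups of `p`-rank at most two (`p` odd)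

Let `G` be `p`-solvable of `p`-rank `≤ 2` with `O_{p'}(G) = 1`, `P₀ = O_p(G)`.
* `omegaZ2 p G`: `W = Ω₁` of the second centre of `P₀` (elements `x ∈ P₀` of order dividing `p` with
  `[x, P₀] ≤ Z(P₀)`), a normal subgroup of exponent `p`, hence of order dividing `p ^ 3`;
* `K = C_G(W)` is a normal `p`-subgroup whose elements of order `p` lie in `W`, so `K` is
  `p`-central with `|Ω₁(K)| ≤ p ^ 2`;
* `p ^ 3` divides neither `|WK : K|` nor `|G : WK|`.
Hence every `p`-chief factor of `G` has order `p` or `p ^ 2` (`smallChief_of_core_trivial`).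
-/

set_option autoImplicit false

open scoped commutatorElement

namespace Cfsg.Agent.Lib.Helper67

open Cfsg Cfsg.Agent.Lib.Helper24 Cfsg.Agent.Lib.Helper76

universe u

section defs

variable (p : ℕ) (G : Type u) [Group G]

/-- the centre of `O_p(G)`, as a subgroup of `G`. -/
def zP : Subgroup G := pCore p G ⊓ Subgroup.centralizer (pCore p G : Set G)

instance zP_normal : (zP p G).Normal := by
  unfold zP
  have : (Subgroup.centralizer (pCore p G : Set G)).Normal := Subgroup.normal_centralizer
  infer_instance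

variable {p G}

theorem zP_comm {z g : G} (hz : z ∈ zP p G) (hg : g ∈ pCore p G) : z * g = g * z :=
  ((Subgroup.mem_centralizer_iff.mp hz.2) g hg).symm

theorem zP_conj {z g : G} (hz : z ∈ zP p G) (hg : g ∈ pCore p G) : g * z * g⁻¹ = z := by
  rw [← zP_comm hz hg]; group

end defs

section omegaZ2

variable {p : ℕ} [hp : Fact p.Prime] {G : Type u} [Group G]

/-- `Ω₁` of the second centre of `O_p(G)`. -/
def omegaZ2 (hp2 : p ≠ 2) : Subgroup G where
  carrier := {x | x ∈ pCore p G ∧ x ^ p = 1 ∧ ∀ g ∈ pCore p G, x * g * x⁻¹ * g⁻¹ ∈ zP p G}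
  one_mem' := ⟨Subgroup.one_mem _, one_pow p, fun g _ => by simp⟩
  mul_mem' := by
    rintro x y ⟨hx, hxp, hxc⟩ ⟨hy, hyp, hyc⟩
    refine ⟨Subgroup.mul_mem _ hx hy, ?_, ?_⟩
    · -- `(x y)^p = 1`
      set z := y * x * y⁻¹ * x⁻¹ with hz
      have hzZ : z ∈ zP p G := hyc x hx
      have hzx : Commute z x := zP_comm hzZ hx
      have hzy : Commute z y := zP_comm hzZ hy
      have hrel : y * x = z * x * y := by rw [hz]; group
      have key := mul_pow_of_central_comm x y z hrel hzx hzy p
      have hzc : z = ⁅y, x⁆ := by rw [commutatorElement_def]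
      have hzp : z ^ p = 1 := by
        rw [hzc, ← commutatorElement_pow_right_of_commute x y (by rw [← hzc]; exact hzx) p, hxp]
        simp
      obtain ⟨k, hk⟩ := prime_dvd_choose_two hp.out hp2
      rw [key, hxp, hyp, hk, pow_mul, hzp]; simp
    · intro g hg
      have h1 : x * y * g * (x * y)⁻¹ * g⁻¹
          = (x * (y * g * y⁻¹ * g⁻¹) * x⁻¹) * (x * g * x⁻¹ * g⁻¹) := by group
      rw [h1, zP_conj (hyc g hg) hx]
      exact Subgroup.mul_mem _ (hyc g hg) (hxc g hg)
  inv_mem' := by
    rintro x ⟨hx, hxp, hxc⟩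
    refine ⟨Subgroup.inv_mem _ hx, by rw [inv_pow, hxp, inv_one], ?_⟩
    intro g hg
    have h1 : x⁻¹ * g * x⁻¹⁻¹ * g⁻¹ = (x⁻¹ * (x * g * x⁻¹ * g⁻¹) * x⁻¹⁻¹)⁻¹ := by group
    rw [h1, zP_conj (hxc g hg) (Subgroup.inv_mem _ hx)]
    exact Subgroup.inv_mem _ (hxc g hg)

variable (hp2 : p ≠ 2)

theorem mem_omegaZ2 {x : G} : x ∈ omegaZ2 (G := G) hp2 ↔
    x ∈ pCore p G ∧ x ^ p = 1 ∧ ∀ g ∈ pCore p G, x * g * x⁻¹ * g⁻¹ ∈ zP p G := Iff.rfl

theorem omegaZ2_le : omegaZ2 (G := G) hp2 ≤ pCore p G := fun _ hx => hx.1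

theorem omegaZ2_exp {x : G} (hx : x ∈ omegaZ2 (G := G) hp2) : x ^ p = 1 := hx.2.1

instance omegaZ2_normal : (omegaZ2 (G := G) hp2).Normal := by
  constructor
  rintro x ⟨hx, hxp, hxc⟩ h
  have hPn : (pCore p G).Normal := inferInstance
  refine ⟨hPn.conj_mem x hx h, by rw [conj_pow, hxp]; group, ?_⟩
  intro g hg
  have hg' : h⁻¹ * g * h⁻¹⁻¹ ∈ pCore p G := hPn.conj_mem g hg h⁻¹
  have h1 : h * x * h⁻¹ * g * (h * x * h⁻¹)⁻¹ * g⁻¹
      = h * (x * (h⁻¹ * g * h⁻¹⁻¹) * x⁻¹ * (h⁻¹ * g * h⁻¹⁻¹)⁻¹) * h⁻¹ := by group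
  rw [h1]
  exact (zP_normal p G).conj_mem _ (hxc _ hg') h

end omegaZ2

section core

variable {p : ℕ} [hp : Fact p.Prime] {G : Type u} [Group G] [Finite G] (hp2 : p ≠ 2)

/-- the order of `W` divides `p ^ 3`. -/
theorem card_omegaZ2_dvd (hr : PRankLE p 2 G) : Nat.card (omegaZ2 (G := G) hp2) ∣ p ^ 3 := by
  apply card_dvd_cube_of_exponent_of_rank hp2
  · intro x
    apply Subtype.ext
    rw [Subgroup.coe_pow]
    exact omegaZ2_exp hp2 x.2
  · intro B hBc hBe
    have h1 := hr (B.map (omegaZ2 (G := G) hp2).subtype)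
      (Subgroup.map_isMulCommutative B (omegaZ2 (G := G) hp2).subtype) (by
        rintro _ ⟨b, hb, rfl⟩
        rw [← map_pow, hBe b hb, map_one])
    rwa [Subgroup.card_map_of_injective (omegaZ2 (G := G) hp2).subtype_injective] at h1

/-- a group of exponent dividing `p` which is cyclic has order at most `p`. -/
theorem card_le_of_isCyclic_of_exp {H : Type*} [Group H] [Finite H] (hcyc : IsCyclic H)
    (hexp : ∀ x : H, x ^ p = 1) : Nat.card H ≤ p := by
  obtain ⟨g, hg⟩ := hcyc.exists_generator
  have h1 : orderOf g = Nat.card H := orderOf_eq_card_of_forall_mem_zpowers hg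
  rw [← h1]
  exact orderOf_le_of_pow_eq_one hp.out.pos (hexp g)

/-- **Property (Ω)**: an element of order dividing `p` of `O_p(G)` centralizing `W` lies in `W`. -/
theorem mem_omegaZ2_of_centralizes (hr : PRankLE p 2 G) {y : G} (hy : y ∈ pCore p G)
    (hyc : y ∈ Subgroup.centralizer ((omegaZ2 (G := G) hp2 : Subgroup G) : Set G))
    (hyp : y ^ p = 1) : y ∈ omegaZ2 (G := G) hp2 := by
  set W := omegaZ2 (G := G) hp2 with hW
  by_cases hcard : Nat.card W ≤ p
  · -- then `O_p(G)` is commutative
    have hP0 : IsPGroup p (pCore p G) := pCore_isPGroup p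
    have hcomm : ∀ a b : pCore p G, a * b = b * a := by
      by_cases hcyc : IsCyclic (pCore p G)
      · intro a b
        exact (IsCyclic.commGroup (α := pCore p G)).mul_comm a b
      · exfalso
        obtain ⟨B0, hB0n, hB0e, hB0c⟩ := Cfsg.Agent.S0126.result hp2 hP0 hcyc
        have hsec := comm_mem_center_of_card_sq hP0 B0 hB0c
        have hBW : B0.map (pCore p G).subtype ≤ W := by
          rintro _ ⟨b, hb, rfl⟩
          refine ⟨b.2, ?_, ?_⟩
          · have := hB0e.2 b hb
            have h2 := congrArg Subtype.val this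
            simpa using h2
          · intro g hg
            have h3 := hsec b hb ⟨g, hg⟩
            refine Subgroup.mem_inf.mpr ⟨?_, ?_⟩
            · exact (pCore p G).mul_mem ((pCore p G).mul_mem ((pCore p G).mul_mem b.2 hg)
                ((pCore p G).inv_mem b.2)) ((pCore p G).inv_mem hg)
            · rw [Subgroup.mem_centralizer_iff]
              intro t ht
              have h4 := (Subgroup.mem_center_iff.mp h3) ⟨t, ht⟩
              have h5 := congrArg Subtype.val h4
              simpa using h5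
        have h6 : Nat.card (B0.map (pCore p G).subtype) = p ^ 2 := by
          rw [Subgroup.card_map_of_injective (pCore p G).subtype_injective, hB0c]
        have h7 := Subgroup.card_le_of_le hBW
        rw [h6] at h7
        have : p < p ^ 2 := by
          have := hp.out.one_lt
          nlinarith
        omega
    refine ⟨hy, hyp, ?_⟩
    intro g hg
    have h1 : y * g = g * y := by
      have := hcomm ⟨y, hy⟩ ⟨g, hg⟩
      have h2 := congrArg Subtype.val this
      simpa using h2
    have : y * g * y⁻¹ * g⁻¹ = 1 := by rw [h1]; group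
    rw [this]
    exact Subgroup.one_mem _
  · -- `W` is not cyclic, so it contains an elementary abelian subgroup of order `p ^ 2`
    have hWp : IsPGroup p W := (pCore_isPGroup p).to_le (omegaZ2_le hp2)
    have hexp : ∀ x : W, x ^ p = 1 := by
      intro x
      apply Subtype.ext
      rw [Subgroup.coe_pow]
      exact omegaZ2_exp hp2 x.2
    have hnc : ¬ IsCyclic W := fun hcyc => hcard (card_le_of_isCyclic_of_exp hcyc hexp)
    obtain ⟨A0, -, hA0e, hA0c⟩ := Cfsg.Agent.S0126.result hp2 hWp hnc
    set A := A0.map W.subtype with hA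
    have hAW : A ≤ W := by
      rintro _ ⟨a, -, rfl⟩
      exact a.2
    have hAcomm : IsMulCommutative A := by
      have := hA0e.1
      exact Subgroup.map_isMulCommutative A0 W.subtype
    have hAexp : ∀ x ∈ A, x ^ p = 1 := fun x hx => omegaZ2_exp hp2 (hAW hx)
    have hAcard : Nat.card A = p ^ 2 := by
      rw [hA, Subgroup.card_map_of_injective W.subtype_injective, hA0c]
    have hyA : y ∈ Subgroup.centralizer (A : Set G) :=
      Subgroup.centralizer_le (by exact_mod_cast hAW) hyc
    exact hAW (mem_of_mem_centralizer_of_rank hr A hAcomm hAexp hAcard y hyA hyp)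

end core

section main

variable {p : ℕ} [hp : Fact p.Prime] {G : Type u} [Group G] [Finite G] (hp2 : p ≠ 2)

/-- `K = C_G(W)`. -/
def cW : Subgroup G := Subgroup.centralizer ((omegaZ2 (G := G) hp2 : Subgroup G) : Set G)

instance cW_normal : (cW (G := G) hp2).Normal := by
  unfold cW
  exact Subgroup.normal_centralizer

variable (hsolv : IsPSolvable p G) (hr : PRankLE p 2 G)
  (hcore : ∀ N : Subgroup G, N.Normal → (Nat.card N).Coprime p → N = ⊥)

include hsolv hr hcore in
theorem eq_one_of_mem_cW_of_coprime {x : G} (hx : x ∈ cW (G := G) hp2)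
    (hcop : (orderOf x).Coprime p) : x = 1 := by
  have hP0 : IsPGroup p (pCore p G) := pCore_isPGroup p
  have hP0n : (pCore p G).Normal := inferInstance
  have hK0n : (pCore p G ⊓ cW (G := G) hp2).Normal := inferInstance
  have hK0p : IsPGroup p (pCore p G ⊓ cW (G := G) hp2 : Subgroup G) := hP0.to_le inf_le_left
  have hxW : ∀ n ∈ omegaZ2 (G := G) hp2, x * n = n * x := fun n hn =>
    (Subgroup.mem_centralizer_iff.mp hx n hn).symm
  have hxK0 : ∀ c ∈ (pCore p G ⊓ cW (G := G) hp2 : Subgroup G), x * c = c * x := by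
    apply centralizes_of_centralizes_omega p hp2 x hcop _ hK0p
    · have : Subgroup.normalizer ((pCore p G ⊓ cW (G := G) hp2 : Subgroup G) : Set G) = ⊤ :=
        Subgroup.normalizer_eq_top_iff.mpr hK0n
      rw [this]; trivial
    · intro y hy hyp
      exact hxW y (mem_omegaZ2_of_centralizes hp2 hr hy.1 hy.2 hyp)
  have hxP0 : ∀ r ∈ pCore p G, x * r = r * x := by
    apply centralizes_of_centralizes_sub p x hcop (pCore p G) (omegaZ2 (G := G) hp2) hP0
    · intro r hr'; exact hP0n.conj_mem r hr' x
    · intro r _ n hn; exact (omegaZ2_normal hp2).conj_mem n hn r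
    · exact hxW
    · exact hxK0
  have hxc : x ∈ Subgroup.centralizer (pCore p G : Set G) := by
    rw [Subgroup.mem_centralizer_iff]
    intro g hg
    exact (hxP0 g hg).symm
  have hxP : x ∈ pCore p G := centralizer_pCore_le p hsolv hcore hxc
  obtain ⟨k, hk⟩ := hP0 ⟨x, hxP⟩
  have h1 : x ^ p ^ k = 1 := by
    have := congrArg Subtype.val hk
    simpa using this
  have hdvd : orderOf x ∣ p ^ k := orderOf_dvd_of_pow_eq_one h1
  have h2 : orderOf x = 1 := Nat.Coprime.eq_one_of_dvd (Nat.Coprime.pow_right k hcop) hdvd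
  exact orderOf_eq_one_iff.mp h2

include hsolv hr hcore in
theorem isPGroup_cW : IsPGroup p (cW (G := G) hp2) :=
  isPGroup_of_forall_coprime_eq_one p (cW (G := G) hp2)
    (fun _ hy hc => eq_one_of_mem_cW_of_coprime hp2 hsolv hr hcore hy hc)

include hsolv hr hcore in
theorem cW_le_pCore : cW (G := G) hp2 ≤ pCore p G :=
  le_pCore p _ inferInstance (isPGroup_cW hp2 hsolv hr hcore)

include hsolv hr hcore in
theorem cW_pcentral : ∀ x ∈ cW (G := G) hp2, x ^ p = 1 → ∀ y ∈ cW (G := G) hp2, x * y = y * x := by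
  intro x hx hxp y hy
  have hxW : x ∈ omegaZ2 (G := G) hp2 :=
    mem_omegaZ2_of_centralizes hp2 hr (cW_le_pCore hp2 hsolv hr hcore hx) hx hxp
  exact Subgroup.mem_centralizer_iff.mp hy x hxW

omit [Finite G] in
/-- `C_S(W)` computed inside a subgroup `S`. -/
theorem centralizer_subgroupOf_eq (S : Subgroup G) (hWS : omegaZ2 (G := G) hp2 ≤ S) :
    Subgroup.centralizer ((((omegaZ2 (G := G) hp2).subgroupOf S : Subgroup S)) : Set S)
      = (cW (G := G) hp2).subgroupOf S := by
  ext s
  rw [Subgroup.mem_centralizer_iff, Subgroup.mem_subgroupOf]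
  unfold cW
  rw [Subgroup.mem_centralizer_iff]
  constructor
  · intro h w hw
    have h1 := h ⟨w, hWS hw⟩ (by rw [SetLike.mem_coe, Subgroup.mem_subgroupOf]; exact hw)
    have h2 := congrArg Subtype.val h1
    simpa using h2
  · intro h w hw
    rw [SetLike.mem_coe, Subgroup.mem_subgroupOf] at hw
    apply Subtype.ext
    simpa using h (w : G) hw

omit [Finite G] in
theorem card_subgroupOf_eq_of_le {H L : Subgroup G} (h : H ≤ L) :
    Nat.card (H.subgroupOf L) = Nat.card H :=
  Nat.card_congr (Subgroup.subgroupOfEquivOfLe h).toEquiv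

theorem relIndex_cW_sylow_le_of_dvd_sq (S : Sylow p G)
    (h : Nat.card (omegaZ2 (G := G) hp2) ∣ p ^ 2) : (cW (G := G) hp2).relIndex S ≤ p := by
  have hWS : omegaZ2 (G := G) hp2 ≤ S := (omegaZ2_le hp2).trans (pCore_le_sylow p S)
  have hn : ((omegaZ2 (G := G) hp2).subgroupOf (S : Subgroup G)).Normal :=
    (omegaZ2_normal hp2).subgroupOf _
  have := index_centralizer_le_of_card_dvd_sq S.isPGroup'
    ((omegaZ2 (G := G) hp2).subgroupOf (S : Subgroup G)) (by rw [card_subgroupOf_eq_of_le hWS]; exact h)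
  rw [centralizer_subgroupOf_eq hp2 (S : Subgroup G) hWS] at this
  exact this

theorem relIndex_cW_sylow_le_of_cube (S : Sylow p G)
    (h : Nat.card (omegaZ2 (G := G) hp2) = p ^ 3) : (cW (G := G) hp2).relIndex S ≤ p ^ 3 := by
  have hWS : omegaZ2 (G := G) hp2 ≤ S := (omegaZ2_le hp2).trans (pCore_le_sylow p S)
  have hn : ((omegaZ2 (G := G) hp2).subgroupOf (S : Subgroup G)).Normal :=
    (omegaZ2_normal hp2).subgroupOf _
  have := index_centralizer_le_cube S.isPGroup'
    ((omegaZ2 (G := G) hp2).subgroupOf (S : Subgroup G)) (by rw [card_subgroupOf_eq_of_le hWS]; exact h)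
  rw [centralizer_subgroupOf_eq hp2 (S : Subgroup G) hWS] at this
  exact this

omit hp in
theorem relIndex_pos' (H K : Subgroup G) : 0 < H.relIndex K :=
  Nat.pos_of_ne_zero Subgroup.index_ne_zero_of_finite

include hp2 hsolv hr hcore in
/-- **Main structure result**: in a `p`-solvable group of `p`-rank at most two (`p` odd) with trivial
`p'`-core, every `p`-chief factor has order `p` or `p ^ 2`. -/
theorem smallChief_of_core_trivial : SmallChief p (⊥ : Subgroup G) ⊤ := by
  have hp1 := hp.out.one_lt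
  have hppos := hp.out.pos
  have hp23 : p ^ 2 < p ^ 3 := Nat.pow_lt_pow_right hp1 (by norm_num)
  have hpp3 : p < p ^ 3 := by
    calc p = p ^ 1 := (pow_one p).symm
      _ < p ^ 3 := Nat.pow_lt_pow_right hp1 (by norm_num)
  set W := omegaZ2 (G := G) hp2 with hW
  set K := cW (G := G) hp2 with hK
  have hWn : W.Normal := omegaZ2_normal hp2
  have hKn : K.Normal := cW_normal hp2
  have hKp : IsPGroup p K := isPGroup_cW hp2 hsolv hr hcore
  have hKc := cW_pcentral hp2 hsolv hr hcore
  have hKP0 : K ≤ pCore p G := cW_le_pCore hp2 hsolv hr hcore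
  -- Step 1: the `Ω`-series of `K`
  have hΩ1 : Nat.card (omegaSub p hp2 K hKp hKc 1) ≤ p ^ 2 := by
    apply hr
    · refine ⟨⟨fun a b => Subtype.ext ?_⟩⟩
      have ha := a.2.2
      rw [pow_one] at ha
      exact hKc a a.2.1 ha b b.2.1
    · intro a ha
      have := ha.2
      rwa [pow_one] at this
  have hchain : ∀ i, SmallChief p (⊥ : Subgroup G) (omegaSub p hp2 K hKp hKc i) := by
    intro i
    induction i with
    | zero =>
      rw [omegaSub_zero]
      apply smallChief_of_not_dvd
      rw [Subgroup.relIndex_bot_left, Subgroup.card_bot]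
      intro hdvd
      have := Nat.le_of_dvd one_pos hdvd
      omega
    | succ i ih =>
      have hn : (omegaSub p hp2 K hKp hKc i).Normal := omegaSub_normal p hp2 K hKp hKc i
      apply smallChief_trans ⊥ (omegaSub p hp2 K hKp hKc i) _ bot_le
        (omegaSub_mono p hp2 K hKp hKc i) ih
      apply smallChief_of_not_dvd
      have hd := relIndex_omegaSub_dvd p hp2 K hKp hKc i
      have hpos : 0 < (omegaSub p hp2 K hKp hKc i).relIndex (omegaSub p hp2 K hKp hKc (i + 1)) :=
        relIndex_pos' _ _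
      have hle := Nat.le_of_dvd Nat.card_pos hd
      exact Nat.not_dvd_of_pos_of_lt hpos (by omega)
  obtain ⟨m, hm⟩ := omegaSub_eq_self p hp2 K hKp hKc
  have hK1 : SmallChief p (⊥ : Subgroup G) K := by
    have := hchain m
    rwa [hm] at this
  -- Step 2: the two top layers
  set L := W ⊔ K with hL
  have hLn : L.Normal := inferInstance
  let S : Sylow p G := default
  have hP0S : pCore p G ≤ S := pCore_le_sylow p S
  have hWS : W ≤ S := (omegaZ2_le hp2).trans hP0S
  have hKS : K ≤ S := hKP0.trans hP0S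
  have hLS : L ≤ S := sup_le hWS hKS
  have hKL : K ≤ L := le_sup_right
  have e1 : K.relIndex L * L.relIndex S = K.relIndex S :=
    Subgroup.relIndex_mul_relIndex K L S hKL hLS
  have hKLpos : 0 < K.relIndex L := relIndex_pos' _ _
  have hLSpos : 0 < L.relIndex S := relIndex_pos' _ _
  have hKSpos : 0 < K.relIndex S := relIndex_pos' _ _
  have hKLW : K.relIndex L = K.relIndex W := by
    rw [hL, Subgroup.relIndex_sup_right]
  have key : K.relIndex L < p ^ 3 ∧ L.relIndex S < p ^ 3 := by
    obtain ⟨k, hk3, hk⟩ := (Nat.dvd_prime_pow hp.out).mp (card_omegaZ2_dvd hp2 hr)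
    by_cases hk2 : k ≤ 2
    · have hdvd : Nat.card W ∣ p ^ 2 := by rw [hW, hk]; exact pow_dvd_pow p hk2
      have ht : K.relIndex S ≤ p := relIndex_cW_sylow_le_of_dvd_sq hp2 S hdvd
      have h1 : K.relIndex L ≤ K.relIndex S := Nat.le_of_dvd hKSpos (Dvd.intro _ e1)
      have h2 : L.relIndex S ≤ K.relIndex S := Nat.le_of_dvd hKSpos (Dvd.intro_left _ e1)
      constructor <;> omega
    · have hk3' : k = 3 := by omega
      rw [hk3'] at hk
      have ht : K.relIndex S ≤ p ^ 3 := relIndex_cW_sylow_le_of_cube hp2 S hk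
      -- `W` is not commutative
      have hWK : ¬ W ≤ K := by
        intro hle
        have hcomm : IsMulCommutative W := by
          refine ⟨⟨fun a b => Subtype.ext ?_⟩⟩
          exact (Subgroup.mem_centralizer_iff.mp (hle b.2) a a.2)
        have := hr W hcomm (fun a ha => omegaZ2_exp hp2 ha)
        rw [hk] at this
        omega
      have hne1 : K.relIndex L ≠ 1 := by
        rw [hKLW]
        intro h
        exact hWK (Subgroup.relIndex_eq_one.mp h)
      have h2le : 2 ≤ K.relIndex L := by omega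
      -- the centre of `W` is nontrivial
      have hWp : IsPGroup p W := (pCore_isPGroup p).to_le (omegaZ2_le hp2)
      have hWnt : Nontrivial W := by
        rw [← Finite.one_lt_card_iff_nontrivial, hk]
        exact Nat.one_lt_pow (by norm_num) hp1
      have hcnt := hWp.center_nontrivial
      obtain ⟨z, hz⟩ := exists_ne (1 : Subgroup.center W)
      have hzKW : ((z : W) : G) ∈ K ⊓ W := by
        refine Subgroup.mem_inf.mpr ⟨?_, (z : W).2⟩
        rw [hK]
        unfold cW
        rw [Subgroup.mem_centralizer_iff]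
        intro w hw
        have h3 := (Subgroup.mem_center_iff.mp z.2) ⟨w, hw⟩
        have h4 := congrArg Subtype.val h3
        simpa using h4
      have hKWne : K ⊓ W ≠ ⊥ := by
        intro hbot
        rw [hbot, Subgroup.mem_bot] at hzKW
        apply hz
        apply Subtype.ext
        apply Subtype.ext
        simpa using hzKW
      have h2card : 2 ≤ Nat.card (K ⊓ W : Subgroup G) := by
        have : Nontrivial (K ⊓ W : Subgroup G) := (Subgroup.nontrivial_iff_ne_bot _).mpr hKWne
        exact Finite.one_lt_card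
      have e2 : Nat.card (K ⊓ W : Subgroup G) * K.relIndex W = Nat.card W := by
        rw [← Subgroup.inf_relIndex_right]
        have h5 := Subgroup.relIndex_mul_relIndex ⊥ (K ⊓ W) W bot_le inf_le_right
        rw [Subgroup.relIndex_bot_left, Subgroup.relIndex_bot_left] at h5
        exact h5
      rw [hk, ← hKLW] at e2
      constructor
      · nlinarith
      · nlinarith
  have hK2 : SmallChief p K L :=
    smallChief_of_not_dvd K L (Nat.not_dvd_of_pos_of_lt hKLpos key.1)
  have hK3 : SmallChief p L ⊤ := by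
    apply smallChief_of_not_dvd
    rw [Subgroup.relIndex_top_right, ← Subgroup.relIndex_mul_index hLS]
    intro hdvd
    have hcop : (p ^ 3).Coprime (S : Subgroup G).index := by
      apply Nat.Coprime.pow_left
      exact (Nat.Prime.coprime_iff_not_dvd hp.out).mpr S.not_dvd_index
    have := hcop.dvd_of_dvd_mul_right hdvd
    exact Nat.not_dvd_of_pos_of_lt hLSpos key.2 this
  exact smallChief_trans ⊥ K ⊤ bot_le le_top hK1
    (smallChief_trans K L ⊤ hKL le_top hK2 hK3)

end main

end Cfsg.Agent.Lib.Helper67
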