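import Mathlib

set_option autoImplicit false

namespace Cfsg.Agent.Lib.Helper67

variable {G : Type*} [Group G]

/-- The conjugacy class of `x` has as many elements as the index of the centralizer of `x`. -/
theorem index_centralizer_eq_ncard_orbit (x : G) :
    (Subgroup.centralizer {x}).index = (MulAction.orbit (ConjAct G) x).ncard := by
  rw [← MulAction.index_stabilizer, Subgroup.centralizer_eq_comap_stabilizer]
  exact Subgroup.index_comap_of_surjective _ (ConjAct.toConjAct (G := G)).surjective

/-- In a finite group, an element conjugate to its inverse whose centralizer has odd index is an involution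
or trivial. -/
theorem inv_eq_self_of_odd_index_centralizer [Finite G] (x : G)
    (hodd : ¬ 2 ∣ (Subgroup.centralizer {x}).index) (hx : IsConj x x⁻¹) : x⁻¹ = x := by
  classical
  have : Fintype G := Fintype.ofFinite G
  set O : Set G := MulAction.orbit (ConjAct G) x with hO
  have hmem : ∀ a : G, a ∈ O ↔ IsConj a x := fun a => ConjAct.mem_orbit_conjAct
  have hinv : ∀ a : G, a ∈ O → a⁻¹ ∈ O := by
    intro a ha
    rw [hmem] at ha ⊢
    have h1 : IsConj a⁻¹ x⁻¹ := by
      obtain ⟨c, hc⟩ := isConj_iff.1 ha
      exact isConj_iff.2 ⟨c, by rw [← hc]; group⟩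
    exact h1.trans hx.symm
  let f : Function.End O := fun a => ⟨a.1⁻¹, hinv a.1 a.2⟩
  have hf : f ^ 2 ^ 1 = 1 := by
    rw [pow_one, pow_two]
    funext a
    apply Subtype.ext
    show ((a.1)⁻¹)⁻¹ = a.1
    simp
  have hmod := Equiv.Perm.card_fixedPoints_modEq (p := 2) (n := 1) hf
  have hcard : Fintype.card O = (Subgroup.centralizer {x}).index := by
    rw [index_centralizer_eq_ncard_orbit, ← Nat.card_coe_set_eq, Nat.card_eq_fintype_card]
  rw [hcard] at hmod
  have hne : Fintype.card (Function.fixedPoints f) ≠ 0 := by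
    intro h0
    rw [h0] at hmod
    exact hodd ((Nat.modEq_zero_iff_dvd).1 hmod)
  obtain ⟨⟨a, ha⟩⟩ := Fintype.card_pos_iff.1 (Nat.pos_of_ne_zero hne)
  have ha' : a.1⁻¹ = a.1 := congrArg Subtype.val ha
  have hax : IsConj a.1 x := (hmem a.1).1 a.2
  obtain ⟨c, hc⟩ := isConj_iff.1 hax
  rw [← hc]
  have : (c * a.1 * c⁻¹)⁻¹ = c * a.1⁻¹ * c⁻¹ := by group
  rw [this, ha']

/-- In a finite group, an element conjugate to its inverse and centralized by a Sylow `2`-subgroup
is an involution or trivial. -/
theorem inv_eq_self_of_sylow_le_centralizer [Finite G] (S : Sylow 2 G) (x : G)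
    (hS : (S : Subgroup G) ≤ Subgroup.centralizer {x}) (hx : IsConj x x⁻¹) : x⁻¹ = x := by
  apply inv_eq_self_of_odd_index_centralizer x _ hx
  intro h2
  exact S.not_dvd_index (h2.trans (Subgroup.index_dvd_of_le hS))

end Cfsg.Agent.Lib.Helper67
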