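import Mathlib
import Cfsg.Agent.Lib.Helper67.S3C
import Cfsg.Agent.Lib.Helper1.S3Alpha
import Cfsg.Agent.Lib.Helper33.S3CardAS

/-!
# MODULE Z, case Z1 of the `S₃` theorem (helper67): a nontrivial central element fixed by `f`
-/

set_option autoImplicit false
set_option linter.unusedSectionVars false

namespace Cfsg.Agent.Lib.Helper67.S3

variable {𝔸 Q V : Type*} [Group 𝔸] [Group Q] [Finite Q] [AddCommGroup V] [Finite V]
  {p : ℕ} [Fact p.Prime] [Module (ZMod p) V]
  {f h : 𝔸} {ψ : 𝔸 →* MulAut Q} {ρ : Representation (ZMod p) Q V}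
  {σ : Representation (ZMod p) 𝔸 V}

omit [Finite Q] in
theorem psi_mem_center (ψ : 𝔸 →* MulAut Q) (a : 𝔸) {z : Q} (hz : z ∈ Subgroup.center Q) :
    ψ a z ∈ Subgroup.center Q :=
  (Subgroup.characteristic_iff_le_comap.mp (inferInstance : (Subgroup.center Q).Characteristic)
    (ψ a)) hz

omit [Finite Q] in
theorem invQ_center (ψ : 𝔸 →* MulAut Q) : InvQ ψ (Subgroup.center Q) :=
  fun a _ hz => psi_mem_center ψ a hz

/-- a subgroup of the centre is normal -/
theorem normal_of_le_center {N : Subgroup Q} (hN : N ≤ Subgroup.center Q) : N.Normal := by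
  constructor
  intro n hn g
  have := Subgroup.mem_center_iff.mp (hN hn) g
  rw [this, mul_inv_cancel_right]
  exact hn

/-- a subgroup of the centre is nilpotent -/
theorem isNilpotent_of_le_center {N : Subgroup Q} (hN : N ≤ Subgroup.center Q) :
    Group.IsNilpotent ↥N := by
  let _ : CommGroup ↥N :=
    { (inferInstance : Group ↥N) with
      mul_comm := fun a b => Subtype.ext (by
        show (a : Q) * b = b * a
        exact Subgroup.mem_center_iff.mp (hN b.2) a) }
  exact CommGroup.isNilpotent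

/-- the fixed points of `f` on `V` are trivial as soon as `|V| = |C_V(h)|²` -/
theorem fixf_eq_bot_of_card (c : Ctx f h ψ ρ σ)
    (hcard : Nat.card V = Nat.card ↥(FixL (σ h)) ^ 2) : ∀ v, σ f v = v → v = 0 := by
  have hAS := Cfsg.Agent.Lib.Helper33.S3CardAS.card_AS c
  rw [← hcard] at hAS
  have hpos : 0 < Nat.card V := Nat.card_pos
  have h1 : Nat.card ↥(FixL (σ f)) = 1 := by
    have := Nat.eq_of_mul_eq_mul_left hpos (hAS.trans (mul_one _).symm)
    exact this
  intro v hv
  have hsub : Subsingleton ↥(FixL (σ f)) := (Nat.card_eq_one_iff_unique.mp h1).1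
  have := Subsingleton.elim (⟨v, hv⟩ : ↥(FixL (σ f))) 0
  exact congrArg Subtype.val this

/-- **Case Z1**: a nontrivial central element fixed by `f` forces `Q` abelian. -/
theorem comm_of_center_fix (c : Ctx f h ψ ρ σ) [Group.IsSolvable Q] (hOp : HOp p Q)
    (h3 : H3 ρ σ) (z : Q) (hz : z ∈ Subgroup.center Q) (hz1 : z ≠ 1) (hzf : ψ f z = z) :
    ∀ x y : Q, x * y = y * x := by
  let N : Subgroup Q :=
    { carrier := {z | z ∈ Subgroup.center Q ∧ ψ f z = z}
      mul_mem' := fun {a b} ha hb => ⟨mul_mem ha.1 hb.1, by rw [map_mul, ha.2, hb.2]⟩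
      one_mem' := ⟨one_mem _, map_one _⟩
      inv_mem' := fun {a} ha => ⟨inv_mem ha.1, by rw [map_inv, ha.2]⟩ }
  have hNle : N ≤ Subgroup.center Q := fun x hx => hx.1
  have hNn : N.Normal := normal_of_le_center hNle
  have hfinv : ∀ y : Q, ψ f y = y → ψ f⁻¹ y = y := by
    intro y hy
    conv_lhs => rw [← hy]
    exact psi_inv_apply ψ f y
  have hNh : ∀ x ∈ N, ψ h x ∈ N := by
    intro y hy
    refine ⟨psi_mem_center ψ h hy.1, ?_⟩
    have h1 := c.rel.psi_hf ψ (ψ h y)
    rw [c.rel.psi_h2, hfinv y hy.2] at h1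
    have := congrArg (ψ h) h1
    rwa [c.rel.psi_h2] at this
  have hNinv : InvQ ψ N := invQ_of_fh c.rel N (fun x hx => by rw [hx.2]; exact hx) hNh
  have hNne : N ≠ ⊥ := by
    intro hb
    have : z ∈ N := ⟨hz, hzf⟩
    rw [hb, Subgroup.mem_bot] at this
    exact hz1 this
  have hCV : CV ρ N = ⊥ := CV_eq_bot c hOp h3 N hNinv hNne
  have hcard := card_pow_of_fpf_prime (ψ := ψ) (ρ := ρ) (σ := σ) c.compat h 2 Nat.prime_two
    c.rel.orderOf_h N ⊤ hNh (fun w _ => Submodule.mem_top) (fun x _ w _ => Submodule.mem_top)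
    (isNilpotent_of_le_center hNle) (fun x hx hhx => c.fixQ x hx.2 hhx)
    (fun w _ hw => by
      have : w ∈ CV ρ N := hw
      rw [hCV] at this
      exact (Submodule.mem_bot _).mp this)
  rw [top_inf_eq] at hcard
  have hcardV : Nat.card (⊤ : Submodule (ZMod p) V) = Nat.card V :=
    Nat.card_congr (Submodule.topEquiv (R := ZMod p) (M := V)).toEquiv
  rw [hcardV] at hcard
  exact Cfsg.Agent.Lib.Helper1.S3Alpha.comm_of_fixf_eq_bot c hOp (fixf_eq_bot_of_card c hcard)

end Cfsg.Agent.Lib.Helper67.S3
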