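import Mathlib
import Cfsg.Agent.Lib.Helper67.S3C
import Cfsg.Agent.Lib.Helper67.S3ZDefs
import Cfsg.Agent.Lib.Helper67.S3Z1

/-!
# MODULE ZB of the `S₃` theorem (helper67): the kernel `K` when `f` is fixed-point-free on `Z(Q)`
-/

set_option autoImplicit false
set_option linter.unusedSectionVars false

namespace Cfsg.Agent.Lib.Helper67.S3

open Cfsg.Agent.Lib.Helper2 Cfsg.Agent.Lib.Helper2.FrobFree

variable {𝔸 Q V : Type*} [Group 𝔸] [Group Q] [Finite Q] [AddCommGroup V] [Finite V]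
  {p : ℕ} [Fact p.Prime] [Module (ZMod p) V]
  {f h : 𝔸} {ψ : 𝔸 →* MulAut Q} {ρ : Representation (ZMod p) Q V}
  {σ : Representation (ZMod p) 𝔸 V}

/-! ### generic conjugation lemmas -/

theorem psi_mem_Zm (ψ : 𝔸 →* MulAut Q) (a k : 𝔸) {z : Q} (hz : z ∈ Zm ψ k) :
    ψ a z ∈ Zm ψ (a * k * a⁻¹) := by
  refine ⟨psi_mem_center ψ a hz.1, ?_⟩
  rw [map_mul, map_mul, MulAut.mul_apply, MulAut.mul_apply, psi_inv_apply, hz.2, map_inv]

theorem psi_inv_mem_Zm (ψ : 𝔸 →* MulAut Q) (a k : 𝔸) {z : Q} (hz : z ∈ Zm ψ (a * k * a⁻¹)) :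
    ψ a⁻¹ z ∈ Zm ψ k := by
  have := psi_mem_Zm ψ a⁻¹ (a * k * a⁻¹) hz
  have e : a⁻¹ * (a * k * a⁻¹) * a⁻¹⁻¹ = k := by group
  rwa [e] at this

theorem sigma_mem_CV_Zm (hcompat : ∀ (a : 𝔸) (q : Q) (v : V), σ a (ρ q v) = ρ (ψ a q) (σ a v))
    (a k : 𝔸) {v : V} (hv : v ∈ CV ρ (Zm ψ k)) : σ a v ∈ CV ρ (Zm ψ (a * k * a⁻¹)) := by
  intro z hz
  have h1 := psi_inv_mem_Zm ψ a k hz
  have h2 := hcompat a (ψ a⁻¹ z) v
  rw [psi_apply_inv, hv _ h1] at h2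
  exact h2.symm

theorem sigma_inv_mem_CV_Zm
    (hcompat : ∀ (a : 𝔸) (q : Q) (v : V), σ a (ρ q v) = ρ (ψ a q) (σ a v))
    (a k : 𝔸) {v : V} (hv : v ∈ CV ρ (Zm ψ (a * k * a⁻¹))) : σ a⁻¹ v ∈ CV ρ (Zm ψ k) := by
  have := sigma_mem_CV_Zm (ρ := ρ) hcompat a⁻¹ (a * k * a⁻¹) hv
  have e : a⁻¹ * (a * k * a⁻¹) * a⁻¹⁻¹ = k := by group
  rwa [e] at this

theorem psi_mem_KerOn_Zm
    (hcompat : ∀ (a : 𝔸) (q : Q) (v : V), σ a (ρ q v) = ρ (ψ a q) (σ a v))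
    (a k : 𝔸) {x : Q} (hx : x ∈ KerOn ρ (CV ρ (Zm ψ k))) :
    ψ a x ∈ KerOn ρ (CV ρ (Zm ψ (a * k * a⁻¹))) := by
  intro w hw
  have h1 := sigma_inv_mem_CV_Zm (ρ := ρ) hcompat a k hw
  have h2 := hcompat a x (σ a⁻¹ w)
  rw [sigma_apply_inv, hx _ h1, sigma_apply_inv] at h2
  exact h2.symm

/-- `Zm ψ k` is a normal subgroup -/
theorem Zm_normal (ψ : 𝔸 →* MulAut Q) (k : 𝔸) : (Zm ψ k).Normal :=
  normal_of_le_center (Zm_le_center ψ k)

/-- `KerOn ρ (CV ρ N)` is normal for normal `N` -/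
theorem KerOn_CV_normal (ρ : Representation (ZMod p) Q V) (N : Subgroup Q) [N.Normal] :
    (KerOn ρ (CV ρ N)).Normal := by
  constructor
  intro x hx g w hw
  have h1 : ρ g⁻¹ w ∈ CV ρ N := rho_mem_CV ρ N g⁻¹ hw
  rw [map_mul, map_mul, Module.End.mul_apply, Module.End.mul_apply, hx _ h1,
    ← Module.End.mul_apply, ← map_mul, mul_inv_cancel, map_one]
  rfl

/-! ### the centre is generated by `Zm h` and `Zm (f h f⁻¹)` when `f` is fixed-point-free on it -/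

theorem div_mem_Zm (r : Rel f h) (ψ : 𝔸 →* MulAut Q) {k : 𝔸} (hk : k * k = 1) {z : Q}
    (hz : z ∈ Subgroup.center Q) : z⁻¹ * ψ k z ∈ Zm ψ k := by
  have hkz : ψ k z ∈ Subgroup.center Q := psi_mem_center ψ k hz
  refine ⟨mul_mem (inv_mem hz) hkz, ?_⟩
  rw [map_mul, map_inv, ← MulAut.mul_apply, ← map_mul, hk, map_one, MulAut.one_apply,
    mul_inv_rev, inv_inv]

theorem center_le_Zm_sup (c : Ctx f h ψ ρ σ)
    (hZf : ∀ z ∈ Subgroup.center Q, ψ f z = z → z = 1) :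
    Subgroup.center Q ≤ Zm ψ h ⊔ Zm ψ (f * h * f⁻¹) := by
  have r := c.rel
  have hh : h * h = 1 := by rw [← pow_two]; exact r.h2
  have hkk : (f * h * f⁻¹) * (f * h * f⁻¹) = 1 := by
    have := r.conj.h2
    rwa [pow_two] at this
  -- `f * f = (f h f⁻¹) * h`
  have hff : f * f = (f * h * f⁻¹) * h := by
    have h1 : h * f⁻¹ = f * h := r.hfinv
    calc f * f = f * (f * h) * h⁻¹ := by group
      _ = f * (h * f⁻¹) * h⁻¹ := by rw [h1]
      _ = (f * h * f⁻¹) * h := by rw [r.h_inv]; group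
  -- `f * f` is fixed-point-free on the centre
  have hfpf : ∀ z ∈ Subgroup.center Q, ψ (f * f) z = z → z = 1 := by
    intro z hz hzz
    apply hZf z hz
    rw [map_mul, MulAut.mul_apply] at hzz
    have := congrArg (ψ f) hzz
    rw [r.psi_f3] at this
    exact this.symm
  intro y hy
  obtain ⟨z, hz, rfl⟩ := exists_commutator_of_fpf (ψ (f * f)) (Subgroup.center Q)
    (fun x hx => psi_mem_center ψ _ hx) hfpf y hy
  have h1 : z⁻¹ * ψ h z ∈ Zm ψ h := div_mem_Zm r ψ hh hz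
  have h2 : (ψ h z)⁻¹ * ψ (f * h * f⁻¹) (ψ h z) ∈ Zm ψ (f * h * f⁻¹) :=
    div_mem_Zm r ψ hkk (psi_mem_center ψ h hz)
  have e : z⁻¹ * ψ (f * f) z = (z⁻¹ * ψ h z) * ((ψ h z)⁻¹ * ψ (f * h * f⁻¹) (ψ h z)) := by
    rw [hff, map_mul, MulAut.mul_apply]
    group
  rw [e]
  exact mul_mem (Subgroup.mem_sup_left h1) (Subgroup.mem_sup_right h2)

/-- a vector fixed by `Zm h` and `Zm (f h f⁻¹)` is zero -/
theorem CV_Zm_inf (c : Ctx f h ψ ρ σ) [Group.IsSolvable Q] (hOp : HOp p Q) (h3 : H3 ρ σ)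
    (hZ : Subgroup.center Q ≠ ⊥) (hZf : ∀ z ∈ Subgroup.center Q, ψ f z = z → z = 1)
    {v : V} (h1 : v ∈ CV ρ (Zm ψ h)) (h2 : v ∈ CV ρ (Zm ψ (f * h * f⁻¹))) : v = 0 := by
  have hCZ : CV ρ (Subgroup.center Q) = ⊥ :=
    CV_eq_bot c hOp h3 (Subgroup.center Q) (invQ_center ψ) hZ
  have : v ∈ CV ρ (Subgroup.center Q) := by
    intro z hz
    have hz' := center_le_Zm_sup c hZf hz
    -- the stabilizer of `v` is a subgroup containing both
    let St : Subgroup Q := KerOn ρ (Submodule.span (ZMod p) {v})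
    have hSt : ∀ x : Q, ρ x v = v → x ∈ St := by
      intro x hx w hw
      obtain ⟨t, rfl⟩ := Submodule.mem_span_singleton.mp hw
      rw [map_smul, hx]
    have hle : Zm ψ h ⊔ Zm ψ (f * h * f⁻¹) ≤ St :=
      sup_le (fun x hx => hSt x (h1 x hx)) (fun x hx => hSt x (h2 x hx))
    exact hle hz' v (Submodule.mem_span_singleton_self v)
  rw [hCZ] at this
  exact (Submodule.mem_bot _).mp this

/-- `p` does not divide the order of a central subgroup -/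
theorem coprime_card_of_le_center (hOp : HOp p Q) {N : Subgroup Q}
    (hN : N ≤ Subgroup.center Q) : (Nat.card ↥N).Coprime p := by
  have hp : p.Prime := Fact.out
  rw [Nat.coprime_comm, hp.coprime_iff_not_dvd]
  intro hdvd
  obtain ⟨g, hg⟩ := exists_prime_orderOf_dvd_card' (G := ↥N) p hdvd
  have hgQ : orderOf (g : Q) = p := by rw [Subgroup.orderOf_coe, hg]
  have hle : Subgroup.zpowers (g : Q) ≤ Subgroup.center Q := by
    rw [Subgroup.zpowers_le]; exact hN g.2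
  have hP : IsPGroup p ↥(Subgroup.zpowers (g : Q)) := by
    apply IsPGroup.of_card (n := 1)
    rw [Nat.card_zpowers, hgQ, pow_one]
  have hbot := hOp _ (normal_of_le_center hle) hP
  have : (g : Q) ∈ Subgroup.zpowers (g : Q) := Subgroup.mem_zpowers _
  rw [hbot, Subgroup.mem_bot] at this
  rw [this, orderOf_one] at hgQ
  exact hp.one_lt.ne hgQ

/-- `h` has no nonzero fixed vector on `Y₁ = C_V(Zm h)` -/
theorem fix_h_CV_Zm (c : Ctx f h ψ ρ σ) [Group.IsSolvable Q] (hOp : HOp p Q) (h3 : H3 ρ σ)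
    (hZ : Subgroup.center Q ≠ ⊥) (hZf : ∀ z ∈ Subgroup.center Q, ψ f z = z → z = 1)
    {w : V} (hw : w ∈ CV ρ (Zm ψ h)) (hhw : σ h w = w) : w = 0 := by
  have r := c.rel
  -- the trace of `w` is fixed by `f` and `h`
  have hu : w + σ f w + σ f (σ f w) = 0 := by
    apply c.fixV
    · rw [map_add, map_add, r.sigma_f3]; abel
    · have e1 : σ h (σ f w) = σ f (σ f w) := by
        rw [r.sigma_hf, hhw, r.f_inv, map_mul]; rfl
      have e2 : σ h (σ f (σ f w)) = σ f w := by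
        rw [r.sigma_hf, e1, r.f_inv, map_mul, Module.End.mul_apply, r.sigma_f3]
      rw [map_add, map_add, hhw, e1, e2]; abel
  -- relations
  have R1 : f * (f * h * f⁻¹) * f⁻¹ = f * f * h * (f * f)⁻¹ := by group
  have R2 : f * (f * f * h * (f * f)⁻¹) * f⁻¹ = h := by
    have hf3 : f * f * f = 1 := by
      have := r.f3; rwa [pow_succ, pow_two] at this
    calc f * (f * f * h * (f * f)⁻¹) * f⁻¹ = (f * f * f) * h * (f * f * f)⁻¹ := by group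
      _ = h := by rw [hf3]; group
  -- contexts
  have c2 : Ctx f (f * h * f⁻¹) ψ ρ σ := c.conj
  have c3 : Ctx f (f * f * h * (f * f)⁻¹) ψ ρ σ := by
    have := c.conj.conj
    rwa [R1] at this
  -- memberships
  have hw2 : σ f w ∈ CV ρ (Zm ψ (f * h * f⁻¹)) := sigma_mem_CV_Zm c.compat f h hw
  have hw3 : σ f (σ f w) ∈ CV ρ (Zm ψ (f * f * h * (f * f)⁻¹)) := by
    have := sigma_mem_CV_Zm (ρ := ρ) c.compat f (f * h * f⁻¹) hw2
    rwa [R1] at this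
  -- averaging over `Zm h`
  have hn : (Zm ψ h).Normal := Zm_normal ψ h
  have := Fintype.ofFinite ↥(Zm ψ h)
  have hk := card_ne_zero_of_coprime (Zm ψ h)
    (coprime_card_of_le_center hOp (Zm_le_center ψ h))
  have ha1 : avg ρ (Zm ψ h) w = w := avg_of_mem_fixedSub ρ (Zm ψ h) hk hw
  have ha2 : avg ρ (Zm ψ h) (σ f w) = 0 := by
    apply CV_Zm_inf c hOp h3 hZ hZf (avg_mem_fixedSub ρ (Zm ψ h) _)
    intro z hz
    rw [avg_comm_rho, hw2 z hz]
  have ha3 : avg ρ (Zm ψ h) (σ f (σ f w)) = 0 := by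
    -- use the pair `(k₃, f k₃ f⁻¹ = h)`
    have key := CV_Zm_inf c3 hOp h3 hZ hZf (v := avg ρ (Zm ψ h) (σ f (σ f w))) ?_ ?_
    · exact key
    · intro z hz
      rw [avg_comm_rho, hw3 z hz]
    · rw [R2]
      exact avg_mem_fixedSub ρ (Zm ψ h) _
  have := congrArg (avg ρ (Zm ψ h)) hu
  rw [map_add, map_add, ha1, ha2, ha3, add_zero, add_zero, map_zero] at this
  exact this

/-- **MODULE ZB**. -/
theorem exists_kernel_of_center_fpf (c : Ctx f h ψ ρ σ) [Group.IsSolvable Q] (hOp : HOp p Q)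
    (h3 : H3 ρ σ) (hZ : Subgroup.center Q ≠ ⊥)
    (hZf : ∀ z ∈ Subgroup.center Q, ψ f z = z → z = 1) (hY : CV ρ (Zm ψ h) ≠ ⊥) :
    ∃ K : Subgroup Q, K.Normal ∧ (∀ x : Q, x⁻¹ * ψ h x ∈ K) ∧
      K ⊓ K.map (ψ f).toMonoidHom ⊓ K.map (ψ (f * f)).toMonoidHom = ⊥ := by
  have r := c.rel
  have hhh : h * h = 1 := by rw [← pow_two]; exact r.h2
  have hf3 : f * f * f = 1 := by
    have := r.f3; rwa [pow_succ, pow_two] at this
  have hff : f * f = f⁻¹ := r.f_inv.symm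
  have hfifi : f⁻¹ * f⁻¹ = f := by rw [← mul_inv_rev, hff, inv_inv]
  -- relations
  have R0 : h * h * h⁻¹ = h := by group
  have R1 : f * (f * h * f⁻¹) * f⁻¹ = f * f * h * (f * f)⁻¹ := by group
  have R2 : f * (f * f * h * (f * f)⁻¹) * f⁻¹ = h := by
    calc f * (f * f * h * (f * f)⁻¹) * f⁻¹ = (f * f * f) * h * (f * f * f)⁻¹ := by group
      _ = h := by rw [hf3]; group
  have R3 : h * (f * h * f⁻¹) * h⁻¹ = f * f * h * (f * f)⁻¹ := by
    calc h * (f * h * f⁻¹) * h⁻¹ = (h * f * h⁻¹) * h * (h * f * h⁻¹)⁻¹ := by group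
      _ = f⁻¹ * h * f⁻¹⁻¹ := by rw [r.hf]
      _ = f * f * h * (f * f)⁻¹ := by rw [hff]
  have R4 : h * (f * f * h * (f * f)⁻¹) * h⁻¹ = f * h * f⁻¹ := by
    calc h * (f * f * h * (f * f)⁻¹) * h⁻¹
        = ((h * f * h⁻¹) * (h * f * h⁻¹)) * h * ((h * f * h⁻¹) * (h * f * h⁻¹))⁻¹ := by group
      _ = f * h * f⁻¹ := by rw [r.hf, hfifi]
  -- the three fixed spaces and kernels
  let K1 : Subgroup Q := KerOn ρ (CV ρ (Zm ψ h))
  let K2 : Subgroup Q := KerOn ρ (CV ρ (Zm ψ (f * h * f⁻¹)))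
  let K3 : Subgroup Q := KerOn ρ (CV ρ (Zm ψ (f * f * h * (f * f)⁻¹)))
  have hn1 : (Zm ψ h).Normal := Zm_normal ψ h
  have hn2 : (Zm ψ (f * h * f⁻¹)).Normal := Zm_normal ψ _
  have hn3 : (Zm ψ (f * f * h * (f * f)⁻¹)).Normal := Zm_normal ψ _
  have hK1n : K1.Normal := KerOn_CV_normal ρ (Zm ψ h)
  have hK2n : K2.Normal := KerOn_CV_normal ρ (Zm ψ (f * h * f⁻¹))
  have hK3n : K3.Normal := KerOn_CV_normal ρ (Zm ψ (f * f * h * (f * f)⁻¹))
  -- `ψ f` permutes the kernels cyclically, `ψ h` fixes `K1` and swaps `K2`, `K3`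
  have f12 : ∀ x ∈ K1, ψ f x ∈ K2 := fun x hx => psi_mem_KerOn_Zm c.compat f h hx
  have f23 : ∀ x ∈ K2, ψ f x ∈ K3 := fun x hx => by
    have := psi_mem_KerOn_Zm (ρ := ρ) c.compat f (f * h * f⁻¹) hx
    rwa [R1] at this
  have f31 : ∀ x ∈ K3, ψ f x ∈ K1 := fun x hx => by
    have := psi_mem_KerOn_Zm (ρ := ρ) c.compat f (f * f * h * (f * f)⁻¹) hx
    rwa [R2] at this
  have h11 : ∀ x ∈ K1, ψ h x ∈ K1 := fun x hx => by
    have := psi_mem_KerOn_Zm (ρ := ρ) c.compat h h hx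
    rwa [R0] at this
  have h23 : ∀ x ∈ K2, ψ h x ∈ K3 := fun x hx => by
    have := psi_mem_KerOn_Zm (ρ := ρ) c.compat h (f * h * f⁻¹) hx
    rwa [R3] at this
  have h32 : ∀ x ∈ K3, ψ h x ∈ K2 := fun x hx => by
    have := psi_mem_KerOn_Zm (ρ := ρ) c.compat h (f * f * h * (f * f)⁻¹) hx
    rwa [R4] at this
  -- the intersection is trivial
  let K0 : Subgroup Q := K1 ⊓ K2 ⊓ K3
  have hK0n : K0.Normal := by
    have : (K1 ⊓ K2).Normal := Subgroup.normal_inf_normal K1 K2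
    exact Subgroup.normal_inf_normal (K1 ⊓ K2) K3
  have hK0inv : InvQ ψ K0 := by
    apply invQ_of_fh r
    · rintro x ⟨⟨h1, h2⟩, h3'⟩
      exact ⟨⟨f31 x h3', f12 x h1⟩, f23 x h2⟩
    · rintro x ⟨⟨h1, h2⟩, h3'⟩
      exact ⟨⟨h11 x h1, h32 x h3'⟩, h23 x h2⟩
  have hK0 : K0 = ⊥ := by
    by_contra hne
    have hCV : CV ρ K0 = ⊥ := CV_eq_bot c hOp h3 K0 hK0inv hne
    apply hY
    rw [eq_bot_iff, ← hCV]
    intro w hw x hx
    exact hx.1.1 w hw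
  -- `σ h = -1` on `Y₁`
  have hneg : ∀ w ∈ CV ρ (Zm ψ h), σ h w = -w := by
    apply neg_of_fpf_involution (σ h) (CV ρ (Zm ψ h))
    · intro w hw
      have := sigma_mem_CV_Zm (ρ := ρ) c.compat h h hw
      rwa [R0] at this
    · intro w _; exact r.sigma_h2 σ w
    · intro w hw hhw
      exact fix_h_CV_Zm c hOp h3 hZ hZf hw hhw
  refine ⟨K1, hK1n, ?_, ?_⟩
  · intro x w hw
    -- `ρ (ψ h x) w = σ h (ρ x (σ h w)) = ρ x w`
    have h1 : ρ x w ∈ CV ρ (Zm ψ h) := rho_mem_CV ρ (Zm ψ h) x hw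
    have h2 := c.compat h x (σ h w)
    rw [r.sigma_h2, hneg w hw, map_neg, map_neg, hneg _ h1, neg_neg] at h2
    -- h2 : ρ x w = ρ (ψ h x) w
    rw [map_mul, Module.End.mul_apply, ← h2, ← Module.End.mul_apply, ← map_mul, inv_mul_cancel,
      map_one]
    rfl
  · rw [eq_bot_iff, ← hK0]
    rintro x ⟨⟨h1, ⟨y, hy, hyx⟩⟩, ⟨y', hy', hyx'⟩⟩
    have e1 : x = ψ f y := hyx.symm
    have e2 : x = ψ f (ψ f y') := by
      have : ψ (f * f) y' = x := hyx'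
      rw [map_mul, MulAut.mul_apply] at this
      exact this.symm
    refine ⟨⟨h1, ?_⟩, ?_⟩
    · rw [e1]; exact f12 y hy
    · rw [e2]; exact f23 _ (f12 y' hy')

end Cfsg.Agent.Lib.Helper67.S3
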