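import Mathlib
import Cfsg.Agent.Lib.Helper67.S3ZB
import Cfsg.Agent.Lib.Helper33.S3ZA
import Cfsg.Agent.Lib.Helper72.S3ZC
import Cfsg.Agent.Lib.Helper98.S3Struct
import Cfsg.Agent.Lib.Helper60.S3SgnFinal
import Cfsg.Agent.Lib.Helper1.S3WFinal

/-!
# The core of the `S₃` theorem (helper67): assembly of the modules

`CoreStatement`: in the configuration `Ctx` with `Q` solvable, `O_p(Q) = 1`, `H2` and `H3`, the
group `Q` is abelian.
-/

set_option autoImplicit false
set_option linter.unusedSectionVars false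

namespace Cfsg.Agent.Lib.Helper67.S3

variable {𝔸 Q V : Type*} [Group 𝔸] [Group Q] [Finite Q] [AddCommGroup V] [Finite V]
  {p : ℕ} [Fact p.Prime] [Module (ZMod p) V]
  {f h : 𝔸} {ψ : 𝔸 →* MulAut Q} {ρ : Representation (ZMod p) Q V}
  {σ : Representation (ZMod p) 𝔸 V}

/-- **MODULE Z**: a nontrivial centre forces `Q` abelian. -/
theorem comm_of_center_ne_bot (c : Ctx f h ψ ρ σ) [Group.IsSolvable Q] (hOp : HOp p Q)
    (h3 : H3 ρ σ) (hZ : Subgroup.center Q ≠ ⊥) : ∀ x y : Q, x * y = y * x := by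
  by_cases hfix : ∃ z ∈ Subgroup.center Q, z ≠ 1 ∧ ψ f z = z
  · obtain ⟨z, hz, hz1, hzf⟩ := hfix
    exact comm_of_center_fix c hOp h3 z hz hz1 hzf
  · have hZf : ∀ z ∈ Subgroup.center Q, ψ f z = z → z = 1 := by
      intro z hz hzf
      by_contra hz1
      exact hfix ⟨z, hz, hz1, hzf⟩
    by_cases hV : ∃ v : V, v ≠ 0
    · have hY := Cfsg.Agent.Lib.Helper33.S3ZA.CV_Zm_ne_bot c hOp h3 hZ hZf hV
      obtain ⟨K, hKn, hK, hint⟩ := exists_kernel_of_center_fpf c hOp h3 hZ hZf hY
      exact Cfsg.Agent.Lib.Helper72.S3ZC.comm_of_three_kernels c K hK hint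
    · -- `V = 0`, so `Q = 1`
      have hV0 : ∀ v : V, v = 0 := by
        intro v
        by_contra hv
        exact hV ⟨v, hv⟩
      have hQ1 : ∀ q : Q, q = 1 := by
        intro q
        apply c.faithful
        ext v
        rw [hV0 v, map_zero, map_zero]
      intro x y
      rw [hQ1 x, hQ1 y]

/-- **The core theorem.** -/
theorem core_thm.{u} : CoreStatement.{u} := by
  intro 𝔸 Q V _ _ _ _ _ p _ _ f h ψ ρ σ c hsolv hOp h2 h3
  by_contra hnc
  by_cases hZ : Subgroup.center Q = ⊥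
  · obtain ⟨S, T, s, t, st⟩ := Cfsg.Agent.Lib.Helper98.S3Struct.exists_struct c hOp h2 hZ hnc
    -- `C_T(f)` is an invariant subgroup of `T`
    let C : Subgroup Q :=
      { carrier := {y | y ∈ T ∧ ψ f y = y}
        mul_mem' := fun {a b} ha hb => ⟨mul_mem ha.1 hb.1, by rw [map_mul, ha.2, hb.2]⟩
        one_mem' := ⟨one_mem _, map_one _⟩
        inv_mem' := fun {a} ha => ⟨inv_mem ha.1, by rw [map_inv, ha.2]⟩ }
    have hCle : C ≤ T := fun y hy => hy.1
    have hfinv : ∀ y : Q, ψ f y = y → ψ f⁻¹ y = y := by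
      intro y hy
      conv_lhs => rw [← hy]
      exact psi_inv_apply ψ f y
    have hCinv : InvQ ψ C := by
      apply invQ_of_fh c.rel
      · intro y hy
        refine ⟨st.T_inv f y hy.1, ?_⟩
        rw [hy.2]; exact hy.2
      · intro y hy
        refine ⟨st.T_inv h y hy.1, ?_⟩
        have h1 := c.rel.psi_hf ψ (ψ h y)
        rw [c.rel.psi_h2, hfinv y hy.2] at h1
        have := congrArg (ψ h) h1
        rwa [c.rel.psi_h2] at this
    rcases st.T_min C hCle hCinv with hC | hC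
    · apply Cfsg.Agent.Lib.Helper1.S3WFinal.struct_W_false c hOp h3 st
      intro y hy hyf
      have : y ∈ C := ⟨hy, hyf⟩
      rw [hC, Subgroup.mem_bot] at this
      exact this
    · apply Cfsg.Agent.Lib.Helper60.S3Sgn.struct_sgn_false c hOp h3 st
      intro y hy
      have : y ∈ C := by rw [hC]; exact hy
      exact this.2
  · exact hnc (comm_of_center_ne_bot c hOp h3 hZ)

end Cfsg.Agent.Lib.Helper67.S3
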