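import Mathlib
import Cfsg.Prelude.Def_Characters

/-!
# helper78's S4700 project, module [FIXSUM]

If the values of a character sum to zero over a subgroup `H`, then so do its values over every
coset `H g`.
-/

set_option autoImplicit false

namespace Cfsg.Agent.Lib.Helper67.S4700FixSum

open Cfsg

/-- MODULE [FIXSUM] -/
theorem sum_mul_eq_zero_of_sum_eq_zero {G : Type*} [Group G] [Finite G] {ψ : G → ℂ}
    (hψ : IsCharacter G ψ)
    (H : Subgroup G) (hsum : ∑ᶠ x ∈ (H : Set G), ψ x = 0) (g : G) :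
    ∑ᶠ x ∈ (H : Set G), ψ (x * g) = 0 := by
  classical
  obtain ⟨n, ρ, rfl⟩ := hψ
  have := Fintype.ofFinite G
  have hfs : ∀ f : G → ℂ,
      ∑ᶠ x ∈ (H : Set G), f x = ∑ x ∈ Finset.univ.filter (· ∈ H), f x := by
    intro f
    rw [finsum_mem_eq_finite_toFinset_sum _ (Set.toFinite _)]
    refine Finset.sum_congr ?_ fun _ _ => rfl
    ext x
    simp
  rw [hfs] at hsum ⊢
  set s : Finset G := Finset.univ.filter (· ∈ H) with hs
  have hmem : ∀ x, x ∈ s ↔ x ∈ H := by
    intro x
    simp [hs]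
  set A : Module.End ℂ (Fin n → ℂ) := ∑ x ∈ s, ρ x with hA
  have hAh : ∀ h ∈ H, A * ρ h = A := by
    intro h hh
    rw [hA, Finset.sum_mul]
    simp_rw [← map_mul]
    refine Finset.sum_bij' (fun x _ => x * h) (fun x _ => x * h⁻¹) ?_ ?_ ?_ ?_ ?_
    · intro x hx
      exact (hmem _).2 (H.mul_mem ((hmem _).1 hx) hh)
    · intro x hx
      exact (hmem _).2 (H.mul_mem ((hmem _).1 hx) (H.inv_mem hh))
    · intro x _
      simp
    · intro x _
      simp
    · intro x _
      rfl
  have hcard : (s.card : ℂ) ≠ 0 := by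
    have : (1 : G) ∈ s := (hmem 1).2 H.one_mem
    have : 0 < s.card := Finset.card_pos.2 ⟨1, this⟩
    exact_mod_cast this.ne'
  have hAA : A * A = (s.card : ℂ) • A := by
    conv_lhs => rw [hA, Finset.mul_sum]
    rw [Finset.sum_congr rfl (fun x hx => hAh x ((hmem x).1 hx)), Finset.sum_const,
      Nat.cast_smul_eq_nsmul]
  have htr : LinearMap.trace ℂ (Fin n → ℂ) A = 0 := by
    rw [hA, map_sum]
    exact hsum
  set e : Module.End ℂ (Fin n → ℂ) := (s.card : ℂ)⁻¹ • A with he
  have hidem : IsIdempotentElem e := by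
    show e * e = e
    rw [he, smul_mul_smul_comm, hAA, smul_smul, inv_mul_cancel_right₀ hcard]
  have he0 : e = 0 := by
    apply LinearMap.IsIdempotentElem.eq_zero_of_trace_eq_zero hidem
    rw [he, map_smul, htr, smul_zero]
  have hA0 : A = 0 := by
    have : A = (s.card : ℂ) • e := by
      rw [he, smul_smul, mul_inv_cancel₀ hcard, one_smul]
    rw [this, he0, smul_zero]
  have : ∑ x ∈ s, ρ.character (x * g) = LinearMap.trace ℂ (Fin n → ℂ) (A * ρ g) := by
    rw [hA, Finset.sum_mul, map_sum]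
    refine Finset.sum_congr rfl fun x _ => ?_
    rw [← map_mul]
    rfl
  rw [this, hA0, zero_mul, map_zero]

end Cfsg.Agent.Lib.Helper67.S4700FixSum
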