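import Mathlib
import Cfsg.Prelude.Def_Blocks
import Cfsg.Agent.S0942
import Cfsg.Agent.Lib.Helper80.CharBasic
import Cfsg.Agent.Lib.Helper67.S4700FixSum

/-!
# helper78's S4700 project, module [VTRIV]

A character of the principal block with value `-1` on `P#` and degree `p - 1` forces
`C_G(x) = P` for `x ∈ P#`, when `G` has no nontrivial normal `p'`-subgroups.
-/

set_option autoImplicit false
set_option linter.unusedSectionVars false

namespace Cfsg.Agent.Lib.Helper67.S4700VTriv

open Cfsg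
open scoped Pointwise

section group
variable {G : Type*} [Group G] [Finite G] (p : ℕ) [Fact p.Prime]

/-- every element of a subgroup of prime order is a power of a given non-identity element -/
theorem mem_zpowers_of_mem (P : Subgroup G) (hPcard : Nat.card P = p) {x y : G}
    (hx : x ∈ P) (hx1 : x ≠ 1) (hy : y ∈ P) : y ∈ Subgroup.zpowers x := by
  have h1 : (⟨x, hx⟩ : P) ≠ 1 := fun h => hx1 (congrArg Subtype.val h)
  have h2 : (⟨y, hy⟩ : P) ∈ Subgroup.zpowers (⟨x, hx⟩ : P) :=
    mem_zpowers_of_prime_card hPcard h1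
  obtain ⟨k, hk⟩ := h2
  exact ⟨k, by simpa using congrArg Subtype.val hk⟩

/-- an element commuting with `x ∈ P#` commutes with all of `P` -/
theorem commute_of_mem (P : Subgroup G) (hPcard : Nat.card P = p) {x y v : G}
    (hx : x ∈ P) (hx1 : x ≠ 1) (hy : y ∈ P) (hv : Commute v x) : Commute v y := by
  obtain ⟨k, rfl⟩ := mem_zpowers_of_mem p P hPcard hx hx1 hy
  exact hv.zpow_right k

/-- `p'`-elements of `C_G(x)`, `x ∈ P#`, lie in `O_{p'}(C_G(x))` (Burnside transfer). -/
theorem mem_centralizerPPrimeCore (P : Sylow p G) (hPcard : Nat.card (P : Subgroup G) = p)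
    {x v : G} (hx : x ∈ (P : Subgroup G)) (hx1 : x ≠ 1)
    (hv : v ∈ Subgroup.centralizer ({x} : Set G)) (hvo : (orderOf v).Coprime p) :
    v ∈ centralizerPPrimeCore p x := by
  classical
  set C : Subgroup G := Subgroup.centralizer ({x} : Set G) with hC
  have hPC : (P : Subgroup G) ≤ C := by
    intro y hy
    rw [hC, Subgroup.mem_centralizer_iff]
    intro z hz
    rw [Set.mem_singleton_iff] at hz
    subst hz
    have hxx : Commute z z := Commute.refl z
    exact (commute_of_mem p (P : Subgroup G) hPcard hx hx1 hy hxx).symm.eq.symm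
  set P' : Sylow p C := P.subtype hPC with hP'
  have hP'mem : ∀ c : C, c ∈ (P' : Subgroup C) ↔ (c : G) ∈ (P : Subgroup G) := by
    intro c
    rw [hP']
    show c ∈ ((P.subtype hPC : Sylow p C) : Subgroup C) ↔ _
    rw [Sylow.coe_subtype, Subgroup.mem_subgroupOf]
  have hcentral : ∀ c : C, ∀ y : C, y ∈ (P' : Subgroup C) → y * c = c * y := by
    intro c y hy
    have hyP : (y : G) ∈ (P : Subgroup G) := (hP'mem y).1 hy
    have hcx : Commute (c : G) x := by
      have h0 : (c : G) ∈ Subgroup.centralizer ({x} : Set G) := c.2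
      exact ((Subgroup.mem_centralizer_iff.1 h0) x rfl).symm
    have := commute_of_mem p (P : Subgroup G) hPcard hx hx1 hyP hcx
    exact Subtype.ext this.eq.symm
  have hN : Subgroup.normalizer ((P' : Subgroup C) : Set C) ≤
      Subgroup.centralizer ((P' : Subgroup C) : Set C) := by
    intro c _
    rw [Subgroup.mem_centralizer_iff]
    intro y hy
    exact hcentral c y hy
  have hcomp := MonoidHom.ker_transferSylow_isComplement' P' hN
  set V : Subgroup C := (MonoidHom.transferSylow P' hN).ker with hV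
  have hP'card : Nat.card (P' : Subgroup C) = p := by
    refine Eq.trans ?_ hPcard
    rw [hP', Sylow.coe_subtype]
    exact Nat.card_congr (Subgroup.subgroupOfEquivOfLe hPC).toEquiv
  have hVcop : (Nat.card V).Coprime p := by
    have h1 := P'.card_coprime_index
    rw [hcomp.index_eq_card, hP'card] at h1
    exact h1.symm
  have hvV : (⟨v, hv⟩ : C) ∈ V := by
    rw [hV, MonoidHom.mem_ker]
    have h1 : orderOf (MonoidHom.transferSylow P' hN ⟨v, hv⟩) ∣ orderOf (⟨v, hv⟩ : C) :=
      orderOf_map_dvd _ _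
    have h2 : orderOf (⟨v, hv⟩ : C) = orderOf v := Subgroup.orderOf_mk v hv
    have h3 : orderOf (MonoidHom.transferSylow P' hN ⟨v, hv⟩) ∣ p := by
      have h0 := orderOf_dvd_natCard (MonoidHom.transferSylow P' hN ⟨v, hv⟩)
      rwa [hP'card] at h0
    rw [h2] at h1
    have h4 : orderOf (MonoidHom.transferSylow P' hN ⟨v, hv⟩) = 1 :=
      Nat.eq_one_of_dvd_coprimes hvo h1 h3
    exact orderOf_eq_one_iff.1 h4
  have hVle : V ≤ pPrimeCore p C := le_sSup ⟨inferInstance, hVcop⟩
  exact ⟨⟨v, hv⟩, hVle hvV, rfl⟩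

/-- the sum over a subgroup of prime order of a function with value `-1` off the identity -/
theorem finsum_eq (P : Subgroup G) (hPcard : Nat.card P = p) (f : G → ℂ)
    (hf : ∀ y ∈ P, y ≠ 1 → f y = -1) :
    ∑ᶠ y ∈ (P : Set G), f y = f 1 - ((p - 1 : ℕ) : ℂ) := by
  classical
  have := Fintype.ofFinite G
  rw [finsum_mem_eq_finite_toFinset_sum _ (Set.toFinite _)]
  set s : Finset G := (Set.toFinite (P : Set G)).toFinset with hs
  have hmem : ∀ y, y ∈ s ↔ y ∈ P := by
    intro y
    simp [hs]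
  have h1 : (1 : G) ∈ s := (hmem 1).2 P.one_mem
  rw [← Finset.add_sum_erase s f h1]
  have h2 : ∑ y ∈ s.erase 1, f y = ∑ y ∈ s.erase 1, (-1 : ℂ) :=
    Finset.sum_congr rfl fun y hy =>
      hf y ((hmem y).1 (Finset.mem_of_mem_erase hy)) (Finset.ne_of_mem_erase hy)
  have hcard : s.card = p := by
    rw [← hPcard, hs, ← Set.ncard_eq_toFinset_card _ _]
    rfl
  rw [h2, Finset.sum_const, Finset.card_erase_of_mem h1, hcard, nsmul_eq_mul]
  ring

end group

/-- MODULE [VTRIV] -/
theorem centralizer_eq_of_block_char {G : Type*} [Group G] [Finite G] (p : ℕ) [Fact p.Prime]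
    (P : Sylow p G) (hPcard : Nat.card (P : Subgroup G) = p)
    (M : Ideal Cfsg.AlgInt) (hM : Cfsg.IsPModular p M) (χ : IrrCharacter G)
    (hχB : χ ∈ principalBlock M G)
    (hχP : ∀ x : G, x ∈ (P : Subgroup G) → x ≠ 1 → (χ : G → ℂ) x = -1)
    (hχ1 : (χ : G → ℂ) 1 = ((p - 1 : ℕ) : ℂ))
    (hK : ∀ K : Subgroup G, K.Normal → (Nat.card K).Coprime p → K = ⊥) :
    ∀ x : G, x ∈ (P : Subgroup G) → x ≠ 1 →
      Subgroup.centralizer ({x} : Set G) = (P : Subgroup G) := by
  classical
  have hp : p.Prime := Fact.out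
  have hχc : IsCharacter G (χ : G → ℂ) := by
    obtain ⟨n, ρ, _, h⟩ := χ.2
    exact ⟨n, ρ, h⟩
  have hp1 : ((p - 1 : ℕ) : ℂ) ≠ -1 := by
    have h1 : ((p - 1 : ℕ) : ℂ) = (p : ℂ) - 1 := by
      rw [Nat.cast_sub hp.one_le, Nat.cast_one]
    rw [h1]
    intro h
    have : (p : ℂ) = 0 := by linear_combination h
    exact hp.ne_zero (by exact_mod_cast this)
  -- the kernel of χ is trivial
  have hker : Cfsg.Agent.Lib.Helper80.charKer (χ : G → ℂ) hχc = ⊥ := by
    apply hK _ inferInstance
    rw [Nat.coprime_comm, Nat.Prime.coprime_iff_not_dvd hp]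
    intro hdvd
    obtain ⟨y, hy⟩ := exists_prime_orderOf_dvd_card' p hdvd
    have hyK : (y : G) ∈ Cfsg.Agent.Lib.Helper80.charKer (χ : G → ℂ) hχc := y.2
    have hyo : orderOf (y : G) = p := by rw [Subgroup.orderOf_coe]; exact hy
    have hy1 : (y : G) ≠ 1 := by
      intro h
      rw [h, orderOf_one] at hyo
      exact hp.one_lt.ne hyo
    have hpg : IsPGroup p (Subgroup.zpowers (y : G)) := by
      apply IsPGroup.of_card (n := 1)
      rw [Nat.card_zpowers, hyo, pow_one]
    obtain ⟨Q, hQ⟩ := hpg.exists_le_sylow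
    obtain ⟨g', hg'⟩ := MulAction.exists_smul_eq G Q P
    have hyQ : (y : G) ∈ (Q : Subgroup G) := hQ (Subgroup.mem_zpowers _)
    have h1 : MulAut.conj g' • (y : G) ∈ MulAut.conj g' • (Q : Subgroup G) :=
      Subgroup.smul_mem_pointwise_smul _ _ _ hyQ
    rw [← Sylow.pointwise_smul_def, ← Sylow.smul_def, hg'] at h1
    have h2 : g' * (y : G) * g'⁻¹ ∈ (P : Subgroup G) := h1
    have h3 : g' * (y : G) * g'⁻¹ ∈ Cfsg.Agent.Lib.Helper80.charKer (χ : G → ℂ) hχc :=
      (Cfsg.Agent.Lib.Helper80.charKer_normal hχc).conj_mem _ hyK g'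
    have h4 : g' * (y : G) * g'⁻¹ ≠ 1 := by
      intro h
      apply hy1
      have : (y : G) = g'⁻¹ * (g' * (y : G) * g'⁻¹) * g' := by group
      rw [this, h]
      group
    have h5 := hχP _ h2 h4
    rw [(Cfsg.Agent.Lib.Helper80.mem_charKer hχc _).1 h3, hχ1] at h5
    exact hp1 h5
  intro x hx hx1
  set C : Subgroup G := Subgroup.centralizer ({x} : Set G) with hC
  have hkey : ∀ v ∈ C, (orderOf v).Coprime p → v = 1 := by
    intro v hv hvo
    have hvx : Commute v x := by
      rw [hC, Subgroup.mem_centralizer_iff] at hv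
      exact (hv x rfl).symm
    have hval : ∀ y ∈ (P : Subgroup G), y ≠ 1 → (χ : G → ℂ) (y * v) = -1 := by
      intro y hy hy1
      have hvy : v ∈ Subgroup.centralizer ({y} : Set G) := by
        rw [Subgroup.mem_centralizer_iff]
        intro z hz
        rw [Set.mem_singleton_iff] at hz
        subst hz
        exact (commute_of_mem p (P : Subgroup G) hPcard hx hx1 hy hvx).eq.symm
      have hmem := mem_centralizerPPrimeCore p P hPcard hy hy1 hvy hvo
      have hyo : ∃ k : ℕ, orderOf y = p ^ k := by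
        obtain ⟨k, hk⟩ := (IsPGroup.iff_orderOf.1 P.isPGroup') ⟨y, hy⟩
        exact ⟨k, by rw [← hk, Subgroup.orderOf_mk]⟩
      rw [Cfsg.Agent.S0942.result p M hM y hyo v hmem χ hχB]
      exact hχP y hy hy1
    have hsum0 : ∑ᶠ y ∈ ((P : Subgroup G) : Set G), (χ : G → ℂ) y = 0 := by
      rw [finsum_eq p (P : Subgroup G) hPcard _ hχP, hχ1, sub_self]
    have hsumv := Cfsg.Agent.Lib.Helper67.S4700FixSum.sum_mul_eq_zero_of_sum_eq_zero hχc
      (P : Subgroup G) hsum0 v
    rw [finsum_eq p (P : Subgroup G) hPcard (fun y => (χ : G → ℂ) (y * v)) hval, one_mul] at hsumv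
    have hχv : (χ : G → ℂ) v = (χ : G → ℂ) 1 := by
      rw [hχ1]
      linear_combination hsumv
    have hvK : v ∈ Cfsg.Agent.Lib.Helper80.charKer (χ : G → ℂ) hχc :=
      (Cfsg.Agent.Lib.Helper80.mem_charKer hχc v).2 hχv
    rw [hker] at hvK
    exact Subgroup.mem_bot.1 hvK
  have hPC : (P : Subgroup G) ≤ C := by
    intro y hy
    rw [hC, Subgroup.mem_centralizer_iff]
    intro z hz
    rw [Set.mem_singleton_iff] at hz
    subst hz
    exact (commute_of_mem p (P : Subgroup G) hPcard hx hx1 hy (Commute.refl z)).symm.eq.symm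
  have hCp : IsPGroup p C := by
    intro c
    have hpos : orderOf (c : G) ≠ 0 := (orderOf_pos (c : G)).ne'
    obtain ⟨k, m, hm, hkm⟩ := Nat.exists_eq_pow_mul_and_not_dvd hpos p hp.ne_one
    refine ⟨k, ?_⟩
    have hvC : (c : G) ^ p ^ k ∈ C := C.pow_mem c.2 _
    have hvm : ((c : G) ^ p ^ k) ^ m = 1 := by
      rw [← pow_mul, ← hkm, pow_orderOf_eq_one]
    have hdvd : orderOf ((c : G) ^ p ^ k) ∣ m := orderOf_dvd_of_pow_eq_one hvm
    have hcop : (orderOf ((c : G) ^ p ^ k)).Coprime p :=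
      Nat.Coprime.coprime_dvd_left hdvd ((Nat.Prime.coprime_iff_not_dvd hp).2 hm).symm
    have := hkey _ hvC hcop
    exact Subtype.ext this
  exact P.is_maximal' hCp hPC

end Cfsg.Agent.Lib.Helper67.S4700VTriv
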