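import Mathlib
import Cfsg.Agent.Lib.Helper32.SLMD.Defs2

/-!
# SLMD-[SL2-DICH] (helper67, for helper32's project SLMD / S2332)
`sl2_dich_of`: the dichotomy `fixUS R - ttSL2 R = 0 ∨ ≥ (q-1)/q` for ALL representations of `SL₂(F)`, from the
irreducible case ([SL2-DICH-IRR]) and Maschke induction for additive functionals ([G-ADDIND]), both taken as
hypotheses in exactly the skeleton shape.
-/

set_option autoImplicit false
set_option linter.unusedSectionVars false
set_option linter.unusedVariables false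

namespace Cfsg.Agent.Lib.Helper32.SLMD

open Matrix Cfsg.Agent.Lib.Helper41 Cfsg.Agent.Lib.Helper39 Module

universe u v

variable {F : Type u} [Field F] [Fintype F] [DecidableEq F]

/-- the additive functional `f ↦ (Σ_a f(upperU a))/q - (Σ_{a,b} f(lowerU b * upperU a))/q²` -/
noncomputable def dichFunctional (F : Type u) [Field F] [Fintype F] [DecidableEq F] :
    (Matrix.SpecialLinearGroup (Fin 2) F → ℂ) →+ ℂ where
  toFun f := (∑ a : F, f (upperU a)) / (Fintype.card F : ℂ)
    - (∑ a : F, ∑ b : F, f (lowerU b * upperU a)) / (Fintype.card F : ℂ) ^ 2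
  map_zero' := by simp
  map_add' f g := by
    simp only [Pi.add_apply, Finset.sum_add_distrib]
    ring

/-- the target set `{r ∈ ℝ | r = 0 ∨ c ≤ r}` (for `0 ≤ c`) as an additive submonoid of `ℂ` -/
def dichSet (c : ℝ) (hc : 0 ≤ c) : AddSubmonoid ℂ where
  carrier := {z | ∃ r : ℝ, z = (r : ℂ) ∧ (r = 0 ∨ c ≤ r)}
  zero_mem' := ⟨0, by simp, Or.inl rfl⟩
  add_mem' := by
    rintro _ _ ⟨r, rfl, hr⟩ ⟨s, rfl, hs⟩
    refine ⟨r + s, by push_cast; rfl, ?_⟩
    rcases hr with rfl | hr
    · rcases hs with rfl | hs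
      · left; simp
      · right; linarith
    · rcases hs with rfl | hs
      · right; linarith
      · right; linarith

theorem dichFunctional_character {V : Type v} [AddCommGroup V] [Module ℂ V] [FiniteDimensional ℂ V]
    (R : Representation ℂ (Matrix.SpecialLinearGroup (Fin 2) F) V) :
    dichFunctional F R.character = (fixUS R : ℂ) - ttSL2 R := by
  have hq : (Fintype.card F : ℂ) ≠ 0 := by
    exact_mod_cast Fintype.card_ne_zero
  show (∑ a : F, R.character (upperU a)) / (Fintype.card F : ℂ)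
    - (∑ a : F, ∑ b : F, R.character (lowerU b * upperU a)) / (Fintype.card F : ℂ) ^ 2 = _
  rw [sum_char_upperU, ttSL2, mul_div_cancel_left₀ _ hq]

/-- [SL2-DICH], `_of` form: `hirr` = statement of [SL2-DICH-IRR], `hadd` = statement of [G-ADDIND]
(both at the universe of `V`). -/
theorem sl2_dich_of {V : Type v} [AddCommGroup V] [Module ℂ V] [FiniteDimensional ℂ V]
    (hirr : ∀ (W : Type v) [AddCommGroup W] [Module ℂ W] [FiniteDimensional ℂ W]
      (R : Representation ℂ (Matrix.SpecialLinearGroup (Fin 2) F) W), R.IsIrreducible →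
      ∃ r : ℝ, (fixUS R : ℂ) - ttSL2 R = (r : ℂ) ∧
        (r = 0 ∨ ((Fintype.card F : ℝ) - 1) / (Fintype.card F : ℝ) ≤ r))
    (hadd : ∀ (L : (Matrix.SpecialLinearGroup (Fin 2) F → ℂ) →+ ℂ) (S : AddSubmonoid ℂ),
      (∀ (W : Type v) [AddCommGroup W] [Module ℂ W] [FiniteDimensional ℂ W]
        (R : Representation ℂ (Matrix.SpecialLinearGroup (Fin 2) F) W),
        R.IsIrreducible → L R.character ∈ S) →
      ∀ (V : Type v) [AddCommGroup V] [Module ℂ V] [FiniteDimensional ℂ V]
        (ρ : Representation ℂ (Matrix.SpecialLinearGroup (Fin 2) F) V), L ρ.character ∈ S)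
    (R : Representation ℂ (Matrix.SpecialLinearGroup (Fin 2) F) V) :
    ∃ r : ℝ, (fixUS R : ℂ) - ttSL2 R = (r : ℂ) ∧
      (r = 0 ∨ ((Fintype.card F : ℝ) - 1) / (Fintype.card F : ℝ) ≤ r) := by
  have hq1 : (1 : ℝ) ≤ (Fintype.card F : ℝ) := by
    exact_mod_cast Fintype.card_pos
  have hc : (0 : ℝ) ≤ ((Fintype.card F : ℝ) - 1) / (Fintype.card F : ℝ) :=
    div_nonneg (by linarith) (by linarith)
  have key := hadd (dichFunctional F) (dichSet _ hc) (by
    intro W _ _ _ R' hR'
    obtain ⟨r, hr, hr'⟩ := hirr W R' hR'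
    exact ⟨r, by rw [dichFunctional_character, hr], hr'⟩) V R
  obtain ⟨r, hr, hr'⟩ := key
  exact ⟨r, by rw [← dichFunctional_character, hr], hr'⟩

end Cfsg.Agent.Lib.Helper32.SLMD
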