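import Mathlib
import Cfsg.Agent.Lib.Helper32.SLMD.Defs2
import Cfsg.Agent.Lib.Helper67.SlmdSL2Dich
import Cfsg.Agent.Lib.Helper75.SlmdSL2DichIrr
import Cfsg.Agent.Lib.Helper51.SLMD.AddInd

/-!
# SLMD-[SL2-DICH] (helper67, for helper32's project S2332): `sl2_dich`, exact Skel statement
-/

set_option autoImplicit false
set_option linter.unusedSectionVars false
set_option linter.unusedVariables false

namespace Cfsg.Agent.Lib.Helper32.SLMD

open Matrix Cfsg.Agent.Lib.Helper41 Cfsg.Agent.Lib.Helper39 Module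
open scoped LinearAlgebra.Projectivization

variable {F : Type*} [Field F] [Fintype F] [DecidableEq F] {k : ℕ}

section sl2

variable {V : Type*} [AddCommGroup V] [Module ℂ V] [FiniteDimensional ℂ V]

/-- [SL2-DICH] -/
theorem sl2_dich_hedge67 (R : Representation ℂ (Matrix.SpecialLinearGroup (Fin 2) F) V) :
    ∃ r : ℝ, (fixUS R : ℂ) - ttSL2 R = (r : ℂ) ∧
      (r = 0 ∨ ((Fintype.card F : ℝ) - 1) / (Fintype.card F : ℝ) ≤ r) :=
  sl2_dich_of (fun W _ _ _ R' hR' => sl2_dich_irr R' hR')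
    (fun L S h V' _ _ _ ρ => Cfsg.Agent.Lib.Helper51.SLMD.additive_char_induction L S h V' ρ) R

end sl2

end Cfsg.Agent.Lib.Helper32.SLMD
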