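import Mathlib
import Cfsg.Agent.S0199

/-!
A criterion for the Sylow `2`-subgroup of a finite group to be normal, based on the Baer–Suzuki
theorem (`Cfsg.Agent.S0199.result`): if a class of finite groups is closed under quotients by normal
`2`-subgroups and, in its members, no involution inverts a non-trivial element of odd order, then
its members have a normal Sylow `2`-subgroup.
-/

set_option autoImplicit false

namespace Cfsg.Agent.Lib.Helper67

universe u

/-- A cyclic group generated by an element killed by `p ^ k` is a `p`-group. -/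
theorem isPGroup_zpowers_of_pow_eq_one {G : Type*} [Group G] {p : ℕ} {x : G} {k : ℕ}
    (h : x ^ p ^ k = 1) : IsPGroup p (Subgroup.zpowers x) := by
  rintro ⟨z, hz⟩
  obtain ⟨i, rfl⟩ := Subgroup.mem_zpowers_iff.1 hz
  refine ⟨k, Subtype.ext ?_⟩
  simp only [Subgroup.coe_pow, Subgroup.coe_one]
  rw [← zpow_natCast, ← zpow_mul, mul_comm, zpow_mul, zpow_natCast, h, one_zpow]

/-- An element inverting `w` normalizes `⟨w⟩`. -/
theorem mem_normalizer_zpowers_of_conj_eq_inv {G : Type*} [Group G] {s w : G}
    (h : s * w * s⁻¹ = w⁻¹) :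
    s ∈ Subgroup.normalizer ((Subgroup.zpowers w : Subgroup G) : Set G) := by
  rw [Subgroup.mem_normalizer_iff_map_conj_eq]
  have h1 : (Subgroup.zpowers w).map (MulAut.conj s : G →* G) = Subgroup.zpowers (s * w * s⁻¹) := by
    rw [MonoidHom.map_zpowers]
    congr 1
  rw [show (Subgroup.zpowers w).map (MulAut.conj s) =
    (Subgroup.zpowers w).map (MulAut.conj s : G →* G) from rfl, h1, h, Subgroup.zpowers_inv]

/-- Two involutions `s`, `t` of a finite group such that `s` inverts no non-trivial element of odd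
order generate a `2`-group. -/
theorem isPGroup_two_zpowers_sup_of_involutions {G : Type*} [Group G] [Finite G] {s t : G}
    (hs : s ^ 2 = 1) (ht : t ^ 2 = 1)
    (hinv : ∀ w : G, Odd (orderOf w) → s * w * s⁻¹ = w⁻¹ → w = 1) :
    IsPGroup 2 ↥(Subgroup.zpowers t ⊔ Subgroup.zpowers s) := by
  have hsinv : s⁻¹ = s := inv_eq_of_mul_eq_one_left (by rw [← pow_two]; exact hs)
  have htinv : t⁻¹ = t := inv_eq_of_mul_eq_one_left (by rw [← pow_two]; exact ht)
  obtain ⟨z, hz⟩ : ∃ z : G, z = s * t := ⟨_, rfl⟩
  have hsz : s * z * s⁻¹ = z⁻¹ := by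
    rw [hz, mul_inv_rev, hsinv, htinv, ← mul_assoc, ← pow_two, hs, one_mul]
  obtain ⟨a, m, hm, hzm⟩ := Nat.exists_eq_two_pow_mul_odd (orderOf_pos z).ne'
  have hmpos : 0 < m := hm.pos
  obtain ⟨w, hw⟩ : ∃ w : G, w = z ^ 2 ^ a := ⟨_, rfl⟩
  have hword : orderOf w = m := by
    rw [hw, orderOf_pow, hzm, Nat.gcd_mul_right_left, Nat.mul_div_cancel_left _ (pow_pos two_pos a)]
  have hsw : s * w * s⁻¹ = w⁻¹ := by
    rw [hw, ← conj_pow, hsz, inv_pow]
  have hw1 : w = 1 := hinv w (hword ▸ hm) hsw
  have hm1 : m = 1 := by rw [← hword, hw1, orderOf_one]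
  have hz2 : z ^ 2 ^ a = 1 := by rw [← hw, hw1]
  have hZz : IsPGroup 2 (Subgroup.zpowers z) := isPGroup_zpowers_of_pow_eq_one hz2
  have hZs : IsPGroup 2 (Subgroup.zpowers s) := isPGroup_zpowers_of_pow_eq_one (k := 1) (by simpa using hs)
  have hle : Subgroup.zpowers s ≤ Subgroup.normalizer ((Subgroup.zpowers z : Subgroup G) : Set G) := by
    rw [Subgroup.zpowers_le]; exact mem_normalizer_zpowers_of_conj_eq_inv hsz
  have hT : IsPGroup 2 ↥(Subgroup.zpowers s ⊔ Subgroup.zpowers z) := hZs.to_sup_of_normal_right' hZz hle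
  refine hT.to_le ?_
  apply sup_le
  · rw [Subgroup.zpowers_le]
    have : t = s⁻¹ * z := by rw [hz, inv_mul_cancel_left]
    rw [this]
    exact Subgroup.mul_mem _ (Subgroup.inv_mem _ (Subgroup.mem_sup_left (Subgroup.mem_zpowers s)))
      (Subgroup.mem_sup_right (Subgroup.mem_zpowers z))
  · exact le_sup_left

/-- If a class `Q` of groups is closed under quotients by normal `2`-subgroups and, in finite
members of `Q`, no involution inverts a non-trivial element of odd order, then every finite member
of `Q` has a normal Sylow `2`-subgroup. -/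
theorem sylow_two_normal_of_class (Q : ∀ (G : Type u) [Group G], Prop)
    (hquot : ∀ (G : Type u) [Group G] [Finite G] (E : Subgroup G) [E.Normal],
      IsPGroup 2 E → Q G → Q (G ⧸ E))
    (hinv : ∀ (G : Type u) [Group G] [Finite G], Q G → ∀ s w : G, s ^ 2 = 1 →
      Odd (orderOf w) → s * w * s⁻¹ = w⁻¹ → w = 1) :
    ∀ (n : ℕ) (G : Type u) [Group G] [Finite G], Nat.card G = n → Q G →
      ∀ P : Sylow 2 G, (P : Subgroup G).Normal := by
  intro n
  induction n using Nat.strong_induction_on with
  | _ n ih =>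
    intro G _ _ hcard hG P
    have : Fact (Nat.Prime 2) := ⟨Nat.prime_two⟩
    by_cases hinvol : ∃ t : G, orderOf t = 2
    · obtain ⟨t, ht⟩ := hinvol
      have ht2 : t ^ 2 = 1 := by rw [← ht, pow_orderOf_eq_one]
      have ht1 : t ≠ 1 := by
        rintro rfl; rw [orderOf_one] at ht; exact absurd ht (by decide)
      -- Baer–Suzuki
      have hX : IsPGroup 2 (Subgroup.zpowers t) := isPGroup_zpowers_of_pow_eq_one (k := 1) (by simpa using ht2)
      have hpair : ∀ g : G, IsPGroup 2
          ↥(Subgroup.zpowers t ⊔ (Subgroup.zpowers t).map (MulAut.conj g).toMonoidHom) := by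
        intro g
        rw [MonoidHom.map_zpowers]
        have hs2 : ((MulAut.conj g).toMonoidHom t) ^ 2 = 1 := by
          rw [← map_pow, ht2, map_one]
        exact isPGroup_two_zpowers_sup_of_involutions hs2 ht2
          (fun w hw hsw => hinv G hG _ w hs2 hw hsw)
      obtain ⟨E, hEn, hE2, hXE⟩ := Cfsg.Agent.S0199.result (Subgroup.zpowers t) hX hpair
      have := hEn
      have htE : t ∈ E := hXE (Subgroup.mem_zpowers t)
      have hEne : E ≠ ⊥ := by
        intro h; rw [h, Subgroup.mem_bot] at htE; exact ht1 htE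
      -- the quotient is smaller
      have hlt : Nat.card (G ⧸ E) < n := by
        rw [← hcard, ← Subgroup.card_mul_index E, ← Subgroup.index_eq_card]
        have h1 : 1 < Nat.card E := by
          rw [Nat.one_lt_iff_ne_zero_and_ne_one]
          exact ⟨Nat.card_pos.ne', fun h => hEne (Subgroup.card_eq_one.1 h)⟩
        have h2 : 0 < E.index := Nat.pos_of_ne_zero Subgroup.index_ne_zero_of_finite
        nlinarith
      have hf : Function.Surjective (QuotientGroup.mk' E) := QuotientGroup.mk'_surjective E
      have hPbar := ih _ hlt (G ⧸ E) rfl (hquot G E hE2 hG) (P.mapSurjective hf)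
      rw [Sylow.coe_mapSurjective] at hPbar
      have hEP : E ≤ (P : Subgroup G) := hE2.le_sylow_of_normal P
      have hcomap : ((P : Subgroup G).map (QuotientGroup.mk' E)).comap (QuotientGroup.mk' E) = P := by
        apply Subgroup.comap_map_eq_self
        rw [QuotientGroup.ker_mk']; exact hEP
      rw [← hcomap]
      exact hPbar.comap _
    · -- no involutions: P is trivial
      have hPbot : (P : Subgroup G) = ⊥ := by
        by_contra hne
        have h2 : 2 ∣ Nat.card (P : Subgroup G) := by
          obtain ⟨k, hk⟩ := (P.2).exists_card_eq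
          have hk0 : k ≠ 0 := by
            rintro rfl; rw [pow_zero] at hk; exact hne (Subgroup.card_eq_one.1 hk)
          rw [hk]; exact dvd_pow_self 2 hk0
        obtain ⟨x, hx⟩ := exists_prime_orderOf_dvd_card' (G := (P : Subgroup G)) 2 h2
        exact hinvol ⟨(x : G), by rw [Subgroup.orderOf_coe]; exact hx⟩
      rw [hPbot]
      infer_instance

end Cfsg.Agent.Lib.Helper67
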