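import Mathlib
import Cfsg.Prelude.Def_GeometricClasses
import Cfsg.Agent.Lib.Helper99.TWDefs
import Cfsg.Agent.Lib.Helper37.AltIso

/-!
# helper99's S5707 project, module [BRIDGE]

Transport from `(Q, P, e, f₁)` to standard coordinates on `F^(Fin t → Fin k)`.
-/

set_option autoImplicit false

namespace Cfsg.Agent.Lib.Helper67.TWBridge

open Cfsg.Agent.Lib.Helper99.TW Matrix

section aux
variable {F : Type*} [Field F] {k t : ℕ}

theorem ptM_mul' (gs gs' : Fin t → Matrix (Fin k) (Fin k) F) :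
    ptM gs * ptM gs' = ptM (fun i => gs i * gs' i) := by
  ext a b
  simp only [Matrix.mul_apply, ptM]
  rw [Finset.prod_univ_sum, Fintype.piFinset_univ]
  refine Finset.sum_congr rfl fun d _ => ?_
  rw [Finset.prod_mul_distrib]

theorem ptM_one' : ptM (fun _ : Fin t => (1 : Matrix (Fin k) (Fin k) F)) = 1 := by
  ext a b
  simp only [ptM, Matrix.one_apply]
  rw [Finset.prod_ite_zero]
  simp only [Finset.prod_const_one, Finset.mem_univ, forall_true_left]
  by_cases h : a = b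
  · subst h
    simp
  · have : ¬ ∀ i, a i = b i := fun h' => h (funext h')
    simp [h, this]

theorem ptM_transpose' (gs : Fin t → Matrix (Fin k) (Fin k) F) :
    (ptM gs)ᵀ = ptM (fun i => (gs i)ᵀ) := by
  ext a b
  rfl

theorem ptM_mulVec_pureV' (gs : Fin t → Matrix (Fin k) (Fin k) F) (xs : Fin t → Fin k → F) :
    ptM gs *ᵥ pureV xs = pureV (fun i => gs i *ᵥ xs i) := by
  ext a
  simp only [Matrix.mulVec, dotProduct, ptM, pureV]
  rw [Finset.prod_univ_sum, Fintype.piFinset_univ]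
  refine Finset.sum_congr rfl fun d _ => ?_
  rw [Finset.prod_mul_distrib]

theorem gram_eq' (c : F) : gram k t c = c • ptM (fun _ => Jm k F) := by
  ext a b
  rfl

/-- `x ↦ x ⬝ᵥ J x` vanishes in characteristic two when `k` is even. -/
theorem Jm_alt (h2 : (2 : F) = 0) (hk : Even k) (x : Fin k → F) :
    x ⬝ᵥ (Jm k F *ᵥ x) = 0 := by
  have h1 : ∀ i : Fin k, (Jm k F *ᵥ x) i = x (Fin.rev i) := by
    intro i
    simp only [Matrix.mulVec, dotProduct, Jm]
    simp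
  simp only [dotProduct, h1]
  refine Finset.sum_involution (fun i _ => Fin.rev i) ?_ ?_ ?_ ?_
  · intro i _
    rw [Fin.rev_rev]
    have : x i * x (Fin.rev i) + x (Fin.rev i) * x i = 2 * (x i * x (Fin.rev i)) := by ring
    rw [this, h2, zero_mul]
  · intro i _ _ h
    obtain ⟨m, hm⟩ := hk
    have := congrArg Fin.val h
    rw [Fin.val_rev] at this
    have := i.isLt
    omega
  · intro i _
    exact Finset.mem_univ _
  · intro i _
    exact Fin.rev_rev i

theorem Jm_nd (u : Fin k → F) (h : ∀ v, u ⬝ᵥ (Jm k F *ᵥ v) = 0) : u = 0 := by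
  funext i
  have := h (Pi.single (Fin.rev i) 1)
  have h1 : (Jm k F *ᵥ (Pi.single (Fin.rev i) 1 : Fin k → F)) = Pi.single i 1 := by
    funext j
    rw [Matrix.mulVec_single_one]
    show (if Fin.rev i = Fin.rev j then (1 : F) else 0) = (Pi.single i (1 : F) : Fin k → F) j
    rw [Pi.single_apply]
    simp only [Fin.rev_inj]
    by_cases hij : i = j
    · subst hij; simp
    · have : ¬ j = i := fun h => hij h.symm
      simp [hij, this]
  rw [h1] at this
  simpa using this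

end aux


section transport
variable {F : Type*} [Field F] {k t n : ℕ}

theorem submatrix_mulVec_comp (e : Fin n ≃ Idx k t) (M : Matrix (Idx k t) (Idx k t) F)
    (w : Idx k t → F) : (M.submatrix e e) *ᵥ (w ∘ e) = (M *ᵥ w) ∘ e := by
  funext i
  simp only [Matrix.mulVec, dotProduct, Matrix.submatrix_apply, Function.comp_apply]
  exact Equiv.sum_comp e (fun b => M (e i) b * w b)

theorem mem_iso_iff {ι : Type} [Fintype ι] [DecidableEq ι] (Q : (ι → F) → F) (g : GL ι F) :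
    g ∈ Cfsg.isometryGroup F Q ↔ ∀ u : ι → F, Q ((g : Matrix ι ι F) *ᵥ u) = Q u :=
  ⟨fun h u => h u u, fun h u _ => h u⟩

theorem map_conj_eq_self {G : Type*} [Group G] (H : Subgroup G) (b : G) (hb : b ∈ H) :
    H.map (MulAut.conj b).toMonoidHom = H := by
  ext x
  constructor
  · rintro ⟨y, hy, rfl⟩
    exact H.mul_mem (H.mul_mem hb hy) (H.inv_mem hb)
  · intro hx
    refine ⟨b⁻¹ * x * b, H.mul_mem (H.mul_mem (H.inv_mem hb) hx) hb, ?_⟩
    show b * (b⁻¹ * x * b) * b⁻¹ = x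
    group

end transport

section main
variable {F : Type*} [Field F] {k t n : ℕ}

theorem conj_reindex_mulVec (e : Fin n ≃ Idx k t) (P P' : Matrix (Fin n) (Fin n) F)
    (hP : P' * P = 1) (β β' : Matrix (Idx k t) (Idx k t) F) (hβ : β' * β = 1)
    (h : Matrix (Idx k t) (Idx k t) F) (x : Idx k t → F) :
    (P * ((β * h * β').submatrix e e) * P') *ᵥ (P *ᵥ ((β *ᵥ x) ∘ e)) =
      P *ᵥ ((β *ᵥ (h *ᵥ x)) ∘ e) := by
  rw [Matrix.mulVec_mulVec, Matrix.mul_assoc _ P' P, hP, Matrix.mul_one, ← Matrix.mulVec_mulVec,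
    submatrix_mulVec_comp, Matrix.mulVec_mulVec, Matrix.mul_assoc _ β' β, hβ, Matrix.mul_one,
    ← Matrix.mulVec_mulVec]

theorem dot_conj {ι : Type*} [Fintype ι] (A M : Matrix ι ι F) (x y : ι → F) :
    (A *ᵥ x) ⬝ᵥ (M *ᵥ (A *ᵥ y)) = x ⬝ᵥ ((Aᵀ * M * A) *ᵥ y) := by
  rw [← Matrix.mulVec_mulVec, ← Matrix.mulVec_mulVec, Matrix.dotProduct_mulVec x Aᵀ,
    Matrix.vecMul_transpose]

/-- MODULE [BRIDGE] -/
theorem bridge {F : Type*} [Field F] [Fintype F] {n : ℕ} (Q : (Fin n → F) → F)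
    (hQ : Cfsg.Geo.IsNondegenerateQuadraticForm Q) (h2 : (2 : F) = 0) (k t : ℕ)
    (e : (Fin n) ≃ (Fin t → Fin k)) (P : Matrix.GeneralLinearGroup (Fin n) F)
    (f₁ : (Fin k → F) → (Fin k → F) → F) (hf₁ : Cfsg.Geo.IsSymplecticForm f₁)
    (hT : Cfsg.Geo.IsTensorPowerFormStructure id (QuadraticMap.polar Q) f₁ e P)
    (hpure : ∀ xs : Fin t → (Fin k → F),
      Q (Matrix.mulVec (P : Matrix (Fin n) (Fin n) F)
        ((fun a : Fin t → Fin k => ∏ i, xs i (a i)) ∘ e)) = 0) :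
    Even k ∧ ∃ (c : F) (Q' : (Idx k t → F) → F) (Ψ : GL (Idx k t) F ≃* GL (Fin n) F),
      c ≠ 0 ∧ (∀ (r : F) (v : Idx k t → F), Q' (r • v) = r ^ 2 * Q' v) ∧
      (∀ x y, QuadraticMap.polar Q' x y = x ⬝ᵥ (gram k t c *ᵥ y)) ∧
      (∀ xs : Fin t → Fin k → F, Q' (pureV xs) = 0) ∧
      (Cfsg.Geo.tensorWreathStandard k t F).map Ψ.toMonoidHom =
        Cfsg.Geo.tensorWreathSubgroup k t e P ∧
      (Cfsg.Geo.omegaGL Q').map Ψ.toMonoidHom = Cfsg.Geo.omegaGL Q := by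
  classical
  obtain ⟨c, hc, hform⟩ := hT
  -- the bilinear forms
  let B₁ : LinearMap.BilinForm F (Fin k → F) :=
    LinearMap.mk₂ F f₁ hf₁.bilinear.add_left
      (fun c x v => by rw [smul_eq_mul]; exact hf₁.bilinear.smul_left c x v)
      hf₁.bilinear.add_right
      (fun c v x => by rw [smul_eq_mul]; exact hf₁.bilinear.smul_right c v x)
  have hB₁ : ∀ x y, B₁ x y = f₁ x y := fun x y => rfl
  have hB₁alt : B₁.IsAlt := fun v => hf₁.alternating v
  have hB₁nd : ∀ u, (∀ v, B₁ u v = 0) → u = 0 := by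
    intro u hu
    by_contra hne
    obtain ⟨x, hx⟩ := (hf₁.nondegenerate u hne).2
    exact hx (hu x)
  obtain ⟨m, hm⟩ := Cfsg.Agent.Lib.Helper37.AltIso.exists_finrank_eq_two_mul B₁ hB₁alt hB₁nd
  have hk : k = 2 * m := by
    rw [Module.finrank_fin_fun] at hm
    exact hm
  have hkeven : Even k := ⟨m, by omega⟩
  refine ⟨hkeven, ?_⟩
  let BJ : LinearMap.BilinForm F (Fin k → F) := Matrix.toBilin' (Jm k F)
  have hBJ : ∀ x y, BJ x y = x ⬝ᵥ (Jm k F *ᵥ y) := fun x y => Matrix.toBilin'_apply' _ _ _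
  have hBJalt : BJ.IsAlt := fun v => by rw [hBJ]; exact Jm_alt h2 hkeven v
  have hBJnd : ∀ u, (∀ v, BJ u v = 0) → u = 0 :=
    fun u hu => Jm_nd u (fun v => by rw [← hBJ]; exact hu v)
  obtain ⟨cc, hcc⟩ :=
    Cfsg.Agent.Lib.Helper37.AltIso.exists_isometry_of_alt B₁ BJ hB₁alt hBJalt hB₁nd hBJnd
  -- the matrix of cc
  set Bm : Matrix (Fin k) (Fin k) F :=
    LinearMap.toMatrix' (cc : (Fin k → F) →ₗ[F] (Fin k → F)) with hBm
  set Bm' : Matrix (Fin k) (Fin k) F :=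
    LinearMap.toMatrix' (cc.symm : (Fin k → F) →ₗ[F] (Fin k → F)) with hBm'
  have hBB' : Bm * Bm' = 1 := by
    rw [hBm, hBm', ← LinearMap.toMatrix'_comp]
    have : (cc : (Fin k → F) →ₗ[F] (Fin k → F)).comp
        (cc.symm : (Fin k → F) →ₗ[F] (Fin k → F)) = LinearMap.id := by
      ext x; simp
    rw [this, LinearMap.toMatrix'_id]
  have hB'B : Bm' * Bm = 1 := by
    rw [hBm, hBm', ← LinearMap.toMatrix'_comp]
    have : (cc.symm : (Fin k → F) →ₗ[F] (Fin k → F)).comp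
        (cc : (Fin k → F) →ₗ[F] (Fin k → F)) = LinearMap.id := by
      ext x; simp
    rw [this, LinearMap.toMatrix'_id]
  have hG : Bmᵀ * Cfsg.Geo.gramMatrix f₁ * Bm = Jm k F := by
    have h1 : B₁.comp (cc : (Fin k → F) →ₗ[F] (Fin k → F))
        (cc : (Fin k → F) →ₗ[F] (Fin k → F)) = BJ :=
      LinearMap.ext₂ (fun x y => hcc x y)
    have h2' : LinearMap.BilinForm.toMatrix' B₁ = Cfsg.Geo.gramMatrix f₁ := by
      ext a b
      rw [LinearMap.BilinForm.toMatrix'_apply]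
      rfl
    rw [← h2', hBm, ← LinearMap.BilinForm.toMatrix'_comp, h1,
      LinearMap.BilinForm.toMatrix'_toBilin']
  set βM : Matrix (Idx k t) (Idx k t) F := ptM (fun _ => Bm) with hβM
  set βM' : Matrix (Idx k t) (Idx k t) F := ptM (fun _ => Bm') with hβM'
  have hββ' : βM * βM' = 1 := by
    rw [hβM, hβM', ptM_mul']
    simp only [hBB']
    exact ptM_one'
  have hβ'β : βM' * βM = 1 := by
    rw [hβM, hβM', ptM_mul']
    simp only [hB'B]
    exact ptM_one'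
  let βU : GL (Idx k t) F := ⟨βM, βM', hββ', hβ'β⟩
  let BU : GL (Fin k) F := ⟨Bm, Bm', hBB', hB'B⟩
  have hβmem : βU ∈ Cfsg.Geo.tensorWreathStandard k t F :=
    Subgroup.subset_closure (Or.inl ⟨fun _ => BU, fun x y => rfl⟩)
  let θ : (Idx k t → F) → (Fin n → F) :=
    fun x => (P : Matrix (Fin n) (Fin n) F) *ᵥ ((βM *ᵥ x) ∘ e)
  have hθadd : ∀ x y, θ (x + y) = θ x + θ y := by
    intro x y
    show (P : Matrix (Fin n) (Fin n) F) *ᵥ ((βM *ᵥ (x + y)) ∘ e) = _
    rw [Matrix.mulVec_add]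
    have : (βM *ᵥ x + βM *ᵥ y) ∘ e = (βM *ᵥ x) ∘ e + (βM *ᵥ y) ∘ e := rfl
    rw [this, Matrix.mulVec_add]
  have hθsmul : ∀ (r : F) x, θ (r • x) = r • θ x := by
    intro r x
    show (P : Matrix (Fin n) (Fin n) F) *ᵥ ((βM *ᵥ (r • x)) ∘ e) = _
    rw [Matrix.mulVec_smul]
    have : (r • (βM *ᵥ x)) ∘ e = r • ((βM *ᵥ x) ∘ e) := rfl
    rw [this, Matrix.mulVec_smul]
  have hθsurj : Function.Surjective θ := by
    intro u
    refine ⟨βM' *ᵥ ((((P⁻¹ : GL (Fin n) F) : Matrix (Fin n) (Fin n) F) *ᵥ u) ∘ e.symm), ?_⟩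
    show (P : Matrix (Fin n) (Fin n) F) *ᵥ ((βM *ᵥ (βM' *ᵥ _)) ∘ e) = u
    rw [Matrix.mulVec_mulVec, hββ', Matrix.one_mulVec]
    have : ((((P⁻¹ : GL (Fin n) F) : Matrix (Fin n) (Fin n) F) *ᵥ u) ∘ e.symm) ∘ e =
        ((P⁻¹ : GL (Fin n) F) : Matrix (Fin n) (Fin n) F) *ᵥ u := by
      funext i; simp
    rw [this, Matrix.mulVec_mulVec, ← Units.val_mul, mul_inv_cancel, Units.val_one,
      Matrix.one_mulVec]
  let Q' : (Idx k t → F) → F := fun x => Q (θ x)
  let Ψ : GL (Idx k t) F ≃* GL (Fin n) F :=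
    (MulAut.conj βU).trans ((Cfsg.Geo.glReindex e.symm).trans (MulAut.conj P))
  have hΨ : ∀ h : GL (Idx k t) F, ((Ψ h : GL (Fin n) F) : Matrix (Fin n) (Fin n) F) =
      (P : Matrix (Fin n) (Fin n) F) *
        ((βM * (h : Matrix (Idx k t) (Idx k t) F) * βM').submatrix e e) *
        ((P⁻¹ : GL (Fin n) F) : Matrix (Fin n) (Fin n) F) := by
    intro h
    rfl
  have hΨθ : ∀ (h : GL (Idx k t) F) (x : Idx k t → F),
      ((Ψ h : GL (Fin n) F) : Matrix (Fin n) (Fin n) F) *ᵥ θ x =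
        θ ((h : Matrix (Idx k t) (Idx k t) F) *ᵥ x) := by
    intro h x
    rw [hΨ]
    exact conj_reindex_mulVec e _ _ (by rw [← Units.val_mul, inv_mul_cancel, Units.val_one])
      βM βM' hβ'β _ x
  refine ⟨c, Q', Ψ, hc, ?_, ?_, ?_, ?_, ?_⟩
  · intro r v
    show Q (θ (r • v)) = r ^ 2 * Q (θ v)
    rw [hθsmul, hQ.smul]
  · intro x y
    show Q (θ (x + y)) - Q (θ x) - Q (θ y) = _
    rw [hθadd]
    have h1 := hform (βM *ᵥ x) (βM *ᵥ y)
    have h2' : QuadraticMap.polar Q (θ x) (θ y) = Q (θ x + θ y) - Q (θ x) - Q (θ y) := rfl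
    rw [← h2']
    show QuadraticMap.polar Q ((P : Matrix (Fin n) (Fin n) F) *ᵥ ((βM *ᵥ x) ∘ e))
      ((P : Matrix (Fin n) (Fin n) F) *ᵥ ((βM *ᵥ y) ∘ e)) = _
    rw [h1]
    have h3 : ∀ u v : Idx k t → F,
        (∑ a, ∑ b, u a * (∏ i, Cfsg.Geo.gramMatrix f₁ (a i) (b i)) * id (v b)) =
          u ⬝ᵥ (ptM (fun _ => Cfsg.Geo.gramMatrix f₁) *ᵥ v) := by
      intro u v
      simp only [dotProduct, Matrix.mulVec, ptM, id, Finset.mul_sum, mul_assoc]
    have hconj : βMᵀ * ptM (fun _ => Cfsg.Geo.gramMatrix f₁) * βM = ptM (fun _ => Jm k F) := by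
      rw [hβM, ptM_transpose', ptM_mul', ptM_mul']
      simp only [hG]
    rw [h3, dot_conj, hconj, gram_eq', Matrix.smul_mulVec, dotProduct_smul, smul_eq_mul]
  · intro xs
    show Q ((P : Matrix (Fin n) (Fin n) F) *ᵥ ((βM *ᵥ pureV xs) ∘ e)) = 0
    rw [hβM, ptM_mulVec_pureV']
    exact hpure (fun i => Bm *ᵥ xs i)
  · show (Cfsg.Geo.tensorWreathStandard k t F).map Ψ.toMonoidHom =
      (((Cfsg.Geo.tensorWreathStandard k t F).map
        (Cfsg.Geo.glReindex e.symm).toMonoidHom).map (MulAut.conj P).toMonoidHom)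
    conv_rhs => rw [← map_conj_eq_self (Cfsg.Geo.tensorWreathStandard k t F) βU hβmem]
    rw [Subgroup.map_map, Subgroup.map_map]
    rfl
  · have hiso : ∀ h : GL (Idx k t) F,
        h ∈ Cfsg.isometryGroup F Q' ↔ Ψ h ∈ Cfsg.isometryGroup F Q := by
      intro h
      rw [mem_iso_iff, mem_iso_iff]
      constructor
      · intro hh u
        obtain ⟨x, rfl⟩ := hθsurj u
        rw [hΨθ]
        exact hh x
      · intro hh x
        show Q (θ ((h : Matrix (Idx k t) (Idx k t) F) *ᵥ x)) = Q (θ x)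
        rw [← hΨθ]
        exact hh (θ x)
    have hmapiso : (Cfsg.isometryGroup F Q').map Ψ.toMonoidHom = Cfsg.isometryGroup F Q := by
      ext g
      constructor
      · rintro ⟨h, hh, rfl⟩
        exact (hiso h).1 hh
      · intro hg
        refine ⟨Ψ.symm g, (hiso _).2 ?_, ?_⟩
        · rw [MulEquiv.apply_symm_apply]; exact hg
        · exact Ψ.apply_symm_apply g
    unfold Cfsg.Geo.omegaGL Cfsg.Omega
    rw [Subgroup.map_subtype_commutator, Subgroup.map_subtype_commutator,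
      Subgroup.map_commutator, hmapiso]

end main

end Cfsg.Agent.Lib.Helper67.TWBridge
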