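import Mathlib
import Cfsg.Agent.Lib.Helper12.W2pDefs

/-!
# W2P module [IIC] (S0720, helper12): in Case II the even part `G ⊓ Alt` is primitive.
-/

set_option autoImplicit false
set_option linter.unusedVariables false
set_option linter.style.haveILetI false

namespace Cfsg.Agent.Lib.Helper67.W2pIIC

open Cfsg.Agent.Lib.Helper12.W2p
open scoped Pointwise

variable {α : Type*} [Fintype α] [DecidableEq α] {p : ℕ}

omit [Fintype α] [DecidableEq α] in
/-- Lemma A: a block of `K` whose translate by `t` is itself or its complement is a block of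
`G = K ∪ K t`. -/
theorem isBlock_of_coset (K G : Subgroup (Equiv.Perm α)) (t : Equiv.Perm α)
    (hcos : ∀ g ∈ G, g ∈ K ∨ g * t⁻¹ ∈ K) (B : Set α) (hB : MulAction.IsBlock K B)
    (ht : t • B = B ∨ (t • B = Bᶜ ∧ ∀ k ∈ K, k • B = B ∨ k • B = Bᶜ)) :
    MulAction.IsBlock G B := by
  rw [MulAction.isBlock_iff_smul_eq_or_disjoint] at hB ⊢
  intro g
  show (g : Equiv.Perm α) • B = B ∨ Disjoint ((g : Equiv.Perm α) • B) B
  rcases hcos g g.2 with hgK | hgK
  · exact hB ⟨g, hgK⟩
  · have hg : (g : Equiv.Perm α) = ((g : Equiv.Perm α) * t⁻¹) * t := by group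
    rw [hg, mul_smul]
    rcases ht with ht | ⟨ht, hK⟩
    · rw [ht]
      exact hB ⟨_, hgK⟩
    · rw [ht, Set.smul_set_compl]
      rcases hK _ hgK with h | h
      · right
        rw [h]
        exact disjoint_compl_left
      · left
        rw [h, compl_compl]

/-- an element of odd prime order is an even permutation -/
theorem sign_eq_one_of_orderOf_odd (σ : Equiv.Perm α) (hodd : Odd (orderOf σ)) :
    Equiv.Perm.sign σ = 1 := by
  rcases Int.units_eq_one_or (Equiv.Perm.sign σ) with h | h
  · exact h
  · exfalso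
    have h1 : Equiv.Perm.sign σ ^ orderOf σ = 1 := by
      rw [← map_pow, pow_orderOf_eq_one, map_one]
    rw [h, hodd.neg_one_pow] at h1
    exact absurd h1 (by decide)

theorem caseII_prim {G : Subgroup (Equiv.Perm α)} (h : Ctx p G) (π : ↥G) (hπ : orderOf π = p)
    (τ : ↥G) (hτN : τ * π * τ⁻¹ ∈ Subgroup.zpowers π)
    (hsign : Equiv.Perm.sign (τ : Equiv.Perm α) = -1)
    (hswap : ∀ (x : α) (j : ℕ), τ • x ≠ (π ^ j) • x) (a₁ : α)
    (hfix : ∀ x : α, (τ ^ 2) • x = x ↔ (x = a₁ ∨ x = τ • a₁)) :
    MulAction.IsPreprimitive (G ⊓ alternatingGroup α : Subgroup (Equiv.Perm α)) α := by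
  have hp := h.hp
  have hp3 : 3 ≤ p := by
    have := hp.two_le
    have := h.hp2
    omega
  have hpodd : Odd p := hp.odd_of_ne_two h.hp2
  haveI hprim := h.prim
  set K : Subgroup (Equiv.Perm α) := G ⊓ alternatingGroup α with hK
  set σ : Equiv.Perm α := (π : Equiv.Perm α) with hσ
  set t : Equiv.Perm α := (τ : Equiv.Perm α) with ht
  have hσG : σ ∈ G := π.2
  have htG : t ∈ G := τ.2
  have hσord : orderOf σ = p := by rw [hσ, Subgroup.orderOf_coe, hπ]
  have memK : ∀ g : Equiv.Perm α, g ∈ K ↔ g ∈ G ∧ Equiv.Perm.sign g = 1 := by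
    intro g
    rw [hK, Subgroup.mem_inf, Equiv.Perm.mem_alternatingGroup]
  have hσK : σ ∈ K := by
    rw [memK]
    exact ⟨hσG, sign_eq_one_of_orderOf_odd σ (by rw [hσord]; exact hpodd)⟩
  have ht2K : t ^ 2 ∈ K := by
    rw [memK]
    refine ⟨G.pow_mem htG 2, ?_⟩
    rw [map_pow, hsign]
    decide
  have hcos : ∀ g ∈ G, g ∈ K ∨ g * t⁻¹ ∈ K := by
    intro g hg
    rcases Int.units_eq_one_or (Equiv.Perm.sign g) with hs | hs
    · left
      rw [memK]
      exact ⟨hg, hs⟩
    · right
      rw [memK]
      refine ⟨G.mul_mem hg (G.inv_mem htG), ?_⟩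
      rw [map_mul, map_inv, hs, hsign]
      decide
  -- translation of the hypotheses
  have hswap' : ∀ (x : α) (j : ℕ), t x ≠ (σ ^ j) x := by
    intro x j
    have := hswap x j
    exact this
  have hfix' : ∀ x : α, (t ^ 2) x = x ↔ (x = a₁ ∨ x = t a₁) := by
    intro x
    exact hfix x
  have hσfpf : ∀ j : ℕ, ¬ p ∣ j → ∀ x : α, (σ ^ j) x ≠ x := by
    intro j hj x
    apply h.fpf (σ ^ j) (G.pow_mem hσG j)
    have hc : (orderOf σ).Coprime j := by
      rw [hσord]
      exact (Nat.Prime.coprime_iff_not_dvd hp).2 hj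
    rw [hc.orderOf_pow, hσord]
  have hσ1 : σ a₁ ≠ a₁ := by
    have := hσfpf 1 (by
      intro hd
      have := Nat.le_of_dvd one_pos hd
      omega) a₁
    rwa [pow_one] at this
  -- transitivity of `K`
  have htrans : MulAction.IsPretransitive K α := by
    have hnorm : ((alternatingGroup α).subgroupOf G).Normal :=
      Subgroup.Normal.subgroupOf (inferInstance : (alternatingGroup α).Normal) G
    have hne : MulAction.fixedPoints ((alternatingGroup α).subgroupOf G) α ≠ Set.univ := by
      intro hall
      have : a₁ ∈ MulAction.fixedPoints ((alternatingGroup α).subgroupOf G) α := by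
        rw [hall]; trivial
      rw [MulAction.mem_fixedPoints] at this
      have h1 := this ⟨π, by
        rw [Subgroup.mem_subgroupOf]
        exact ((memK σ).1 hσK).2⟩
      exact hσ1 h1
    have h2 := MulAction.IsQuasiPreprimitive.isPretransitive_of_normal
      (G := G) (X := α) (N := (alternatingGroup α).subgroupOf G) hne
    constructor
    intro x y
    obtain ⟨n, hn⟩ := h2.exists_smul_eq x y
    have hn2 := n.2
    rw [Subgroup.mem_subgroupOf] at hn2
    exact ⟨⟨((n : G) : Equiv.Perm α), Subgroup.mem_inf.2 ⟨(n : G).2, hn2⟩⟩, hn⟩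
  have hcardα : Nat.card α = 2 * p := by rw [Nat.card_eq_fintype_card, h.hα]
  apply MulAction.IsPreprimitive.of_isTrivialBlock_base a₁
  intro B ha₁ hB
  -- block facts for `K`
  have hBK : ∀ k ∈ K, ∀ a ∈ B, k a ∈ B → k • B = B := by
    intro k hk a ha hka
    have := hB.smul_eq_of_mem (g := (⟨k, hk⟩ : K)) ha hka
    exact this
  have hBK' : ∀ k ∈ K, k • B = B ∨ Disjoint (k • B) B := by
    intro k hk
    exact hB.smul_eq_or_disjoint ⟨k, hk⟩
  have hdvd : B.ncard ∣ 2 * p := by
    rw [← hcardα]
    exact hB.ncard_dvd_card ⟨a₁, ha₁⟩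
  have hBfin : B.Finite := Set.toFinite B
  have hcompl : B.ncard + Bᶜ.ncard = 2 * p := by
    rw [Set.ncard_add_ncard_compl, hcardα]
  have hsmul_card : ∀ g : Equiv.Perm α, (g • B).ncard = B.ncard := by
    intro g
    exact Set.ncard_smul_set g B
  -- it suffices to show `B` is a `G`-block, or trivial
  obtain ⟨d1, d2, hd1, hd2, hd12⟩ := (Nat.dvd_mul).1 hdvd
  have hd1' : d1 = 1 ∨ d1 = 2 := (Nat.dvd_prime Nat.prime_two).1 hd1
  have hd2' : d2 = 1 ∨ d2 = p := (Nat.dvd_prime hp).1 hd2
  have hGblock : MulAction.IsBlock G B → MulAction.IsTrivialBlock B := fun hb =>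
    hprim.isTrivialBlock_of_isBlock hb
  have hcases : B.ncard = 1 ∨ B.ncard = p ∨ B.ncard = 2 ∨ B.ncard = 2 * p := by
    rcases hd1' with h1 | h1 <;> rcases hd2' with h2 | h2 <;> rw [h1, h2] at hd12
    · left; omega
    · right; left; omega
    · right; right; left; omega
    · right; right; right; omega
  rcases hcases with hBp | hBp | hB2 | hB2p
  · -- ncard = 1
    left
    rw [← Set.ncard_le_one_iff_subsingleton]
    omega
  · -- ncard = p
    have hBc : Bᶜ.ncard = p := by omega
    apply hGblock
    -- translates by elements of `K` are `B` or `Bᶜ`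
    have hKB : ∀ k ∈ K, k • B = B ∨ k • B = Bᶜ := by
      intro k hk
      rcases hBK' k hk with h1 | h1
      · exact Or.inl h1
      · right
        apply Set.eq_of_subset_of_ncard_le
        · exact Set.subset_compl_iff_disjoint_right.2 h1
        · rw [hBc, hsmul_card, hBp]
        · exact Set.toFinite _
    -- `σ² B = B`
    have hσ2 : (σ ^ 2) • B = B := by
      rw [pow_two, mul_smul]
      rcases hKB σ hσK with h1 | h1
      · rw [h1, h1]
      · rw [h1, Set.smul_set_compl, h1, compl_compl]
    have hσ2k : ∀ k : ℕ, ((σ ^ 2) ^ k) • B = B := by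
      intro k
      induction k with
      | zero => simp
      | succ k ih => rw [pow_succ, mul_smul, hσ2, ih]
    have hσB : σ • B = B := by
      obtain ⟨j, hj⟩ := hpodd
      have : σ = (σ ^ 2) ^ (j + 1) := by
        rw [← pow_mul]
        have : 2 * (j + 1) = orderOf σ + 1 := by rw [hσord]; omega
        rw [this, pow_succ, pow_orderOf_eq_one, one_mul]
      rw [this]
      exact hσ2k (j + 1)
    have hσjB : ∀ j : ℕ, (σ ^ j) • B = B := by
      intro j
      induction j with
      | zero => simp
      | succ j ih => rw [pow_succ, mul_smul, hσB, ih]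
    have horb : ∀ j : ℕ, (σ ^ j) a₁ ∈ B := by
      intro j
      have : (σ ^ j) • a₁ ∈ (σ ^ j) • B := Set.smul_mem_smul_set ha₁
      rw [hσjB j] at this
      exact this
    -- `B` is the orbit
    have hinj : Set.InjOn (fun j : ℕ => (σ ^ j) a₁) (Finset.range p : Set ℕ) := by
      intro i hi j hj hij
      simp only [Finset.coe_range, Set.mem_Iio] at hi hj
      simp only at hij
      by_contra hne
      rcases Nat.lt_or_gt_of_ne hne with hlt | hlt
      · apply hσfpf (j - i) (by
          intro hd
          have := Nat.le_of_dvd (by omega) hd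
          omega) ((σ ^ i) a₁)
        rw [← Equiv.Perm.mul_apply, ← pow_add, Nat.sub_add_cancel hlt.le, hij]
      · apply hσfpf (i - j) (by
          intro hd
          have := Nat.le_of_dvd (by omega) hd
          omega) ((σ ^ j) a₁)
        rw [← Equiv.Perm.mul_apply, ← pow_add, Nat.sub_add_cancel hlt.le, hij]
    have himg : (fun j : ℕ => (σ ^ j) a₁) '' (Finset.range p : Set ℕ) = B := by
      apply Set.eq_of_subset_of_ncard_le
      · rintro _ ⟨j, _, rfl⟩
        exact horb j
      · rw [Set.InjOn.ncard_image hinj, Set.ncard_coe_finset, Finset.card_range, hBp]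
      · exact hBfin
    -- `t B` is disjoint from `B`
    have htB : t • B = Bᶜ := by
      apply Set.eq_of_subset_of_ncard_le
      · rintro _ ⟨b, hb, rfl⟩
        show t b ∈ Bᶜ
        intro htb
        rw [← himg] at hb htb
        obtain ⟨j, _, rfl⟩ := hb
        obtain ⟨i, _, hi⟩ := htb
        simp only at hi
        apply hswap' ((σ ^ j) a₁) (i + (p - 1) * j)
        rw [← hi, ← Equiv.Perm.mul_apply, ← pow_add]
        have : i + (p - 1) * j + j = i + p * j := by
          have : (p - 1) * j + j = p * j := by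
            rw [← Nat.succ_mul]
            congr 1
            omega
          omega
        rw [this, pow_add, pow_mul, ← hσord, pow_orderOf_eq_one, one_pow, mul_one]
      · rw [hBc, hsmul_card, hBp]
      · exact Set.toFinite _
    exact isBlock_of_coset K G t hcos B hB (Or.inr ⟨htB, hKB⟩)
  · -- ncard = 2
    apply hGblock
    obtain ⟨x, y, hxy, hBxy⟩ := Set.ncard_eq_two.1 hB2
    -- wlog `x = a₁`
    have key : ∀ γ : α, γ ≠ a₁ → B = {a₁, γ} → t • B = B := by
      intro γ hγ hBγ
      have hγB : γ ∈ B := by rw [hBγ]; simp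
      have hfa : (t ^ 2) a₁ = a₁ := (hfix' a₁).2 (Or.inl rfl)
      have h2B : (t ^ 2) • B = B := hBK (t ^ 2) ht2K a₁ ha₁ (by rw [hfa]; exact ha₁)
      have h2γ : (t ^ 2) γ ∈ B := by
        have : (t ^ 2) • γ ∈ (t ^ 2) • B := Set.smul_mem_smul_set hγB
        rw [h2B] at this
        exact this
      have h2γ' : (t ^ 2) γ = γ := by
        rw [hBγ] at h2γ
        rcases h2γ with h1 | h1
        · exfalso
          apply hγ
          apply (t ^ 2).injective
          rw [h1, hfa]
        · exact h1
      have hγt : γ = t a₁ := by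
        rcases (hfix' γ).1 h2γ' with h1 | h1
        · exact absurd h1 hγ
        · exact h1
      rw [hBγ, hγt]
      ext z
      rw [Set.mem_smul_set]
      constructor
      · rintro ⟨w, hw, rfl⟩
        rcases hw with rfl | hw
        · show t w ∈ _
          simp
        · rw [Set.mem_singleton_iff] at hw
          subst hw
          show t (t a₁) ∈ _
          have : t (t a₁) = (t ^ 2) a₁ := by rw [pow_two, Equiv.Perm.mul_apply]
          rw [this, hfa]
          simp
      · intro hz
        rcases hz with rfl | hz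
        · refine ⟨t z, by simp, ?_⟩
          show t (t z) = z
          have : t (t z) = (t ^ 2) z := by rw [pow_two, Equiv.Perm.mul_apply]
          rw [this, hfa]
        · rw [Set.mem_singleton_iff] at hz
          subst hz
          exact ⟨a₁, by simp, rfl⟩
    have htB : t • B = B := by
      rw [hBxy] at ha₁
      rcases ha₁ with h1 | h1
      · subst h1
        exact key y (Ne.symm hxy) hBxy
      · rw [Set.mem_singleton_iff] at h1
        subst h1
        exact key x hxy (by rw [hBxy, Set.pair_comm])
    exact isBlock_of_coset K G t hcos B hB (Or.inl htB)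
  · -- ncard = 2p
    right
    apply hB.eq_univ_of_card_lt
    rw [hcardα, hB2p]
    have := hp.pos
    omega

end Cfsg.Agent.Lib.Helper67.W2pIIC
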