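import Mathlib

/-!
Derived series of `p`-groups acting with small orbits, and of regular wreath products
(helper67; the content of helper67's proof of S4014, kept as a library).
-/

set_option autoImplicit false

namespace Cfsg.Agent.Lib.Helper67



universe u v

theorem derivedSeries_succ_le_map {G : Type*} [Group G] (M : Subgroup G)
    (hM : commutator G ≤ M) :
    ∀ n : ℕ, derivedSeries G (n+1) ≤ (derivedSeries M n).map M.subtype := by
  intro n
  induction n with
  | zero =>
    rw [derivedSeries_succ, derivedSeries_zero, derivedSeries_zero, ← commutator_def]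
    intro x hx
    exact ⟨⟨x, hM hx⟩, Subgroup.mem_top _, rfl⟩
  | succ n ih =>
    rw [derivedSeries_succ, derivedSeries_succ (G := M), Subgroup.map_commutator]
    exact Subgroup.commutator_mono ih ih

/-- In a finite `p`-group, every proper subgroup lies in a subgroup containing the derived
subgroup in which it has `p` times smaller index. -/
theorem exists_big_of_ne_top (p : ℕ) [Fact p.Prime] {Q : Type u} [Group Q] [Finite Q]
    (hQ : IsPGroup p Q) (S : Subgroup Q) (hS : S ≠ ⊤) :
    ∃ K : Subgroup Q, commutator Q ≤ K ∧ S ≤ K ∧ S.relIndex K * p = S.index := by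
  have hp : p.Prime := Fact.out
  obtain ⟨q, hq⟩ := IsPGroup.iff_card.mp hQ
  obtain ⟨s, hs⟩ := IsPGroup.iff_card.mp (hQ.to_subgroup S)
  have hsq : s < q := by
    by_contra hcon
    push Not at hcon
    apply hS
    apply Subgroup.eq_top_of_card_eq
    have h1 : Nat.card S ∣ Nat.card Q := Subgroup.card_subgroup_dvd_card S
    rw [hs, hq] at h1
    have h2 : s ≤ q := (Nat.pow_dvd_pow_iff_le_right hp.one_lt).mp h1
    rw [hs, hq, le_antisymm h2 hcon]
  obtain ⟨K, hK1, hK2⟩ := Sylow.exists_subgroup_card_pow_prime_le p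
    (show p ^ (q - 1) ∣ Nat.card Q by rw [hq]; exact pow_dvd_pow p (Nat.sub_le q 1)) S hs
    (by omega)
  have hidx : K.index = p := by
    have h1 := K.card_mul_index
    rw [hK1, hq] at h1
    have h2 : p ^ q = p ^ (q - 1) * p := by
      rw [← pow_succ]; congr 1; omega
    rw [h2] at h1
    exact Nat.eq_of_mul_eq_mul_left (pow_pos hp.pos _) h1
  have hKn : K.Normal := by
    apply Subgroup.normal_of_index_eq_minFac_card
    rw [hidx, hq]
    have hq0 : q ≠ 0 := by omega
    rw [Nat.Prime.pow_minFac hp hq0]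
  refine ⟨K, ?_, hK2, ?_⟩
  · have hcard : Nat.card (Q ⧸ K) = p := by rw [← Subgroup.index_eq_card]; exact hidx
    have : IsCyclic (Q ⧸ K) := isCyclic_of_prime_card hcard
    let _ : CommGroup (Q ⧸ K) := IsCyclic.commGroup
    have := Abelianization.commutator_subset_ker (QuotientGroup.mk' K)
    rwa [QuotientGroup.ker_mk'] at this
  · rw [← hidx]; exact Subgroup.relIndex_mul_index hK2

theorem stabilizer_subgroup_eq {Q : Type u} [Group Q] {α : Type v} [MulAction Q α]
    (N : Subgroup Q) (a : α) :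
    MulAction.stabilizer N a = (MulAction.stabilizer Q a).subgroupOf N := by
  ext x
  rw [MulAction.mem_stabilizer_iff, Subgroup.mem_subgroupOf, MulAction.mem_stabilizer_iff]
  rfl

theorem derived_acts_trivially (p : ℕ) [Fact p.Prime] (α : Type v) :
    ∀ (m : ℕ) (Q : Type u) [Group Q] [Finite Q] [MulAction Q α], IsPGroup p Q →
      (∀ a : α, (MulAction.stabilizer Q a).index ≤ p ^ m) →
      ∀ g ∈ derivedSeries Q m, ∀ a : α, g • a = a := by
  have hp : p.Prime := Fact.out
  intro m
  induction m with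
  | zero =>
    intro Q _ _ _ _ hidx g _ a
    have h1 : (MulAction.stabilizer Q a).index = 1 := by
      have h0 : (MulAction.stabilizer Q a).index ≠ 0 := Subgroup.index_ne_zero_of_finite
      have := hidx a
      simp at this
      omega
    have h2 : MulAction.stabilizer Q a = ⊤ := Subgroup.index_eq_one.mp h1
    have h3 : g ∈ MulAction.stabilizer Q a := by rw [h2]; exact Subgroup.mem_top g
    exact MulAction.mem_stabilizer_iff.mp h3
  | succ m ih =>
    intro Q _ _ _ hQ hidx g hg a
    have key : ∀ b : α, ∃ K : Subgroup Q, commutator Q ≤ K ∧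
        (MulAction.stabilizer Q b).relIndex K ≤ p ^ m := by
      intro b
      by_cases hb : MulAction.stabilizer Q b = ⊤
      · refine ⟨⊤, le_top, ?_⟩
        rw [hb, Subgroup.relIndex_top_left]
        exact Nat.one_le_pow _ _ hp.pos
      · obtain ⟨K, hK1, hK2, hK3⟩ := exists_big_of_ne_top p hQ _ hb
        refine ⟨K, hK1, ?_⟩
        have h1 := hidx b
        rw [← hK3, pow_succ] at h1
        exact Nat.le_of_mul_le_mul_right h1 hp.pos
    choose M hM1 hM2 using key
    obtain ⟨N, hN⟩ : ∃ N : Subgroup Q, N = ⨅ b, M b := ⟨_, rfl⟩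
    have hNle : ∀ b, N ≤ M b := fun b => hN ▸ iInf_le M b
    have hNc : commutator Q ≤ N := hN ▸ le_iInf hM1
    have hNidx : ∀ b : α, (MulAction.stabilizer N b).index ≤ p ^ m := by
      intro b
      rw [stabilizer_subgroup_eq N b]
      refine le_trans ?_ (hM2 b)
      have h0 : (MulAction.stabilizer Q b).relIndex (M b) ≠ 0 := by
        show ((MulAction.stabilizer Q b).subgroupOf (M b)).index ≠ 0
        exact Subgroup.index_ne_zero_of_finite
      exact Subgroup.relIndex_le_of_le_right (hNle b) h0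
    have h1 := derivedSeries_succ_le_map N hNc m hg
    obtain ⟨h, hh, rfl⟩ := h1
    exact ih N (hQ.to_subgroup N) hNidx h hh a




open RegularWreathProduct
open scoped commutatorElement

/-- The subgroup of `D` of first coordinates of base-group elements of `H`. -/
def wreathTopCoord {D Q : Type*} [Group D] [Group Q] (H : Subgroup (D ≀ᵣ Q)) : Subgroup D where
  carrier := {d | ∃ w ∈ H, w.right = 1 ∧ w.left 1 = d}
  one_mem' := ⟨1, H.one_mem, rfl, rfl⟩
  mul_mem' := by
    rintro d₁ d₂ ⟨w₁, hw₁, hr₁, rfl⟩ ⟨w₂, hw₂, hr₂, rfl⟩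
    refine ⟨w₁ * w₂, H.mul_mem hw₁ hw₂, ?_, ?_⟩
    · rw [RegularWreathProduct.mul_right, hr₁, hr₂, mul_one]
    · rw [RegularWreathProduct.mul_left, hr₁]
      simp
  inv_mem' := by
    rintro d ⟨w, hw, hr, rfl⟩
    refine ⟨w⁻¹, H.inv_mem hw, ?_, ?_⟩
    · rw [RegularWreathProduct.inv_right, hr, inv_one]
    · rw [RegularWreathProduct.inv_left, hr]
      simp

theorem mem_wreathTopCoord {D Q : Type*} [Group D] [Group Q] (H : Subgroup (D ≀ᵣ Q)) (d : D) :
    d ∈ wreathTopCoord H ↔ ∃ w ∈ H, w.right = 1 ∧ w.left 1 = d := Iff.rfl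

theorem wreath_derived {D Q : Type*} [Group D] [Group Q] (q₀ : Q) (hq₀ : q₀ ≠ 1) :
    ∀ j : ℕ, derivedSeries D j ≤ wreathTopCoord (derivedSeries (D ≀ᵣ Q) (j+1)) := by
  classical
  intro j
  induction j with
  | zero =>
    intro d _
    rw [mem_wreathTopCoord]
    obtain ⟨a, ha⟩ : ∃ a : D ≀ᵣ Q, a = ⟨Pi.mulSingle 1 d, 1⟩ := ⟨_, rfl⟩
    refine ⟨⁅a, (inl q₀ : D ≀ᵣ Q)⁆, ?_, ?_, ?_⟩
    · rw [derivedSeries_succ, derivedSeries_zero]
      exact Subgroup.commutator_mem_commutator (Subgroup.mem_top _) (Subgroup.mem_top _)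
    · rw [commutatorElement_def]
      simp [ha]
    · rw [commutatorElement_def]
      have h1 : q₀⁻¹ ≠ 1 := by simpa using hq₀
      simp [ha, RegularWreathProduct.mul_left, RegularWreathProduct.inv_left, Pi.mulSingle_apply, h1]
  | succ j ih =>
    rw [derivedSeries_succ, Subgroup.commutator_le]
    intro d₁ hd₁ d₂ hd₂
    obtain ⟨w₁, hw₁, hr₁, rfl⟩ := ih hd₁
    obtain ⟨w₂, hw₂, hr₂, rfl⟩ := ih hd₂
    rw [mem_wreathTopCoord]
    refine ⟨⁅w₁, w₂⁆, ?_, ?_, ?_⟩
    · rw [derivedSeries_succ]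
      exact Subgroup.commutator_mem_commutator hw₁ hw₂
    · rw [commutatorElement_def]
      simp [hr₁, hr₂]
    · rw [commutatorElement_def, commutatorElement_def]
      simp [RegularWreathProduct.mul_left, RegularWreathProduct.inv_left, hr₁, hr₂]

theorem wreath_derived_exists {D Q : Type*} [Group D] [Group Q] (q₀ : Q) (hq₀ : q₀ ≠ 1)
    (j : ℕ) (d : D) (hd : d ∈ derivedSeries D j) :
    ∃ w ∈ derivedSeries (D ≀ᵣ Q) (j+1), w.right = 1 ∧ w.left 1 = d :=
  wreath_derived q₀ hq₀ j hd

theorem iterated_derived (C : Type u) [Group C] (c : C) (hc : c ≠ 1) :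
    ∀ k : ℕ, derivedSeries (IteratedWreathProduct C (k+1)) k ≠ ⊥ := by
  intro k
  induction k with
  | zero =>
    intro h
    rw [derivedSeries_zero] at h
    have h1 : (inl c : IteratedWreathProduct C 0 ≀ᵣ C) ∈ (⊥ : Subgroup (IteratedWreathProduct C 0 ≀ᵣ C)) := by
      have h2 : (⊤ : Subgroup (IteratedWreathProduct C 0 ≀ᵣ C)) = ⊥ := h
      rw [← h2]; exact Subgroup.mem_top _
    rw [Subgroup.mem_bot] at h1
    have h3 := congrArg RegularWreathProduct.right h1
    exact hc h3
  | succ k ih =>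
    obtain ⟨⟨d, hd⟩, hd1⟩ := (Subgroup.ne_bot_iff_exists_ne_one).mp ih
    have hd1' : d ≠ 1 := fun h => hd1 (Subtype.ext h)
    obtain ⟨w, hw, hr, hl⟩ := wreath_derived (D := IteratedWreathProduct C (k+1)) (Q := C) c hc k hd
    intro hbot
    have h1 : w ∈ (⊥ : Subgroup (IteratedWreathProduct C (k+1) ≀ᵣ C)) := by
      have h2 : derivedSeries (IteratedWreathProduct C (k+1) ≀ᵣ C) (k+1) = ⊥ := hbot
      rw [← h2]; exact hw
    rw [Subgroup.mem_bot] at h1
    apply hd1'
    rw [← hl, h1]
    rfl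




theorem derivedSeries_eq_bot_of_injective {A B : Type*} [Group A] [Group B] (f : A →* B)
    (hf : Function.Injective f) (j : ℕ) (h : derivedSeries B j = ⊥) : derivedSeries A j = ⊥ := by
  have h1 := map_derivedSeries_le_derivedSeries f j
  rw [h, le_bot_iff] at h1
  exact (Subgroup.map_eq_bot_iff_of_injective _ hf).mp h1



theorem sylow_perm_derivedSeries_log_eq_bot (p : ℕ) [Fact p.Prime] (n : ℕ) (P : Sylow p (Equiv.Perm (Fin n))) :
    derivedSeries ↥(P : Subgroup (Equiv.Perm (Fin n))) (Nat.log p n) = ⊥ := by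
  have hp : p.Prime := Fact.out
  rw [eq_bot_iff]
  intro g hg
  rw [Subgroup.mem_bot]
  have hidx : ∀ a : Fin n, (MulAction.stabilizer (↥(P : Subgroup (Equiv.Perm (Fin n)))) a).index
      ≤ p ^ (Nat.log p n) := by
    intro a
    have h1 : (MulAction.stabilizer (↥(P : Subgroup (Equiv.Perm (Fin n)))) a).index ∣
        Nat.card (↥(P : Subgroup (Equiv.Perm (Fin n)))) := Subgroup.index_dvd_card _
    obtain ⟨e, he⟩ := IsPGroup.iff_card.mp P.isPGroup'
    rw [he] at h1
    obtain ⟨j, -, hj⟩ := (Nat.dvd_prime_pow hp).mp h1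
    rw [hj]
    apply Nat.pow_le_pow_right hp.pos
    apply Nat.le_log_of_pow_le hp.one_lt
    rw [← hj, MulAction.index_stabilizer]
    calc (MulAction.orbit (↥(P : Subgroup (Equiv.Perm (Fin n)))) a).ncard
        ≤ Nat.card (Fin n) := Set.ncard_le_card _
      _ = n := Nat.card_fin n
  have h2 := derived_acts_trivially p (Fin n) (Nat.log p n) (↥(P : Subgroup (Equiv.Perm (Fin n))))
    P.isPGroup' hidx g hg
  apply Subtype.ext
  apply Equiv.ext
  intro a
  exact h2 a

theorem sylow_perm_derivedSeries_log_pred_ne_bot (p : ℕ) [Fact p.Prime] (n : ℕ) (hn : 1 ≤ n) (P : Sylow p (Equiv.Perm (Fin n)))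
    (hk : 1 ≤ Nat.log p n) :
    derivedSeries ↥(P : Subgroup (Equiv.Perm (Fin n))) (Nat.log p n - 1) ≠ ⊥ := by
  have hp : p.Prime := Fact.out
  intro hbot
  obtain ⟨k, hk'⟩ : ∃ k, Nat.log p n = k + 1 := ⟨Nat.log p n - 1, by omega⟩
  rw [hk', Nat.add_sub_cancel] at hbot
  -- the cyclic group of order p
  have hc : Multiplicative.ofAdd (1 : ZMod p) ≠ 1 := by
    intro h
    have : (1 : ZMod p) = 0 := h
    exact one_ne_zero this
  have hcard : Fintype.card (Fin (k+1) → Multiplicative (ZMod p)) ≤ Fintype.card (Fin n) := by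
    rw [Fintype.card_fun, Fintype.card_multiplicative, ZMod.card, Fintype.card_fin, Fintype.card_fin,
      ← hk']
    exact Nat.pow_log_le_self p (by omega)
  obtain ⟨e⟩ := Function.Embedding.nonempty_of_card_le hcard
  obtain ⟨φ, hφ⟩ : ∃ φ : IteratedWreathProduct (Multiplicative (ZMod p)) (k+1) →* Equiv.Perm (Fin n),
      φ = (Equiv.Perm.viaEmbeddingHom e).comp
        (iteratedWreathToPermHom (Multiplicative (ZMod p)) (k+1)) := ⟨_, rfl⟩
  have hφinj : Function.Injective φ := by
    rw [hφ]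
    exact (Equiv.Perm.viaEmbeddingHom_injective e).comp (iteratedWreathToPermHomInj _ _)
  have hW : IsPGroup p (IteratedWreathProduct (Multiplicative (ZMod p)) (k+1)) := by
    apply IsPGroup.of_card (n := ∑ i ∈ Finset.range (k+1), p ^ i)
    rw [IteratedWreathProduct.card, Nat.card_eq_fintype_card, Fintype.card_multiplicative, ZMod.card]
  have hrange : IsPGroup p φ.range := hW.of_surjective φ.rangeRestrict φ.rangeRestrict_surjective
  obtain ⟨P', hP'⟩ := hrange.exists_le_sylow
  obtain ⟨ψ, hψ⟩ : ∃ ψ : IteratedWreathProduct (Multiplicative (ZMod p)) (k+1) →*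
      ↥(P : Subgroup (Equiv.Perm (Fin n))),
      ψ = (P'.equiv P).toMonoidHom.comp ((Subgroup.inclusion hP').comp φ.rangeRestrict) := ⟨_, rfl⟩
  have hψinj : Function.Injective ψ := by
    rw [hψ]
    refine (P'.equiv P).injective.comp ((Subgroup.inclusion_injective hP').comp ?_)
    exact (MonoidHom.rangeRestrict_injective_iff.mpr hφinj)
  exact iterated_derived _ _ hc k (derivedSeries_eq_bot_of_injective ψ hψinj k hbot)

end Cfsg.Agent.Lib.Helper67
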